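import Mathlib

/-! Root group sequences of Moufang polygons: definitions (for S1143). -/

set_option autoImplicit false

namespace Cfsg.Agent.Bld

open scoped Pointwise commutatorElement

variable {Γ Γ' : Type*} [Group Γ] [Group Γ']

/-- The product set `U k * U (k+1) * ⋯ * U (k+r-1)`. -/
def UP (U : ℤ → Subgroup Γ) : ℤ → ℕ → Set Γ
  | _, 0 => {1}
  | k, r + 1 => (U k : Set Γ) * UP U (k + 1) r

theorem mem_UP_zero {U : ℤ → Subgroup Γ} {k : ℤ} {g : Γ} : g ∈ UP U k 0 ↔ g = 1 := Iff.rfl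

theorem mem_UP_succ {U : ℤ → Subgroup Γ} {k : ℤ} {r : ℕ} {g : Γ} :
    g ∈ UP U k (r + 1) ↔ ∃ a ∈ U k, ∃ b ∈ UP U (k + 1) r, a * b = g := Set.mem_mul

theorem mem_UP_one {U : ℤ → Subgroup Γ} {k : ℤ} {g : Γ} : g ∈ UP U k 1 ↔ g ∈ U k := by
  simp [mem_UP_succ, mem_UP_zero]

theorem mem_UP_two {U : ℤ → Subgroup Γ} {k : ℤ} {g : Γ} :
    g ∈ UP U k 2 ↔ ∃ a ∈ U k, ∃ b ∈ U (k + 1), a * b = g := by
  simp only [mem_UP_succ (r := 1), mem_UP_one]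

/-- `m ∈ U (k+n) a U (k+n)` acts on the root groups as the reflection in the wall of `U k`. -/
def IsMu (U : ℤ → Subgroup Γ) (n : ℕ) (k : ℤ) (a m : Γ) : Prop :=
  (∃ x ∈ U (k + n), ∃ y ∈ U (k + n), m = x * a * y) ∧
    ∀ (l : ℤ) (b : Γ), b ∈ U l ↔ m * b * m⁻¹ ∈ U (2 * k + n - l)

/-- The root groups of an apartment of a Moufang `n`-gon. -/
structure IsPoly (n : ℕ) (U : ℤ → Subgroup Γ) : Prop where
  per : ∀ k, U (k + 2 * n) = U k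
  nt : ∀ k, U k ≠ ⊥
  comm : ∀ (k : ℤ) (r : ℕ), r + 1 < n → ∀ a ∈ U k, ∀ b ∈ U (k + r + 1), ⁅a, b⁆ ∈ UP U (k + 1) r
  uniq : ∀ k, ∀ a ∈ U k, ∀ b ∈ UP U (k + 1) (n - 1), a * b = 1 → a = 1
  mu : ∀ k, ∀ a ∈ U k, a ≠ 1 → ∃ m, IsMu U n k a m

/-- `E` is the graph of an isomorphism `A ≃ A'`. -/
structure IsGr (A : Subgroup Γ) (A' : Subgroup Γ') (E : Subgroup (Γ × Γ')) : Prop where
  le : ∀ x ∈ E, x.1 ∈ A ∧ x.2 ∈ A'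
  fst : ∀ a ∈ A, ∃ a', (a, a') ∈ E
  snd : ∀ a' ∈ A', ∃ a, (a, a') ∈ E
  one : ∀ x ∈ E, x.1 = 1 ↔ x.2 = 1

/-- Isomorphisms `U k ≃ U' k`, `0 ≤ k < n`, compatible with the commutator relations. -/
structure Graph (n : ℕ) (U : ℤ → Subgroup Γ) (U' : ℤ → Subgroup Γ') (D : ℤ → Subgroup (Γ × Γ')) :
    Prop where
  gr : ∀ k : ℤ, 0 ≤ k → k < n → IsGr (U k) (U' k) (D k)
  comm : ∀ (k : ℤ) (r : ℕ), 0 ≤ k → k + r + 1 < n → ∀ x ∈ D k, ∀ y ∈ D (k + r + 1),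
    ⁅x, y⁆ ∈ UP D (k + 1) r

/-- The graph `E` is compatible with the Hua maps of `U 0` and `U' 0`. -/
def Hua (n : ℕ) (U : ℤ → Subgroup Γ) (U' : ℤ → Subgroup Γ') (E : Subgroup (Γ × Γ')) : Prop :=
  ∀ x ∈ E, ∀ y ∈ E, ∀ z ∈ E, ∀ m m₁ : Γ × Γ', x ≠ 1 → y ≠ 1 → IsMu U n 0 x.1 m.1 →
    IsMu U' n 0 x.2 m.2 → IsMu U n 0 y.1 m₁.1 → IsMu U' n 0 y.2 m₁.2 →
      (m * m₁⁻¹) * z * (m * m₁⁻¹)⁻¹ ∈ E

/-- `x` is an isomorphism from the additive group of `K` onto `A`. -/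
structure IsPar {K : Type*} [Field K] (A : Subgroup Γ) (x : K → Γ) : Prop where
  add : ∀ a b, x (a + b) = x a * x b
  inj : Function.Injective x
  mem : ∀ g, g ∈ A ↔ ∃ a, x a = g

/-- Coordinates for a Moufang triangle. -/
structure TriC (U : ℤ → Subgroup Γ) {K : Type*} [Field K] (x0 x1 x2 : K → Γ) : Prop where
  p0 : IsPar (U 0) x0
  p1 : IsPar (U 1) x1
  p2 : IsPar (U 2) x2
  comm : ∀ a b, ⁅x0 a, x2 b⁆ = x1 (a * b)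
  mu0 : ∀ t m, t ≠ 0 → IsMu U 3 0 (x0 t) m →
    (∀ b, m * x2 b * m⁻¹ = x1 (t * b)) ∧ ∀ c, m * x1 c * m⁻¹ = x2 (-t⁻¹ * c)
  mu2 : ∀ t m, t ≠ 0 → IsMu U 3 2 (x2 t) m →
    (∀ a, m * x0 a * m⁻¹ = x1 (-t * a)) ∧ ∀ c, m * x1 c * m⁻¹ = x0 (t⁻¹ * c)

/-- The triangle `T` and the quadrangle `U` of a Moufang building of type `B₃`. -/
structure B3 (T U : ℤ → Subgroup Γ) : Prop where
  tri : IsPoly 3 T
  quad : IsPoly 4 U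
  e0 : T 0 = U 0
  e3 : T 3 = U 4
  comm : ∀ a, a ∈ T 2 ∨ a ∈ T 5 → ∀ b, b ∈ U 3 ∨ b ∈ U 7 → Commute a b
  mu : ∀ a ∈ U 0, a ≠ 1 → ∃ m, IsMu T 3 0 a m ∧ IsMu U 4 0 a m

/-- Two subgroups commute elementwise. -/
def Cm (A B : Subgroup Γ) : Prop := ∀ a ∈ A, ∀ b ∈ B, Commute a b

/-- Coordinates for the quadrangle of a Moufang building of type `B₃`. -/
structure QC (U : ℤ → Subgroup Γ) {K : Type*} [Field K] (x0 x2 : K → Γ) (n e : Γ)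
    (act : K → Γ → Γ) (π : Γ → K) (σ : K ≃+* K) : Prop where
  p0 : IsPar (U 0) x0
  p2 : IsPar (U 2) x2
  n_mem : ∀ u, u ∈ U 3 ↔ n * u * n⁻¹ ∈ U 1
  act_mem : ∀ t, ∀ u ∈ U 3, act t u ∈ U 3
  act_mul : ∀ t, ∀ u ∈ U 3, ∀ v ∈ U 3, act t (u * v) = act t u * act t v
  act_act : ∀ s t, ∀ u ∈ U 3, act s (act t u) = act (s * t) u
  act_one : ∀ u ∈ U 3, act 1 u = u
  c03 : ∀ a, ∀ u ∈ U 3, ⁅x0 a, u⁆ = n * act a u * n⁻¹ * x2 (π u * a)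
  c13 : ∀ t b, ∀ u ∈ U 3, ∀ v ∈ U 3, ⁅n * v * n⁻¹, u⁆ = x2 b →
    ⁅n * act t v * n⁻¹, u⁆ = x2 (t * b)
  c02 : ∀ a b, ⁅x0 a, x2 b⁆ = ⁅x0 1, x2 (σ a * b)⁆
  c02' : ∀ t a b, act t (n⁻¹ * ⁅x0 a, x2 b⁆ * n) = n⁻¹ * ⁅x0 (t * a), x2 (t * b)⁆ * n
  π_ne : ∀ u ∈ U 3, u ≠ 1 → π u ≠ 0
  π_act : ∀ t, ∀ u ∈ U 3, π (act t u) = π (act t e) * π u
  e_mem : e ∈ U 3
  π_e : π e = 1
  one : Cm (U 0) (U 2) → ∀ t, π (act t e) = t ^ 2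
  two : ¬ Cm (U 0) (U 2) → (∀ a, σ (σ a) = a) ∧ ∃ c, ⁅x0 1, x2 c⁆ = n * e * n⁻¹

/-- The possible orders `q`, `t` of the root groups of the quadrangle of a building of type `B₃`;
`A` says that `U 0` and `U 2` commute, `A'` that `U 1` and `U 3` commute. -/
def QPar (q t : ℕ) (A A' : Prop) : Prop :=
  IsPrimePow q ∧ ((A ∧ (t = q ∨ t = q ^ 2)) ∨ (¬ A ∧ t = q ∧ Odd q ∧ A') ∨
    (¬ A ∧ ∃ r, IsPrimePow r ∧ q = r ^ 2 ∧ (t = r ∨ t = r ^ 3)))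

end Cfsg.Agent.Bld
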