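import Mathlib
import Cfsg.Agent.Chev.CoxParabolic

/-! Finite Coxeter systems: longest elements, opposition, dihedral parabolic subgroups (for S1143). -/

set_option autoImplicit false

namespace Cfsg.Agent.Bld

open Cfsg.Agent.Chev CoxeterSystem

variable {B W : Type*} [Group W] {M : CoxeterMatrix B} (cs : CoxeterSystem M W)

/-- The entries of the Coxeter matrix are the orders of the products of generators. -/
class Sph : Prop where
  ord : ∀ i j, orderOf (cs.simple i * cs.simple j) = M i j

theorem simple_ne_one (i : B) : cs.simple i ≠ 1 := fun h => by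
  simpa [h] using cs.length_simple i

theorem mem_par_single {i : B} {w : W} : w ∈ coxPar cs {i} ↔ w = 1 ∨ w = cs.simple i := by
  refine ⟨fun h => ?_, ?_⟩
  · refine coxPar_induction_right cs (p := fun w => w = 1 ∨ w = cs.simple i) (Or.inl rfl) ?_ h
    rintro w - j rfl - (rfl | rfl) <;> simp
  · rintro (rfl | rfl)
    exacts [one_mem _, simple_mem_coxPar cs rfl]

theorem isRightDescent_simple (i : B) : cs.IsRightDescent (cs.simple i) i := by
  simp [isRightDescent_iff]

theorem minRight_single {i : B} {w : W} : IsMinRight cs {i} w ↔ ¬ cs.IsRightDescent w i := by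
  simp [IsMinRight]

/-- The product of an alternating word. -/
def alt (i j : B) (n : ℕ) : W := cs.wordProd (altWord i j n)

@[simp] theorem alt_zero (i j : B) : alt cs i j 0 = 1 := by simp [alt]

theorem alt_succ (i j : B) (n : ℕ) : alt cs i j (n + 1) = cs.simple i * alt cs j i n := by
  simp [alt, altWord_succ, wordProd_cons]

theorem alt_mem (i j : B) (n : ℕ) : alt cs i j n ∈ coxPar cs {i, j} :=
  wordProd_mem_coxPar cs fun _ h => mem_altWord h

theorem alt_eq_iff (i j : B) (n : ℕ) :
    alt cs i j n = alt cs j i n ↔ orderOf (cs.simple i * cs.simple j) ∣ n := by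
  rw [orderOf_dvd_iff_pow_eq_one]
  exact prod_altWord_eq_iff cs.simple i j (cs.simple_mul_simple_self i)
    (cs.simple_mul_simple_self j) n

theorem eq_altWord {i j : B} {l : List B} (hl : cs.IsReduced l) (h : ∀ k ∈ l, k = i ∨ k = j) :
    l = altWord i j l.length ∨ l = altWord j i l.length := by
  induction l with
  | nil => exact Or.inl rfl
  | cons a l ih =>
    have h1 := (isReduced_cons_iff cs).1 hl
    have ha := h a (by simp)
    cases l with
    | nil => rcases ha with rfl | rfl <;> simp [altWord_succ]
    | cons b l =>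
      have h2 : a ≠ b := by
        rintro rfl
        apply h1.2
        rw [wordProd_cons]
        exact cs.isLeftDescent_iff_not_isLeftDescent_mul.2 (by
          simpa using ((isReduced_cons_iff cs).1 h1.1).2)
      rcases ih h1.1 fun k hk => h k (by simp [hk]) with h' | h' <;>
        rw [List.length_cons, altWord_succ, List.cons.injEq] at h' <;> obtain ⟨rfl, h'⟩ := h'
      · right
        rw [List.length_cons, List.length_cons, altWord_succ, altWord_succ, ← h',
          ha.resolve_left h2]
      · left
        rw [List.length_cons, List.length_cons, altWord_succ, altWord_succ, ← h',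
          ha.resolve_right h2]

section Sph

variable [h : Sph cs]

theorem inj : Function.Injective cs.simple := fun i j e => by
  by_contra hne
  have := h.ord i j
  rw [e, simple_mul_simple_self, orderOf_one] at this
  exact M.off_diagonal i j hne this.symm

theorem simple_mem_par {J : Set B} {i : B} : cs.simple i ∈ coxPar cs J ↔ i ∈ J :=
  simple_mem_coxPar_iff cs (inj cs)

theorem mem_of_rightDescent {J : Set B} {w : W} (hw : w ∈ coxPar cs J) {i : B}
    (hi : cs.IsRightDescent w i) : i ∈ J :=
  (simple_mem_par cs).1 (simple_mem_coxPar_of_isRightDescent cs hw hi)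

theorem mem_of_leftDescent {J : Set B} {w : W} (hw : w ∈ coxPar cs J) {i : B}
    (hi : cs.IsLeftDescent w i) : i ∈ J :=
  (simple_mem_par cs).1 (simple_mem_coxPar_of_isLeftDescent cs hw hi)

theorem par_inter {J K : Set B} {w : W} (hJ : w ∈ coxPar cs J) (hK : w ∈ coxPar cs K) :
    w ∈ coxPar cs (J ∩ K) := by
  obtain ⟨ω, h1, h2, rfl⟩ := exists_reduced_of_mem_coxPar cs hJ
  exact wordProd_mem_coxPar cs fun i hi =>
    ⟨h1 i hi, (simple_mem_par cs).1 (simple_mem_coxPar_of_mem_reduced cs h2 hK hi)⟩

theorem length_alt {i j : B} (hij : i ≠ j) {n : ℕ} (hn : n ≤ M i j) :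
    cs.length (alt cs i j n) = n := by
  suffices H : cs.IsReduced (altWord i j n) ∧ cs.IsReduced (altWord j i n) by
    simpa [alt] using H.1.eq
  induction n with
  | zero => exact ⟨isReduced_nil cs, isReduced_nil cs⟩
  | succ n ih =>
    obtain ⟨h1, h2⟩ := ih (by omega)
    have key : ∀ a b : B, a ≠ b → cs.IsReduced (altWord b a n) →
        (n ≠ 0 → alt cs a b n ≠ alt cs b a n) → cs.IsReduced (altWord a b (n + 1)) := by
      intro a b hab h3 h4
      rw [altWord_succ, isReduced_cons_iff]
      refine ⟨h3, fun h5 => ?_⟩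
      obtain ⟨l, h6, h7⟩ := exists_reduced_cons_of_isLeftDescent cs h5
      have h8 : (a :: l).length = n := by rw [← h6, h7, h3, length_altWord]
      have h9 : a :: l = altWord a b n := by
        have h10 := eq_altWord cs (i := a) (j := b) h6 fun k hk => Or.symm
          ((simple_mem_par cs).1 (simple_mem_coxPar_of_mem_reduced cs h6 (J := {b, a}) (by rw [h7]; exact alt_mem cs b a n) hk))
        rw [h8] at h10
        obtain ⟨k, rfl⟩ : ∃ k, n = k + 1 := ⟨_, h8.symm⟩
        refine h10.resolve_right fun e => hab ?_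
        rw [altWord_succ, List.cons.injEq] at e
        exact e.1
      exact h4 (by rw [← h8]; simp) (by rw [alt, ← h9, h7, alt])
    have h3 : n ≠ 0 → alt cs i j n ≠ alt cs j i n := fun h0 e =>
      absurd (Nat.le_of_dvd (by omega) ((alt_eq_iff cs i j n).1 e)) (by rw [h.ord]; omega)
    exact ⟨key i j hij h2 h3, key j i hij.symm h1 fun h0 => (h3 h0).symm⟩

theorem alt_braid (i j : B) : alt cs i j (M i j) = alt cs j i (M i j) :=
  (alt_eq_iff cs i j _).2 (by rw [h.ord])

theorem comm_of_two {i j : B} (e : M i j = 2) : cs.simple i * cs.simple j = cs.simple j * cs.simple i := by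
  simpa [e, alt_succ] using alt_braid cs i j

theorem braid_of_three {i j : B} (e : M i j = 3) : cs.simple i * (cs.simple j * cs.simple i) =
    cs.simple j * (cs.simple i * cs.simple j) := by
  simpa [e, alt_succ] using alt_braid cs i j

theorem braid_of_four {i j : B} (e : M i j = 4) :
    cs.simple i * (cs.simple j * (cs.simple i * cs.simple j)) =
      cs.simple j * (cs.simple i * (cs.simple j * cs.simple i)) := by
  simpa [e, alt_succ] using alt_braid cs i j

end Sph

variable [Finite W]

/-- The longest element of `W_J`. -/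
noncomputable def wl (J : Set B) : W := (exists_isLongest cs J).choose

theorem wl_spec (J : Set B) : IsLongest cs J (wl cs J) := (exists_isLongest cs J).choose_spec

theorem wl_mem (J : Set B) : wl cs J ∈ coxPar cs J := (wl_spec cs J).1

theorem wl_desc {J : Set B} {j : B} (h : j ∈ J) : cs.IsRightDescent (wl cs J) j := (wl_spec cs J).2 j h

@[simp] theorem wl_inv (J : Set B) : (wl cs J)⁻¹ = wl cs J := (wl_spec cs J).inv

@[simp] theorem wl_mul_wl (J : Set B) : wl cs J * wl cs J = 1 := (wl_spec cs J).mul_self

@[simp] theorem wl_mul_wl_mul (J : Set B) (w : W) : wl cs J * (wl cs J * w) = w := by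
  rw [← mul_assoc, wl_mul_wl, one_mul]

@[simp] theorem mul_wl_mul_wl (J : Set B) (w : W) : w * wl cs J * wl cs J = w := by
  rw [mul_assoc, wl_mul_wl, mul_one]

theorem len_mul_wl {J : Set B} {u : W} (hu : u ∈ coxPar cs J) :
    cs.length (u * wl cs J) + cs.length u = cs.length (wl cs J) := (wl_spec cs J).length_mul_add' hu

theorem len_wl_mul {J : Set B} {u : W} (hu : u ∈ coxPar cs J) :
    cs.length (wl cs J * u) + cs.length u = cs.length (wl cs J) := (wl_spec cs J).length_mul_add hu

theorem wl_single (i : B) : wl cs {i} = cs.simple i :=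
  (wl_spec cs {i}).unique ⟨simple_mem_coxPar cs rfl, by rintro _ rfl; exact isRightDescent_simple cs _⟩

theorem wl_empty : wl cs ∅ = 1 := (wl_spec cs ∅).unique ⟨one_mem _, by simp⟩

open Classical in
/-- Opposition on the nodes of `K`. -/
noncomputable def opp (K : Set B) (i : B) : B :=
  if h : i ∈ K then ((wl_spec cs K).exists_conj_simple h).choose else i

theorem opp_mem {K : Set B} {i : B} (h : i ∈ K) : opp cs K i ∈ K := by
  rw [opp, dif_pos h]; exact ((wl_spec cs K).exists_conj_simple h).choose_spec.1

theorem simple_opp {K : Set B} {i : B} (h : i ∈ K) :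
    cs.simple (opp cs K i) = wl cs K * cs.simple i * wl cs K := by
  rw [opp, dif_pos h]; exact ((wl_spec cs K).exists_conj_simple h).choose_spec.2.symm

theorem wl_mul_opp {K : Set B} {i : B} (h : i ∈ K) :
    wl cs K * cs.simple (opp cs K i) = cs.simple i * wl cs K := by
  simp [simple_opp cs h, mul_assoc]

theorem conj_mem_par {J K : Set B} (h : J ⊆ K) {w : W} (hw : w ∈ coxPar cs J) :
    wl cs K * w * wl cs K ∈ coxPar cs (opp cs K '' J) := by
  refine coxPar_induction_right cs (p := fun w => wl cs K * w * wl cs K ∈ coxPar cs (opp cs K '' J))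
    (by simp) (fun w _ i hi _ ih => ?_) hw
  have := mul_mem ih (simple_mem_coxPar cs (Set.mem_image_of_mem (opp cs K) hi))
  rw [simple_opp cs (h hi)] at this
  simpa [mul_assoc] using this

theorem len_conj {K : Set B} {w : W} (hw : w ∈ coxPar cs K) :
    cs.length (wl cs K * w * wl cs K) = cs.length w := by
  have h1 := len_wl_mul cs hw
  have h2 := len_mul_wl cs (mul_mem (wl_mem cs K) hw)
  omega

theorem opp_image_subset {J K : Set B} (h : J ⊆ K) : opp cs K '' J ⊆ K := by
  rintro _ ⟨i, hi, rfl⟩; exact opp_mem cs (h hi)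

theorem wl_opp {J K : Set B} (h : J ⊆ K) : wl cs (opp cs K '' J) = wl cs K * wl cs J * wl cs K := by
  refine (wl_spec cs _).unique ⟨conj_mem_par cs h (wl_mem cs J), ?_⟩
  rintro _ ⟨i, hi, rfl⟩
  have h1 := wl_desc cs hi
  have h2 := coxPar_mono cs h (wl_mem cs J)
  rw [IsRightDescent] at h1 ⊢
  rw [len_conj cs h2, ← len_conj cs (mul_mem h2 (simple_mem_coxPar cs (h hi)))] at *
  simpa [simple_opp cs (h hi), mul_assoc] using h1

theorem min_wl {J K : Set B} (h : J ⊆ K) : IsMinRight cs J (wl cs K * wl cs J) := by
  refine isMinRight_of_min cs fun v hv => ?_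
  have h1 := len_wl_mul cs (coxPar_mono cs h (wl_mem cs J))
  have h2 := len_wl_mul cs (coxPar_mono cs h (mul_mem (wl_mem cs J) hv))
  have h3 := len_wl_mul cs hv
  rw [mul_assoc]
  omega

theorem min_wl' {J K : Set B} (h : J ⊆ K) : IsMinRight cs (opp cs K '' J) (wl cs J * wl cs K) := by
  simpa [wl_opp cs h, mul_assoc] using min_wl cs (opp_image_subset cs h)

variable [hs : Sph cs]

theorem opp_opp (K : Set B) (i : B) : opp cs K (opp cs K i) = i := by
  by_cases h : i ∈ K
  · exact inj cs (by simp [simple_opp cs (opp_mem cs h), simple_opp cs h, mul_assoc])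
  · simp [opp, h]

theorem opp_image_image (K J : Set B) : opp cs K '' (opp cs K '' J) = J := by
  simp [Set.image_image, opp_opp]

include cs in
theorem M_pos (i j : B) : 0 < M i j := hs.ord i j ▸ orderOf_pos _

theorem exists_alt {i j : B} {w : W} (hw : w ∈ coxPar cs {i, j}) :
    ∃ n ≤ M i j, w = alt cs i j n ∨ w = alt cs j i n := by
  obtain ⟨ω, h1, h2, rfl⟩ := exists_reduced_of_mem_coxPar cs hw
  have h3 := eq_altWord cs h2 h1
  refine ⟨ω.length, ?_, h3.imp (congrArg _) (congrArg _)⟩
  by_contra hlt
  have key : ∀ a b, cs.IsReduced (altWord a b ω.length) → M a b < ω.length → False := by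
    intro a b h4 h5
    have h6 := (h4.take (M a b + 1)).eq
    rw [take_altWord a b h5, length_altWord, altWord_succ, wordProd_cons] at h6
    have h7 := alt_braid cs b a
    rw [M.symmetric b a] at h7
    obtain ⟨k, hk⟩ : ∃ k, M a b = k + 1 := ⟨_, (Nat.succ_pred_eq_of_pos (M_pos cs a b)).symm⟩
    rw [← alt, h7, hk, alt_succ, simple_mul_simple_cancel_left] at h6
    have h8 := cs.length_wordProd_le (altWord b a k)
    rw [length_altWord, ← alt] at h8
    omega
  rcases h3 with e | e
  · exact key i j (e ▸ h2) (by omega)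
  · exact key j i (e ▸ h2) (by rw [M.symmetric]; omega)

theorem wl_pair {i j : B} (hij : i ≠ j) : wl cs {i, j} = alt cs i j (M i j) := by
  refine (wl_spec cs _).unique (isLongest_of_max cs (alt_mem cs i j _) fun u hu => ?_)
  obtain ⟨n, hn, rfl | rfl⟩ := exists_alt cs hu
  · rwa [length_alt cs hij hn, length_alt cs hij le_rfl]
  · rwa [length_alt cs hij.symm (M.symmetric i j ▸ hn), length_alt cs hij le_rfl]

end Cfsg.Agent.Bld
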