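import Mathlib

/-! Coxeter diagrams: definitions (for S1143). -/

set_option autoImplicit false

namespace Cfsg.Agent.Bld

variable {B : Type*}

/-- The Coxeter matrix of type `Dₙ` (the fork is at the end). -/
def MD (n : ℕ) : CoxeterMatrix (Fin n) where
  M := Matrix.of fun i j : Fin n => if i = j then 1 else
    if ((i : ℕ) + 1 = j ∧ (j : ℕ) + 1 ≠ n) ∨ ((j : ℕ) + 1 = i ∧ (i : ℕ) + 1 ≠ n) ∨
      ((i : ℕ) + 2 = j ∧ (j : ℕ) + 1 = n) ∨ ((j : ℕ) + 2 = i ∧ (i : ℕ) + 1 = n) then 3 else 2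
  isSymm := by
    ext i j
    simp only [Matrix.transpose_apply, Matrix.of_apply, eq_comm (a := j) (b := i)]
    congr 2
    exact propext (by tauto)
  diagonal := by simp
  off_diagonal := by
    intro i j h
    simp only [Matrix.of_apply, if_neg h]
    split_ifs <;> simp

/-- `M` is `M₀` up to the numbering of the nodes. -/
def IsTy (M : CoxeterMatrix B) {n : ℕ} (M₀ : CoxeterMatrix (Fin n)) : Prop :=
  ∃ e : Fin n ≃ B, ∀ i j, M (e i) (e j) = M₀ i j

/-- The Coxeter diagram is connected. -/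
def Conn (M : CoxeterMatrix B) : Prop :=
  ∀ J : Set B, J.Nonempty → Jᶜ.Nonempty → ∃ i ∈ J, ∃ j ∉ J, M i j ≠ 2

/-- The off-diagonal entries allowed by the Feit–Higman theorem. -/
def FH (M : CoxeterMatrix B) : Prop :=
  ∀ i j, i ≠ j → M i j = 2 ∨ M i j = 3 ∨ M i j = 4 ∨ M i j = 6 ∨ M i j = 8

/-- The Gram matrix of the geometric representation. -/
noncomputable def gram (M : CoxeterMatrix B) : Matrix B B ℝ :=
  Matrix.of fun i j => -Real.cos (Real.pi / M i j)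

/-- The diagram is a tree grown from the edge `j₀ k₀` by adding simple edges in the order `ρ`. -/
structure Grow (M : CoxeterMatrix B) (j₀ k₀ : B) (ρ : B → ℕ) : Prop where
  inj : Function.Injective ρ
  zero : ρ j₀ = 0
  one : ρ k₀ = 1
  edge : M j₀ k₀ = 3 ∨ M j₀ k₀ = 4
  step : ∀ t, t ≠ j₀ → t ≠ k₀ → ∃ j g, ρ j < ρ t ∧ ρ g < ρ t ∧ M t j = 3 ∧ (M g j = 3 ∨ M g j = 4) ∧
    ∀ u, ρ u < ρ t → u ≠ j → M t u = 2

/-- The nodes `i, j, k` form a subdiagram of type `A₃` or `B₃`. -/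
structure Rk3 (M : CoxeterMatrix B) (i j k : B) : Prop where
  ij : M i j = 3
  jk : M j k = 3 ∨ M j k = 4
  ik : M i k = 2

/-- On `K` the entries are at most `4` and the diagram has no triangle. -/
structure NoTri (M : CoxeterMatrix B) (K : Set B) : Prop where
  le : ∀ i ∈ K, ∀ j ∈ K, i ≠ j → M i j = 2 ∨ M i j = 3 ∨ M i j = 4
  tri : ∀ i ∈ K, ∀ j ∈ K, ∀ k ∈ K, i ≠ j → j ≠ k → i ≠ k → M i j = 2 ∨ M j k = 2 ∨ M i k = 2

/-- No node of `K` is isolated. -/
def NoIso (M : CoxeterMatrix B) (K : Set B) : Prop := ∀ i ∈ K, ∃ j ∈ K, 3 ≤ M i j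

end Cfsg.Agent.Bld
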