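import Mathlib
import Cfsg.Agent.Bld.Cox
import Cfsg.Agent.Bld.Types
import Cfsg.Agent.Bld.Alg

/-! Buildings as `W`-metric chamber systems: definitions (for S1143). -/

set_option autoImplicit false

namespace Cfsg.Agent.Bld

open Cfsg.Agent.Chev CoxeterSystem

variable {B W : Type*} [Group W] {M : CoxeterMatrix B}

/-- A thick building of type `(W_K, K)` on the set `C` of chambers. -/
structure Bd (cs : CoxeterSystem M W) (K : Set B) (C : Type*) where
  /-- the Weyl distance -/
  δ : C → C → W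
  mem : ∀ c d, δ c d ∈ coxPar cs K
  eq_one : ∀ {c d}, δ c d = 1 ↔ c = d
  inv : ∀ c d, δ d c = (δ c d)⁻¹
  step : ∀ (c : C) {d e : C} {i : B}, δ d e = cs.simple i →
    δ c e = δ c d * cs.simple i ∨ (δ c e = δ c d ∧ cs.IsRightDescent (δ c d) i)
  ex : ∀ c d, ∀ i ∈ K, ∃ e, δ d e = cs.simple i ∧ δ c e = δ c d * cs.simple i
  thick : ∀ c, ∀ i ∈ K, ∃ d e, δ c d = cs.simple i ∧ δ c e = cs.simple i ∧ d ≠ e

/-- An apartment seen from its chamber `w`. -/
def sh {C : Type*} (a : W → C) (w : W) : W → C := fun v => a (w * v)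

@[simp] theorem sh_apply {C : Type*} (a : W → C) (w v : W) : sh a w v = a (w * v) := rfl

@[simp] theorem sh_one {C : Type*} (a : W → C) : sh a 1 = a := by ext; simp

theorem sh_sh {C : Type*} (a : W → C) (u w : W) : sh (sh a u) w = sh a (u * w) := by
  ext; simp [mul_assoc]

/-- The types along the closed gallery `cyc`. -/
def typ (i j : B) (k : ℤ) : B := if Even k then i else j

/-- The closed gallery `1, sᵢ, sᵢsⱼ, …` around the apartment of type `{i, j}`. -/
def cyc (cs : CoxeterSystem M W) (i j : B) (k : ℤ) : W :=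
  (cs.simple i * cs.simple j) ^ (k / 2) * if Even k then 1 else cs.simple i

namespace Bd

variable {cs : CoxeterSystem M W} {K K' : Set B} {C C' : Type*} (X : Bd cs K C) (X' : Bd cs K' C')

/-- The residue of type `J` through `c`. -/
def Res (J : Set B) (c : C) : Set C := {x | X.δ c x ∈ coxPar cs J}

/-- `p` is the projection of `y` on the residue of type `J` through `c`. -/
def IsProj (J : Set B) (c y p : C) : Prop := p ∈ X.Res J c ∧ IsMinRight cs J (X.δ y p)

/-- `a` restricted to `W_J` is an apartment of the residue of type `J` through `a 1`. -/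
def IsApt (J : Set B) (a : W → C) : Prop :=
  ∀ u ∈ coxPar cs J, ∀ v ∈ coxPar cs J, X.δ (a u) (a v) = u⁻¹ * v

/-- The type preserving automorphisms. -/
def Aut : Subgroup (Equiv.Perm C) where
  carrier := {g | ∀ x y, X.δ (g x) (g y) = X.δ x y}
  one_mem' := fun _ _ => rfl
  mul_mem' := fun {g h} hg hh x y => (hg _ _).trans (hh x y)
  inv_mem' := fun {g} hg x y => by simpa using (hg (g⁻¹ x) (g⁻¹ y)).symm

/-- `G` is a Weyl transitive group of automorphisms. -/
def WT (G : Subgroup (Equiv.Perm C)) : Prop :=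
  G ≤ X.Aut ∧ ∀ c d c' d', X.δ c d = X.δ c' d' → ∃ g ∈ G, g c = c' ∧ g d = d'

/-- The number of chambers `i`-adjacent to `c`. -/
noncomputable def par (i : B) (c : C) : ℕ := {x | X.δ c x = cs.simple i}.ncard

/-- `g` fixes the panel of type `i` through `c` pointwise. -/
def FixP (g : C → C) (i : B) (c : C) : Prop := ∀ x ∈ X.Res {i} c, g x = x

/-- `f` preserves the Weyl distance on `S`. -/
def IsoOn (S : Set C) (f : C → C') : Prop := ∀ x ∈ S, ∀ y ∈ S, X'.δ (f x) (f y) = X.δ x y

/-- `φ` is an isometry from the residue of type `J` through `c` onto that through `c'`. -/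
structure Iso (J : Set B) (c : C) (c' : C') (φ : C → C') : Prop where
  base : φ c = c'
  iso : X.IsoOn X' (X.Res J c) φ
  surj : ∀ x' ∈ X'.Res J c', ∃ x ∈ X.Res J c, φ x = x'

/-- An isometry of residues which maps the apartment `a` to the apartment `a'`. -/
def IsoA (J : Set B) (a : W → C) (a' : W → C') (φ : C → C') : Prop :=
  X.Iso X' J (a 1) (a' 1) φ ∧ ∀ w ∈ coxPar cs J, φ (a w) = a' w

/-- `g` fixes the chambers of the root `αᵢ` of the apartment `a` of the residue of type `J`, and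
it fixes the panels in the interior of the root pointwise. -/
def Int (J : Set B) (a : W → C) (i : B) (g : C → C) : Prop :=
  ∀ v ∈ coxPar cs J, ¬ cs.IsLeftDescent v i → g (a v) = a v ∧
    ∀ t ∈ J, ¬ cs.IsLeftDescent (v * cs.simple t) i → X.FixP g t (a v)

/-- The root group of the root `αᵢ` of the apartment `a`. -/
def U (a : W → C) (i : B) : Subgroup (Equiv.Perm C) where
  carrier := {g | g ∈ X.Aut ∧ X.Int K a i g}
  one_mem' := ⟨one_mem _, fun _ _ _ => ⟨rfl, fun _ _ _ _ _ => rfl⟩⟩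
  mul_mem' := fun {g h} hg hh => ⟨mul_mem hg.1 hh.1, fun v hv h1 =>
    ⟨by rw [Equiv.Perm.mul_apply, (hh.2 v hv h1).1, (hg.2 v hv h1).1], fun t ht h2 x hx => by
      rw [Equiv.Perm.mul_apply, (hh.2 v hv h1).2 t ht h2 x hx, (hg.2 v hv h1).2 t ht h2 x hx]⟩⟩
  inv_mem' := fun {g} hg => ⟨inv_mem hg.1, fun v hv h1 =>
    ⟨by rw [Equiv.Perm.inv_eq_iff_eq, (hg.2 v hv h1).1], fun t ht h2 x hx => by
      rw [Equiv.Perm.inv_eq_iff_eq, (hg.2 v hv h1).2 t ht h2 x hx]⟩⟩

/-- A root elation of the residue of type `J` through `a 1`. -/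
def Elt (J : Set B) (a : W → C) (i : B) (g : C → C) : Prop :=
  X.IsoOn X (X.Res J (a 1)) g ∧ X.Int J a i g

/-- The Moufang condition. -/
def Mouf : Prop := ∀ a, X.IsApt K a → ∀ i ∈ K, ∀ x, X.δ (a 1) x = cs.simple i →
  ∃ g ∈ X.U a i, g (a (cs.simple i)) = x

/-- The root groups whose walls pass through the residue of type `{i, j}` of `a 1`. -/
def UZ (a : W → C) (i j : B) (k : ℤ) : Subgroup (Equiv.Perm C) :=
  X.U (sh a (cyc cs i j k)) (typ i j k)

/-- The first and the third root group of the quadrangle of type `{j, k}` commute. -/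
def Kind (j k : B) (a : W → C) : Prop :=
  ∀ g h, X.Elt {j, k} a j g → X.Elt {j, k} (sh a (cs.simple j * cs.simple k)) j h →
    ∀ x ∈ X.Res {j, k} (a 1), g (h x) = h (g x)

/-- `φ` is a germ of an isomorphism from the opposite pair `c, d` to the opposite pair `c', d'`. -/
structure Germ [Finite W] (c d : C) (c' d' : C') (φ : C → C') : Prop where
  op : X.δ c d = wl cs K
  op' : X'.δ c' d' = wl cs K
  base : φ c = c'
  iso : ∀ i ∈ K, ∀ j ∈ K, X.Iso X' {i, j} c c' φ
  cmp : ∀ i ∈ K, ∀ j ∈ K, ∀ y ∈ X.Res {i, j} c, X'.δ (φ y) d' = X.δ y d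

theorem δ_self (c : C) : X.δ c c = 1 := X.eq_one.2 rfl

theorem self_mem_res (J : Set B) (c : C) : c ∈ X.Res J c := by
  simp [Res, X.δ_self]

theorem res_symm {J : Set B} {c d : C} (h : d ∈ X.Res J c) : c ∈ X.Res J d := by
  simpa [Res, X.inv c d] using h

/-- Moving inside a residue changes the distance inside a coset. -/
theorem δ_mem_coset {J : Set B} (y : C) {c x : C} (h : x ∈ X.Res J c) :
    (X.δ y c)⁻¹ * X.δ y x ∈ coxPar cs J := by
  suffices H : ∀ w ∈ coxPar cs J, ∀ x, X.δ c x = w → (X.δ y c)⁻¹ * X.δ y x ∈ coxPar cs J from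
    H _ h x rfl
  intro w hw
  refine coxPar_induction_right cs (p := fun w => ∀ x, X.δ c x = w →
    (X.δ y c)⁻¹ * X.δ y x ∈ coxPar cs J) (fun x hx => ?_) (fun w _ i hi hd ih x hx => ?_) hw
  · simp [X.eq_one.1 hx]
  · have h1 := simple_mem_coxPar_of_isRightDescent cs (hx ▸ X.mem c x) (i := i)
      (cs.isRightDescent_iff_not_isRightDescent_mul.2 (by simpa using hd))
    obtain ⟨ω, h2, h3, h4⟩ := exists_reduced_of_mem_coxPar cs h1
    have h5 : ω.length = 1 := by rw [← h3.eq, h4, length_simple]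
    obtain ⟨k, rfl⟩ := List.length_eq_one_iff.1 h5
    have h6 : cs.simple k = cs.simple i := by simpa using h4
    obtain ⟨e, h7, h8⟩ := X.ex c x k (h2 k (by simp))
    have h9 := ih e (by rw [h8, hx, h6]; simp)
    have h10 : X.δ e x = cs.simple i := by rw [X.inv, h7, h6, inv_simple]
    rcases X.step y h10 with h | h
    · rw [h, ← mul_assoc]; exact mul_mem h9 (simple_mem_coxPar cs hi)
    · rwa [h.1]

theorem res_trans {J : Set B} {c d e : C} (h : d ∈ X.Res J c) (h' : e ∈ X.Res J d) :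
    e ∈ X.Res J c := by
  simpa [Res] using mul_mem h (X.δ_mem_coset c h')

theorem δ_mem_of_res {J : Set B} {c x y : C} (hx : x ∈ X.Res J c) (hy : y ∈ X.Res J c) :
    X.δ x y ∈ coxPar cs J := X.res_trans (X.res_symm hx) hy

theorem mem_res_of_adj {J : Set B} {c x y : C} {i : B} (hx : x ∈ X.Res J c) (hi : i ∈ J)
    (h : X.δ x y = cs.simple i) : y ∈ X.Res J c :=
  X.res_trans hx (show X.δ x y ∈ _ from h ▸ simple_mem_coxPar cs hi)

/-- A residue is a building. -/
def res {J : Set B} (hJ : J ⊆ K) (c : C) : Bd cs J (X.Res J c) where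
  δ x y := X.δ x y
  mem x y := X.δ_mem_of_res x.2 y.2
  eq_one := X.eq_one.trans Subtype.val_inj
  inv x y := X.inv x y
  step x _ _ _ h := X.step x h
  ex x y i hi := by
    obtain ⟨e, h1, h2⟩ := X.ex x y i (hJ hi)
    exact ⟨⟨e, X.mem_res_of_adj y.2 hi h1⟩, h1, h2⟩
  thick x i hi := by
    obtain ⟨d, e, h1, h2, h3⟩ := X.thick x i (hJ hi)
    exact ⟨⟨d, X.mem_res_of_adj x.2 hi h1⟩, ⟨e, X.mem_res_of_adj x.2 hi h2⟩, h1, h2,
      fun h => h3 (congrArg Subtype.val h)⟩

@[simp] theorem res_δ {J : Set B} (hJ : J ⊆ K) (c : C) (x y : X.Res J c) :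
    (X.res hJ c).δ x y = X.δ x y := rfl

open Classical in
/-- A map into `C` as a map into a residue. -/
noncomputable def toRes (J : Set B) (c : C) (x : C) : X.Res J c :=
  if h : x ∈ X.Res J c then ⟨x, h⟩ else ⟨c, X.self_mem_res J c⟩

theorem coe_toRes {J : Set B} {c x : C} (h : x ∈ X.Res J c) : (X.toRes J c x : C) = x := by
  rw [toRes, dif_pos h]

end Bd

/-- `X` is a Weyl transitive group on a finite building with parameters `q`, and every simple Weyl
transitive group on that building is isomorphic to `X`. -/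
def Model (cs : CoxeterSystem M W) (q : B → ℕ) (X : Type*) [Group X] : Prop :=
  ∃ (C : Type) (_ : Finite C) (Y : Bd cs Set.univ C) (a : W → C) (ρ : X →* Equiv.Perm C),
    Y.IsApt Set.univ a ∧ (∀ i, Y.par i (a 1) = q i) ∧ Function.Injective ρ ∧ Y.WT ρ.range ∧
      ∀ G : Subgroup (Equiv.Perm C), IsSimpleGroup G → Y.WT G → Nonempty (G ≃* X)

end Cfsg.Agent.Bld
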