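import Mathlib
import Cfsg.Agent.Bld.Defs

/-! Basic properties of buildings: galleries, projections, apartments, rigidity. -/

set_option autoImplicit false

namespace Cfsg.Agent.Bld.Bd

open Cfsg.Agent.Chev CoxeterSystem

variable {B W : Type*} [Group W] {M : CoxeterMatrix B} {cs : CoxeterSystem M W} [Sph cs]
  {K K' J L : Set B} {C C' : Type*} {X : Bd cs K C} {X' : Bd cs K' C'} {c d e x y p q : C}
  {c' : C'} {i j k : B} {u v w : W} {a b : W → C} {f g : C → C'}

theorem mem_of_adj (h : X.δ c d = cs.simple i) : i ∈ K := (simple_mem_par cs).1 (h ▸ X.mem c d)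

omit [Sph cs] in
theorem adj_symm (h : X.δ c d = cs.simple i) : X.δ d c = cs.simple i := by
  rw [X.inv, h, inv_simple]

omit [Sph cs] in
theorem adj_ne (h : X.δ c d = cs.simple i) : c ≠ d := fun e =>
  simple_ne_one cs i (h.symm.trans (X.eq_one.2 e))

omit [Sph cs] in
theorem adj_trans (h : X.δ c d = cs.simple i) (h' : X.δ d e = cs.simple i) (hne : c ≠ e) :
    X.δ c e = cs.simple i := by
  rcases X.step c h' with h1 | h1
  · exact absurd (X.eq_one.1 (by rw [h1, h, simple_mul_simple_self])) hne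
  · rw [h1.1, h]

omit [Sph cs] in
theorem step_up (c : C) (h : X.δ d e = cs.simple i) (hd : ¬ cs.IsRightDescent (X.δ c d) i) :
    X.δ c e = X.δ c d * cs.simple i := (X.step c h).resolve_right fun h => hd h.2

omit [Sph cs] in
theorem step_left (e : C) (h : X.δ c d = cs.simple i) :
    X.δ c e = cs.simple i * X.δ d e ∨ (X.δ c e = X.δ d e ∧ cs.IsLeftDescent (X.δ d e) i) := by
  rcases X.step e (adj_symm h) with h1 | h1
  · left; rw [X.inv, h1, X.inv e d]; simp
  · right
    rw [X.inv e c, X.inv e d, h1.1, isLeftDescent_inv_iff]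
    exact ⟨rfl, h1.2⟩

theorem exists_pred (h : X.δ c e = w * cs.simple i) (hd : ¬ cs.IsRightDescent w i) :
    ∃ d, X.δ c d = w ∧ X.δ d e = cs.simple i := by
  have h1 : i ∈ K := mem_of_rightDescent cs (h ▸ X.mem c e)
    (cs.isRightDescent_iff_not_isRightDescent_mul.2 (by simpa using hd))
  obtain ⟨d, h2, h3⟩ := X.ex c e i h1
  exact ⟨d, by rw [h3, h]; simp, adj_symm h2⟩

omit [Sph cs] in
theorem len_split {u w : W} {i : B} (hd : ¬ cs.IsRightDescent w i)
    (h : cs.length (u * (w * cs.simple i)) = cs.length u + cs.length (w * cs.simple i)) :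
    cs.length (u * w) = cs.length u + cs.length w ∧ ¬ cs.IsRightDescent (u * w) i := by
  have h1 := cs.not_isRightDescent_iff.1 hd
  have h2 := cs.length_mul_le u w
  have h3 := cs.length_mul_simple (u * w) i
  rw [← mul_assoc] at h
  rw [cs.not_isRightDescent_iff]
  omega

theorem δ_mul (h : cs.length (X.δ c d * X.δ d e) = cs.length (X.δ c d) + cs.length (X.δ d e)) :
    X.δ c e = X.δ c d * X.δ d e := by
  generalize hw : X.δ d e = w at h
  induction w using length_induction_right cs generalizing e with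
  | one => rw [X.eq_one.1 hw, mul_one]
  | step w i hd ih =>
    obtain ⟨e', h1, h2⟩ := exists_pred hw hd
    obtain ⟨h3, h4⟩ := len_split hd h
    have h5 := ih h1 h3
    rw [step_up c h2 (by rwa [h5]), h5, mul_assoc]

theorem len_le (X : Bd cs K C) (c d e : C) :
    cs.length (X.δ c e) ≤ cs.length (X.δ c d) + cs.length (X.δ d e) := by
  generalize hw : X.δ d e = w
  induction w using length_induction_right cs generalizing e with
  | one => rw [X.eq_one.1 hw]; simp
  | step w i hd ih =>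
    obtain ⟨e', h1, h2⟩ := exists_pred hw hd
    have h3 := ih e' h1
    have h4 := cs.not_isRightDescent_iff.1 hd
    have h5 := cs.length_mul_simple (X.δ c e') i
    rcases X.step c h2 with h6 | h6
    · rw [h6]; omega
    · rw [h6.1]; omega

theorem exists_mid (h : X.δ c e = u * v) (hl : cs.length (u * v) = cs.length u + cs.length v) :
    ∃ d, X.δ c d = u ∧ X.δ d e = v := by
  induction v using length_induction_right cs generalizing e with
  | one => exact ⟨e, by simpa using h, X.δ_self e⟩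
  | step v i hd ih =>
    obtain ⟨h3, h4⟩ := len_split hd hl
    obtain ⟨e', h1, h2⟩ := exists_pred (h.trans (mul_assoc _ _ _).symm) h4
    obtain ⟨d, h5, h6⟩ := ih h1 h3
    exact ⟨d, h5, by rw [step_up d h2 (by rwa [h6]), h6]⟩

theorem mid_unique (h1 : X.δ c x = u) (h2 : X.δ x e = v) (h3 : X.δ c y = u) (h4 : X.δ y e = v)
    (hl : cs.length (u * v) = cs.length u + cs.length v) : x = y := by
  induction v using length_induction_right cs generalizing e with
  | one => rw [X.eq_one.1 h2, X.eq_one.1 h4]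
  | step v i hd ih =>
    obtain ⟨h5, h6⟩ := len_split hd hl
    obtain ⟨e₁, h7, h8⟩ := exists_pred h2 hd
    obtain ⟨e₂, h9, h10⟩ := exists_pred h4 hd
    have h11 : X.δ c e₁ = u * v := by rw [δ_mul (d := x) (by rwa [h1, h7]), h1, h7]
    have h12 : X.δ c e₂ = u * v := by rw [δ_mul (d := y) (by rwa [h3, h9]), h3, h9]
    by_cases he : e₁ = e₂
    · exact ih h7 (he ▸ h9) h5
    · have := step_up c (adj_trans h8 (adj_symm h10) he) (by rwa [h11])
      rw [h11, h12] at this
      exact absurd (left_eq_mul.1 this) (simple_ne_one cs i)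

omit [Sph cs] in
theorem exists_δ (c : C) (hw : w ∈ coxPar cs K) : ∃ d, X.δ c d = w :=
  coxPar_induction_right cs (p := fun w => ∃ d, X.δ c d = w) ⟨c, X.δ_self c⟩
    (fun _ _ i hi _ ⟨d, hd⟩ => let ⟨e, _, h⟩ := X.ex c d i hi; ⟨e, by rw [h, hd]⟩) hw

omit [Sph cs] in
theorem res_eq (h : x ∈ X.Res J c) : X.Res J x = X.Res J c :=
  Set.ext fun _ => ⟨X.res_trans h, X.res_trans (X.res_symm h)⟩

omit [Sph cs] in
theorem res_mono (h : J ⊆ L) (c : C) : X.Res J c ⊆ X.Res L c := fun _ hx => coxPar_mono cs h hx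

theorem res_inter (X : Bd cs K C) (J L : Set B) (c : C) :
    X.Res J c ∩ X.Res L c = X.Res (J ∩ L) c :=
  Set.ext fun _ => ⟨fun h => par_inter cs h.1 h.2,
    fun h => ⟨res_mono Set.inter_subset_left c h, res_mono Set.inter_subset_right c h⟩⟩

omit [Sph cs] in
theorem mem_res_single : x ∈ X.Res {i} c ↔ x = c ∨ X.δ c x = cs.simple i := by
  rw [Res, Set.mem_ofPred_eq, mem_par_single, X.eq_one, eq_comm]

omit [Sph cs] in
theorem mem_res_self (X : Bd cs K C) (c x : C) : x ∈ X.Res K c := X.mem c x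

omit [Sph cs] in
theorem adj_of_mem (hx : x ∈ X.Res {i} c) (hy : y ∈ X.Res {i} c) (h : x ≠ y) :
    X.δ x y = cs.simple i :=
  ((mem_par_single cs).1 (X.δ_mem_of_res hx hy)).resolve_left fun e => h (X.eq_one.1 e)

omit [Sph cs] in
/-- In a panel there is a chamber different from two given ones. -/
theorem exists_third (hi : i ∈ K) (c x y : C) : ∃ z ∈ X.Res {i} c, z ≠ x ∧ z ≠ y := by
  obtain ⟨d, e, h1, h2, h3⟩ := X.thick c i hi
  by_contra h
  push Not at h
  have h4 := h c (X.self_mem_res _ c)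
  have h5 := h d (mem_res_single.2 (Or.inr h1))
  have h6 := h e (mem_res_single.2 (Or.inr h2))
  have h7 := adj_ne h1
  have h8 := adj_ne h2
  by_cases h9 : c = x
  · exact h3 ((h5 (h9 ▸ h7.symm)).trans (h6 (h9 ▸ h8.symm)).symm)
  · by_cases h10 : d = x
    · exact h8 ((h4 h9).trans (h6 (h10 ▸ h3.symm)).symm)
    · exact h7 ((h4 h9).trans (h5 h10).symm)

theorem exists_isProj (X : Bd cs K C) (J : Set B) (c y : C) : ∃ p, X.IsProj J c y p := by
  obtain ⟨d, hd, v, hv, h⟩ := exists_isMinRight cs J (X.δ y c)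
  obtain ⟨p, h1, h2⟩ := exists_mid h (hd.length_mul hv)
  exact ⟨p, X.res_symm (show X.δ p c ∈ _ from h2 ▸ hv), h1 ▸ hd⟩

theorem IsProj.δ_eq (h : X.IsProj J c y p) (hx : x ∈ X.Res J c) : X.δ y x = X.δ y p * X.δ p x :=
  δ_mul (h.2.length_mul (X.δ_mem_of_res h.1 hx))

theorem IsProj.unique (h : X.IsProj J c y p) (h' : X.IsProj J c y q) : p = q := by
  have h1 := h.δ_eq h'.1
  have h2 := h.2.unique h'.2 (by rw [h1]; simpa using X.δ_mem_of_res h.1 h'.1)
  rw [← h2] at h1
  exact X.eq_one.1 (left_eq_mul.1 h1)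

/-- The chambers of a panel other than the projection are further away. -/
theorem IsProj.δ_single (h : X.IsProj {i} c y p) (hx : x ∈ X.Res {i} c) (hne : x ≠ p) :
    X.δ y x = X.δ y p * cs.simple i := by rw [h.δ_eq hx, adj_of_mem h.1 hx hne.symm]

/-- Projections of adjacent chambers are equal or adjacent. -/
theorem IsProj.adj (h : X.IsProj J c x p) (h' : X.IsProj J c y q) (hJ : J ⊆ K)
    (hxy : X.δ x y = cs.simple i) :
    p = q ∨ ∃ l ∈ J, X.δ p q = cs.simple l ∧ cs.simple i * X.δ x p = X.δ x p * cs.simple l := by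
  rcases step_left p (adj_symm hxy) with h1 | h1
  · rcases h.2.simple_mul i with h2 | ⟨-, l, hl, h2⟩
    · exact Or.inl (IsProj.unique ⟨h.1, h1 ▸ h2⟩ h')
    · obtain ⟨z, h3, h4⟩ := X.ex y p l (hJ hl)
      have h5 : X.IsProj J c y z := ⟨X.mem_res_of_adj h.1 hl h3, by
        rw [h4, h1, h2, simple_mul_simple_cancel_right]; exact h.2⟩
      exact Or.inr ⟨l, hl, h5.unique h' ▸ h3, h2⟩
  · exact Or.inl (IsProj.unique ⟨h.1, h1.1 ▸ h.2⟩ h')

omit [Sph cs] in
theorem IsoOn.mono {S T : Set C} (h : X.IsoOn X' T f) (hS : S ⊆ T) : X.IsoOn X' S f :=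
  fun x hx y hy => h x (hS hx) y (hS hy)

omit [Sph cs] in
theorem IsoOn.mem_res {S : Set C} (h : X.IsoOn X' S f) (hc : c ∈ S) (hx : x ∈ S)
    (h1 : x ∈ X.Res J c) : f x ∈ X'.Res J (f c) := by
  rwa [Res, Set.mem_ofPred_eq, h c hc x hx]

omit [Sph cs] in
theorem IsoOn.isProj {S : Set C} (h : X.IsoOn X' S f) (hc : c ∈ S) (hy : y ∈ S) (hp : p ∈ S)
    (h1 : X.IsProj J c y p) : X'.IsProj J (f c) (f y) (f p) :=
  ⟨h.mem_res hc hp h1.1, by rw [h y hy p hp]; exact h1.2⟩

omit [Sph cs] in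
theorem Iso.mono (h : X.Iso X' L c c' f) (hJ : J ⊆ L) : X.Iso X' J c c' f := by
  refine ⟨h.base, h.iso.mono (res_mono hJ c), fun x' hx' => ?_⟩
  obtain ⟨x, hx, rfl⟩ := h.surj x' (res_mono hJ c' hx')
  refine ⟨x, ?_, rfl⟩
  rwa [Res, Set.mem_ofPred_eq, ← h.iso c (X.self_mem_res _ c) x hx, h.base]

omit [Sph cs] in
theorem Iso.mem (h : X.Iso X' J c c' f) (hx : x ∈ X.Res J c) : f x ∈ X'.Res J c' :=
  h.base ▸ h.iso.mem_res (X.self_mem_res _ c) hx hx

omit [Sph cs] in
/-- Change of the base chamber. -/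
theorem Iso.rebase (h : X.Iso X' J c c' f) (hx : x ∈ X.Res J c) : X.Iso X' J x (f x) f :=
  ⟨rfl, res_eq hx ▸ h.iso, by rw [res_eq hx, res_eq (h.mem hx)]; exact h.surj⟩

/-- A map which preserves adjacency is an isometry. -/
theorem isoOn_of_adj (h : ∀ x ∈ X.Res J c, ∀ y ∈ X.Res J c, ∀ i ∈ J, X.δ x y = cs.simple i →
    X'.δ (f x) (f y) = cs.simple i) : X.IsoOn X' (X.Res J c) f := by
  intro x hx y hy
  generalize hw : X.δ x y = w
  induction w using length_induction_right cs generalizing y with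
  | one => rw [X.eq_one.1 hw, X'.δ_self]
  | step w i hd ih =>
    obtain ⟨e, h1, h2⟩ := exists_pred hw hd
    have hi : i ∈ J := mem_of_rightDescent cs (hw ▸ X.δ_mem_of_res hx hy)
      (cs.isRightDescent_iff_not_isRightDescent_mul.2 (by simpa using hd))
    have he := X.mem_res_of_adj hy hi (adj_symm h2)
    have h3 := ih e he h1
    rw [step_up _ (h e he y hy i hi h2) (by rwa [h3]), h3]

omit [Sph cs] in
theorem desc_iff_of_comm (h : cs.simple j * w = w * cs.simple k) :
    cs.IsLeftDescent w j ↔ cs.IsRightDescent w k := by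
  rw [IsLeftDescent, IsRightDescent, h]

omit [Sph cs] in
theorem comm_of_mem (h : cs.simple j * X.δ c d = X.δ c d * cs.simple k) (hx : x ∈ X.Res {j} c)
    (hy : y ∈ X.Res {k} d) : cs.simple j * X.δ x y = X.δ x y * cs.simple k := by
  have h1 : cs.simple j * X.δ c y = X.δ c y * cs.simple k := by
    rcases (mem_par_single cs).1 (X.δ_mem_coset c hy) with h1 | h1
    · rwa [← inv_mul_eq_one.1 h1]
    · rw [inv_mul_eq_iff_eq_mul.1 h1, ← mul_assoc, h]
  rcases mem_res_single.1 hx with rfl | h2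
  · exact h1
  · rcases step_left y (adj_symm h2) with h3 | h3
    · rw [h3, mul_assoc, h1]
    · rwa [h3.1]

/-- In parallel panels the projections are inverse to each other. -/
theorem exists_par (h : cs.simple j * X.δ c d = X.δ c d * cs.simple k) (hy : y ∈ X.Res {k} d) :
    ∃ x, X.IsProj {j} c y x ∧ X.IsProj {k} d x y := by
  obtain ⟨x, hx⟩ := X.exists_isProj {j} c y
  refine ⟨x, hx, hy, (minRight_single cs).2 ?_⟩
  rw [← desc_iff_of_comm (comm_of_mem h hx.1 hy), X.inv, isLeftDescent_inv_iff]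
  exact (minRight_single cs).1 hx.2

/-- Parallel panels. -/
theorem par_eq {S : Set C} (hf : X.IsoOn X' S f) (hg : X.IsoOn X' S g) (hc : X.Res {j} c ⊆ S)
    (hd : X.Res {k} d ⊆ S) (h : cs.simple j * X.δ c d = X.δ c d * cs.simple k)
    (h1 : Set.EqOn f g (X.Res {j} c)) (h2 : f d = g d) : Set.EqOn f g (X.Res {k} d) := by
  intro y hy
  obtain ⟨x, hx, hx'⟩ := exists_par h hy
  have h3 := hf.isProj (hd (X.self_mem_res _ d)) (hc hx.1) (hd hy) hx'
  rw [h2, h1 hx.1] at h3
  exact h3.unique (hg.isProj (hd (X.self_mem_res _ d)) (hc hx.1) (hd hy) hx')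

omit [Sph cs] in
theorem IsApt.mono (h : X.IsApt L a) (hJ : J ⊆ L) : X.IsApt J a :=
  fun u hu v hv => h u (coxPar_mono cs hJ hu) v (coxPar_mono cs hJ hv)

omit [Sph cs] in
theorem IsApt.sh (h : X.IsApt J a) (hw : w ∈ coxPar cs J) : X.IsApt J (sh a w) := fun u hu v hv => by
  rw [sh_apply, sh_apply, h _ (mul_mem hw hu) _ (mul_mem hw hv)]; group

omit [Sph cs] in
theorem IsApt.mem_res (h : X.IsApt J a) (hw : w ∈ coxPar cs J) : a w ∈ X.Res J (a 1) := by
  rw [Res, Set.mem_ofPred_eq, h 1 (one_mem _) w hw]; simpa using hw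

omit [Sph cs] in
theorem IsApt.res (h : X.IsApt L a) (hL : L ⊆ K) :
    (X.res hL (a 1)).IsApt L fun w => X.toRes L (a 1) (a w) := fun u hu v hv => by
  rw [res_δ, X.coe_toRes (h.mem_res hu), X.coe_toRes (h.mem_res hv), h u hu v hv]

variable [Finite W]

omit [Sph cs] in
theorem len_mid (hw : w ∈ coxPar cs J) :
    cs.length (w * (w⁻¹ * wl cs J)) = cs.length w + cs.length (w⁻¹ * wl cs J) := by
  have := len_mul_wl cs (inv_mem hw)
  rw [mul_inv_cancel_left, length_inv] at *
  omega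

theorem exists_apt (_hJ : J ⊆ K) (h : X.δ c d = wl cs J) :
    ∃ a, X.IsApt J a ∧ a 1 = c ∧ a (wl cs J) = d := by
  have h1 : ∀ w, ∃ x, w ∈ coxPar cs J → X.δ c x = w ∧ X.δ x d = w⁻¹ * wl cs J := fun w => by
    by_cases hw : w ∈ coxPar cs J
    · obtain ⟨x, hx⟩ := exists_mid (h.trans (mul_inv_cancel_left w _).symm) (len_mid hw)
      exact ⟨x, fun _ => hx⟩
    · exact ⟨c, fun h => absurd h hw⟩
  choose a ha using h1
  have h2 : ∀ w ∈ coxPar cs J, ∀ i ∈ J, ¬ cs.IsRightDescent w i →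
      X.δ (a w) (a (w * cs.simple i)) = cs.simple i := fun w hw i hi hd => by
    have hw' := mul_mem hw (simple_mem_coxPar cs hi)
    have h3 := len_mul_wl cs (inv_mem hw)
    have h4 := len_mul_wl cs (inv_mem hw')
    have h5 := cs.not_isRightDescent_iff.1 hd
    obtain ⟨y, h6, h7⟩ := exists_mid (u := cs.simple i) (v := (w * cs.simple i)⁻¹ * wl cs J)
      ((ha w hw).2.trans (by simp [mul_assoc])) (by
        rw [length_inv] at h3 h4
        rw [length_simple, mul_inv_rev, inv_simple, mul_assoc, simple_mul_simple_cancel_left]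
        rw [mul_inv_rev, inv_simple, mul_assoc] at h4
        omega)
    have h8 := step_up c h6 (by rwa [(ha w hw).1])
    rwa [mid_unique (h8.trans (by rw [(ha w hw).1])) h7 (ha _ hw').1 (ha _ hw').2 (len_mid hw')] at h6
  have h3 : ∀ w ∈ coxPar cs J, ∀ i ∈ J, X.δ (a w) (a (w * cs.simple i)) = cs.simple i :=
    fun w hw i hi => by
      by_cases hd : cs.IsRightDescent w i
      · have := h2 _ (mul_mem hw (simple_mem_coxPar cs hi)) i hi
          (cs.isRightDescent_iff_not_isRightDescent_mul.1 hd)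
        rw [simple_mul_simple_cancel_right] at this
        exact adj_symm this
      · exact h2 w hw i hi hd
  refine ⟨a, fun u hu v hv => ?_, (X.eq_one.1 (ha 1 (one_mem _)).1).symm,
    X.eq_one.1 ((ha _ (wl_mem cs J)).2.trans (by simp))⟩
  have := coxPar_induction_right cs (p := fun w => X.δ (a u) (a (u * w)) = w)
    (by rw [mul_one, X.δ_self]) (fun w hw i hi hd ih => by
      rw [← mul_assoc, step_up _ (h3 _ (mul_mem hu hw) i hi) (by rwa [ih]), ih])
    (mul_mem (inv_mem hu) hv)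
  simpa using this

theorem IsApt.unique (ha : X.IsApt J a) (hb : X.IsApt J b) (hu : u ∈ coxPar cs J)
    (h1 : a u = b u) (h2 : a (u * wl cs J) = b (u * wl cs J)) (hw : w ∈ coxPar cs J) :
    a w = b w := by
  have h3 := mul_mem hu (wl_mem cs J)
  refine mid_unique (ha u hu w hw) (ha w hw _ h3) (h1 ▸ hb u hu w hw) (h2 ▸ hb w hw _ h3) ?_
  simpa [mul_assoc] using len_mid (mul_mem (inv_mem hu) hw)

/-- A chamber of a panel which is not the projection of an opposite chamber is opposite. -/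
theorem IsProj.δ_opp (hi : i ∈ J) (h : X.IsProj {opp cs J i} d x p) (hc : x ∈ X.Res {i} c)
    (hd : X.δ c d = wl cs J) (hy : y ∈ X.Res {opp cs J i} d) (hne : y ≠ p) :
    X.δ x y = wl cs J := by
  have h1 := h.δ_single hy hne
  have h2 : X.δ x d = wl cs J ∨ X.δ x d = wl cs J * cs.simple (opp cs J i) := by
    rcases mem_res_single.1 hc with rfl | h2
    · exact Or.inl hd
    · rcases step_left d (adj_symm h2) with h3 | h3
      · right; rw [h3, hd, wl_mul_opp cs hi]
      · left; rw [h3.1, hd]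
  have h3 := (minRight_single cs).1 h.2
  have h4 := wl_desc cs (opp_mem cs hi)
  rcases (mem_par_single cs).1 (X.δ_mem_coset x h.1) with h5 | h5 <;> rcases h2 with h2 | h2
  · exact absurd (by rwa [← inv_mul_eq_one.1 h5, h2]) h3
  · rw [h1, ← inv_mul_eq_one.1 h5, h2, simple_mul_simple_cancel_right]
  · rw [h1, inv_mul_eq_iff_eq_mul.1 h5, h2, simple_mul_simple_cancel_right]
  · exact absurd (by rwa [inv_mul_eq_iff_eq_mul.1 h5, h2, simple_mul_simple_cancel_right]) h3

/-- A common opposite of two chambers of a panel. -/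
theorem exists_opp_both (hJ : J ⊆ K) (hi : i ∈ J) (hd : X.δ c d = wl cs J) (hx : x ∈ X.Res {i} c) :
    ∃ y ∈ X.Res {opp cs J i} d, X.δ c y = wl cs J ∧ X.δ x y = wl cs J := by
  obtain ⟨p, hp⟩ := X.exists_isProj {opp cs J i} d c
  obtain ⟨q, hq⟩ := X.exists_isProj {opp cs J i} d x
  obtain ⟨y, hy, h1, h2⟩ := exists_third (X := X) (hJ (opp_mem cs hi)) d p q
  exact ⟨y, hy, hp.δ_opp hi (X.self_mem_res _ c) hd hy h1, hq.δ_opp hi hx hd hy h2⟩

theorem rigid_swap {z : C} (hf : X.IsoOn X' (X.Res J z) f) (hg : X.IsoOn X' (X.Res J z) g)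
    (hc : c ∈ X.Res J z) (h1 : ∀ i ∈ J, Set.EqOn f g (X.Res {i} c)) (hd : X.δ c d = wl cs J)
    (h2 : f d = g d) (i : B) (hi : i ∈ J) : Set.EqOn f g (X.Res {i} d) := by
  have hd' := X.res_trans hc (show X.δ c d ∈ _ from hd ▸ wl_mem cs J)
  have h3 := opp_mem cs hi
  refine par_eq hf hg (j := opp cs J i) (res_eq hc ▸ res_mono (by simpa) c)
    (res_eq hd' ▸ res_mono (by simpa) d) ?_ (h1 _ h3) h2
  rw [hd, ← wl_mul_opp cs h3, opp_opp]

/-- Rigidity. -/
theorem rigid (hJ : J ⊆ K) (hf : X.IsoOn X' (X.Res J c) f) (hg : X.IsoOn X' (X.Res J c) g)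
    (h1 : ∀ i ∈ J, Set.EqOn f g (X.Res {i} c)) (h0 : f c = g c) (hd : X.δ c d = wl cs J)
    (h2 : f d = g d) : Set.EqOn f g (X.Res J c) := by
  have H : ∀ w ∈ coxPar cs J, ∀ x, X.δ c x = w → f x = g x ∧ (∀ i ∈ J, Set.EqOn f g (X.Res {i} x)) ∧
      ∃ y, X.δ x y = wl cs J ∧ f y = g y := fun w hw => by
    refine coxPar_induction_right cs (p := fun w => ∀ x, X.δ c x = w → f x = g x ∧
      (∀ i ∈ J, Set.EqOn f g (X.Res {i} x)) ∧ ∃ y, X.δ x y = wl cs J ∧ f y = g y)
      (fun x hx => X.eq_one.1 hx ▸ ⟨h0, h1, d, hd, h2⟩) (fun w hw i hi hd ih x hx => ?_) hw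
    obtain ⟨e, h3, h4⟩ := exists_pred hx hd
    obtain ⟨h5, h6, y, h7, h8⟩ := ih e h3
    have he : e ∈ X.Res J c := show X.δ c e ∈ _ from h3 ▸ hw
    have hx' := mem_res_single.2 (Or.inr h4)
    obtain ⟨z, hz, h9, h10⟩ := exists_opp_both hJ hi h7 hx'
    have h11 := rigid_swap hf hg he h6 h7 h8 _ (opp_mem cs hi) hz
    have h12 := rigid_swap hf hg he h6 h9 h11
    have hz' := X.res_trans he (show X.δ e z ∈ _ from h9 ▸ wl_mem cs J)
    exact ⟨h6 i hi hx', rigid_swap hf hg hz' h12 (by rw [X.inv, h10, wl_inv]) (h6 i hi hx'),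
      z, h10, h11⟩
  exact fun x hx => (H _ hx x rfl).1

end Cfsg.Agent.Bld.Bd
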