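import Mathlib
import Cfsg.Agent.Bld.Types

/-! Forbidden subdiagrams of positive definite Coxeter diagrams. -/

set_option autoImplicit false

namespace Cfsg.Agent.Bld.CoxCl

open Finset

variable {B : Type*} [Fintype B] [DecidableEq B] {M : CoxeterMatrix B} {w : ℕ → B} {s : ℕ → ℝ}
  {N : ℕ}

/-- Positive definite diagrams. -/
structure Cx (M : CoxeterMatrix B) : Prop where
  two : ∀ i j, i ≠ j → 2 ≤ M i j
  pd : (gram M).PosDef

/-- The quadratic form on a sequence of nodes. -/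
noncomputable def Q (M : CoxeterMatrix B) (w : ℕ → B) (s : ℕ → ℝ) (N : ℕ) : ℝ :=
  ∑ i ∈ range N, ∑ j ∈ range N, s i * s j * gram M (w i) (w j)

/-- The first `N` terms are distinct. -/
def Inj {α : Type*} (w : ℕ → α) (N : ℕ) : Prop := ∀ k < N, ∀ l < N, w k = w l → k = l

theorem Inj.mono {α : Type*} {w : ℕ → α} {N N' : ℕ} (h : Inj w N) (hN : N' ≤ N) : Inj w N' :=
  fun k hk l hl => h k (hk.trans_le hN) l (hl.trans_le hN)

omit [Fintype B] [DecidableEq B] in
theorem gram_le {i j : B} {m : ℕ} (hm : 1 ≤ m) (h : m ≤ M i j) :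
    gram M i j ≤ -Real.cos (Real.pi / m) := by
  have h1 : (1 : ℝ) ≤ m := by exact_mod_cast hm
  have h2 : (m : ℝ) ≤ M i j := by exact_mod_cast h
  exact neg_le_neg (Real.cos_le_cos_of_nonneg_of_le_pi (by positivity)
    (div_le_self Real.pi_pos.le h1) (by gcongr))

theorem Cx.pos (h : Cx M) (hw : Inj w (N + 1)) (h0 : s 0 ≠ 0) : 0 < Q M w s (N + 1) := by
  have p := (h.pd.submatrix (e := fun i : Fin (N + 1) => w i)
    fun i j e => Fin.ext (hw _ i.2 _ j.2 e)).dotProduct_mulVec_pos (x := fun i => s i)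
    fun e => h0 (congrFun e 0)
  rw [Q, ← Fin.sum_univ_eq_sum_range (fun i => ∑ j ∈ range (N + 1), s i * s j * gram M (w i) (w j))]
  refine p.trans_eq (sum_congr rfl fun i _ => ?_)
  rw [← Fin.sum_univ_eq_sum_range (fun j => s i * s j * gram M (w i) (w j))]
  simp [Matrix.mulVec, dotProduct, mul_sum, mul_assoc, mul_comm]

omit [Fintype B] [DecidableEq B] in
theorem gram_self (i : B) : gram M i i = 1 := by simp [gram]

omit [Fintype B] [DecidableEq B] in
theorem Q_one : Q M w s 1 = s 0 ^ 2 := by simp [Q, gram_self, pow_two]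

theorem Cx.succ (h : Cx M) (hw : Inj w (N + 1)) (hs : ∀ i, 0 ≤ s i) {T : Finset ℕ}
    (hT : T ⊆ range N) :
    Q M w s (N + 1) ≤ Q M w s N + s N ^ 2 + 2 * s N * ∑ a ∈ T, s a * gram M (w N) (w a) := by
  have e : Q M w s (N + 1) =
      Q M w s N + s N ^ 2 + 2 * s N * ∑ a ∈ range N, s a * gram M (w N) (w a) := by
    simp only [Q, sum_range_succ, sum_add_distrib, gram_self, mul_sum]
    have e1 : ∑ a ∈ range N, s a * s N * gram M (w a) (w N) =
        ∑ a ∈ range N, s N * s a * gram M (w N) (w a) :=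
      sum_congr rfl fun a _ => by simp [gram, M.symmetric (w a), mul_comm]
    have e2 : ∑ a ∈ range N, 2 * s N * (s a * gram M (w N) (w a)) =
        2 * ∑ a ∈ range N, s N * s a * gram M (w N) (w a) := by
      rw [mul_sum]
      exact sum_congr rfl fun a _ => by ring
    rw [e1, e2]
    ring
  rw [e]
  refine add_le_add_right (mul_le_mul_of_nonneg_left (sum_le_sum_of_subset_of_nonpos' hT
    fun a ha _ => mul_nonpos_of_nonneg_of_nonpos (hs a) ?_) (by have := hs N; positivity)) _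
  have ha := mem_range.1 ha
  simpa using gram_le (by norm_num) (h.two _ _ fun e => ha.ne' (hw N (by omega) a (by omega) e))

theorem Cx.add (h : Cx M) (hw : Inj w (N + 1)) (hs : ∀ i, 0 ≤ s i) {a m : ℕ} (ha : a < N)
    (hm : 1 ≤ m) (e : m ≤ M (w N) (w a)) :
    Q M w s (N + 1) ≤ Q M w s N + s N ^ 2 - 2 * Real.cos (Real.pi / m) * (s N * s a) := by
  have := h.succ hw hs (T := {a}) (by simpa)
  rw [sum_singleton] at this
  nlinarith [mul_le_mul_of_nonneg_left (gram_le hm e) (mul_nonneg (hs N) (hs a))]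

theorem Cx.add3 (h : Cx M) (hw : Inj w (N + 1)) (hs : ∀ i, 0 ≤ s i) {a : ℕ} (ha : a < N)
    (e : 3 ≤ M (w N) (w a)) : Q M w s (N + 1) ≤ Q M w s N + s N ^ 2 - s N * s a := by
  simpa using h.add hw hs ha (by norm_num) e

theorem Cx.add4 (h : Cx M) (hw : Inj w (N + 1)) (hs : ∀ i, 0 ≤ s i) {a : ℕ} (ha : a < N)
    (e : 4 ≤ M (w N) (w a)) : Q M w s (N + 1) ≤ Q M w s N + s N ^ 2 - √2 * (s N * s a) := by
  have := h.add hw hs ha (by norm_num) e
  rw [Nat.cast_ofNat, Real.cos_pi_div_four] at this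
  linarith

/-- Trees with simple edges. -/
theorem Cx.tree (h : Cx M) (hs : ∀ i, 0 ≤ s i) (π : ℕ → ℕ) : ∀ N, Inj w (N + 1) →
    (∀ k < N, π k ≤ k ∧ 3 ≤ M (w (k + 1)) (w (π k))) →
    Q M w s (N + 1) ≤ s 0 ^ 2 + ∑ k ∈ range N, (s (k + 1) ^ 2 - s (k + 1) * s (π k))
  | 0, _, _ => by simp [Q_one]
  | N + 1, hw, hπ => by
    have h1 := h.tree hs π N (hw.mono (by omega)) fun k hk => hπ k (by omega)
    have h2 := h.add3 hw hs (Nat.lt_succ_of_le (hπ N (by omega)).1) (hπ N (by omega)).2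
    rw [sum_range_succ]
    linarith

theorem Cx.tree_nat (h : Cx M) (s π : ℕ → ℕ) (N : ℕ) (hw : Inj w (N + 1))
    (hπ : ∀ k < N, π k ≤ k ∧ 3 ≤ M (w (k + 1)) (w (π k))) (h0 : s 0 ≠ 0)
    (e : s 0 ^ 2 + ∑ k ∈ range N, s (k + 1) ^ 2 ≤ ∑ k ∈ range N, s (k + 1) * s (π k)) : False := by
  have h1 := h.tree (s := fun i => (s i : ℝ)) (fun _ => Nat.cast_nonneg _) π N hw hπ
  have h2 := h.pos (s := fun i => (s i : ℝ)) hw (by simpa)
  have h3 : ((s 0 ^ 2 + ∑ k ∈ range N, s (k + 1) ^ 2 : ℕ) : ℝ) ≤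
    (∑ k ∈ range N, s (k + 1) * s (π k) : ℕ) := by exact_mod_cast e
  push_cast at h3
  rw [sum_sub_distrib] at h1
  linarith

/-- A new node is joined to at most one node of a connected diagram. -/
theorem Cx.cycle (h : Cx M) (hw : Inj w (N + 2)) (π : ℕ → ℕ)
    (hπ : ∀ k < N, π k ≤ k ∧ 3 ≤ M (w (k + 1)) (w (π k))) {a b : ℕ} (ha : a < N + 1)
    (hb : b < N + 1) (ea : 3 ≤ M (w (N + 1)) (w a)) (eb : 3 ≤ M (w (N + 1)) (w b)) : a = b := by
  by_contra hab
  have h1 := h.tree (s := fun _ => 1) (fun _ => zero_le_one) π N (hw.mono (by omega)) hπ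
  have h2 := h.succ (s := fun _ => 1) hw (fun _ => zero_le_one) (T := {a, b})
    (by simp [insert_subset_iff, ha, hb])
  have h3 := h.pos (s := fun _ => 1) hw one_ne_zero
  have h4 := gram_le (by norm_num) ea
  have h5 := gram_le (by norm_num) eb
  rw [sum_pair hab] at h2
  simp only [Nat.cast_ofNat, Real.cos_pi_div_three] at h4 h5
  simp only [one_pow, mul_one, sub_self, sum_const_zero] at h1
  linarith

theorem Cx.path (h : Cx M) (hs : ∀ i, 0 ≤ s i) {L : ℕ} (h2 : ∀ k ≤ L, s k = 2) (hw : Inj w (L + 1))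
    (hp : ∀ k < L, 3 ≤ M (w (k + 1)) (w k)) : Q M w s (L + 1) ≤ 4 := by
  have := h.tree hs id L hw fun k hk => ⟨le_rfl, hp k hk⟩
  rw [sum_eq_zero fun k hk => by
    have := mem_range.1 hk
    rw [id, h2 _ (by omega), h2 _ (by omega)]
    norm_num, h2 0 (by omega)] at this
  linarith

theorem sq2 : √2 * √2 = 2 := Real.mul_self_sqrt zero_le_two

theorem Cx.c44 (h : Cx M) {L : ℕ} (hw : Inj w (L + 3)) (hp : ∀ k < L, 3 ≤ M (w (k + 1)) (w k))
    (e1 : 4 ≤ M (w (L + 1)) (w 0)) (e2 : 4 ≤ M (w (L + 2)) (w L)) : False := by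
  let s : ℕ → ℝ := fun k => if k ≤ L then 2 else √2
  have hs : ∀ i, 0 ≤ s i := fun i => by simp only [s]; split_ifs <;> positivity
  have h1 := h.path hs (fun k hk => if_pos hk) (hw.mono (by omega)) hp
  have h2 := h.add4 (hw.mono (by omega)) hs (by omega) e1
  have h3 := h.add4 hw hs (by omega) e2
  have h4 := h.pos (s := s) hw (by simp [s])
  simp only [s, zero_le, le_refl, if_true, if_neg (show ¬ L + 1 ≤ L by omega),
    if_neg (show ¬ L + 2 ≤ L by omega)] at h2 h3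
  nlinarith [sq2]

theorem Cx.c433 (h : Cx M) {L : ℕ} (hw : Inj w (L + 4)) (hp : ∀ k < L, 3 ≤ M (w (k + 1)) (w k))
    (e1 : 4 ≤ M (w (L + 1)) (w 0)) (e2 : 3 ≤ M (w (L + 2)) (w L)) (e3 : 3 ≤ M (w (L + 3)) (w L)) :
    False := by
  let s : ℕ → ℝ := fun k => if k ≤ L then 2 else if k = L + 1 then √2 else 1
  have hs : ∀ i, 0 ≤ s i := fun i => by simp only [s]; split_ifs <;> positivity
  have h1 := h.path hs (fun k hk => if_pos hk) (hw.mono (by omega)) hp
  have h2 := h.add4 (hw.mono (by omega)) hs (by omega) e1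
  have h3 := h.add3 (hw.mono (by omega)) hs (by omega) e2
  have h3' := h.add3 hw hs (by omega) e3
  have h4 := h.pos (s := s) hw (by simp [s])
  simp only [s, zero_le, le_refl, if_true, if_neg (show ¬ L + 1 ≤ L by omega),
    if_neg (show ¬ L + 2 ≤ L by omega), if_neg (show ¬ L + 3 ≤ L by omega),
    if_neg (show ¬ L + 2 = L + 1 by omega), if_neg (show ¬ L + 3 = L + 1 by omega)] at h2 h3 h3'
  nlinarith [sq2]

theorem Cx.c3333 (h : Cx M) {L : ℕ} (hw : Inj w (L + 5)) (hp : ∀ k < L, 3 ≤ M (w (k + 1)) (w k))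
    (e1 : 3 ≤ M (w (L + 1)) (w 0)) (e2 : 3 ≤ M (w (L + 2)) (w 0)) (e3 : 3 ≤ M (w (L + 3)) (w L))
    (e4 : 3 ≤ M (w (L + 4)) (w L)) : False := by
  let s : ℕ → ℝ := fun k => if k ≤ L then 2 else 1
  have hs : ∀ i, 0 ≤ s i := fun i => by simp only [s]; split_ifs <;> positivity
  have h1 := h.path hs (fun k hk => if_pos hk) (hw.mono (by omega)) hp
  have h2 := h.add3 (hw.mono (by omega)) hs (by omega) e1
  have h2' := h.add3 (hw.mono (by omega)) hs (by omega) e2
  have h3 := h.add3 (hw.mono (by omega)) hs (by omega) e3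
  have h3' := h.add3 hw hs (by omega) e4
  have h4 := h.pos (s := s) hw (by simp [s])
  simp only [s, zero_le, le_refl, if_true, if_neg (show ¬ L + 1 ≤ L by omega),
    if_neg (show ¬ L + 2 ≤ L by omega), if_neg (show ¬ L + 3 ≤ L by omega),
    if_neg (show ¬ L + 4 ≤ L by omega)] at h2 h3 h3' h2'
  linarith

theorem Cx.f4 (h : Cx M) (hw : Inj w 5) (e1 : 3 ≤ M (w 1) (w 0)) (e2 : 3 ≤ M (w 2) (w 1))
    (e3 : 4 ≤ M (w 3) (w 2)) (e4 : 3 ≤ M (w 4) (w 3)) : False := by
  let s : ℕ → ℝ := fun k => if k < 3 then k + 1 else if k = 3 then 2 * √2 else √2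
  have hs : ∀ i, 0 ≤ s i := fun i => by simp only [s]; split_ifs <;> positivity
  have h1 := h.add3 (hw.mono (by omega)) hs (by omega) e1
  have h2 := h.add3 (hw.mono (by omega)) hs (by omega) e2
  have h3 := h.add4 (hw.mono (by omega)) hs (by omega) e3
  have h4 := h.add3 hw hs (by omega) e4
  have h5 := h.pos (s := s) hw (by simp [s])
  rw [Q_one] at h1
  norm_num [s] at h1 h2 h3 h4 h5
  nlinarith [sq2]

theorem Cx.g2 (h : Cx M) {i j k : B} (ij : i ≠ j) (ik : i ≠ k) (jk : j ≠ k) (e1 : 6 ≤ M j i)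
    (e2 : 3 ≤ M k j) : False := by
  let w : ℕ → B := fun n => if n = 0 then i else if n = 1 then j else k
  have hw : Inj w 3 := fun a ha b hb => by
    interval_cases a <;> interval_cases b <;> simp [w, ij, ik, jk, ij.symm, ik.symm, jk.symm]
  let s : ℕ → ℝ := fun k => if k = 0 then √3 else if k = 1 then 2 else 1
  have hs : ∀ i, 0 ≤ s i := fun i => by simp only [s]; split_ifs <;> positivity
  have h1 := h.add (N := 1) (hw.mono (by omega)) hs (a := 0) (by omega) (by norm_num) e1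
  have h2 := h.add3 (N := 2) hw hs (a := 1) (by omega) e2
  have h5 := h.pos (s := s) hw (by simp [s])
  rw [Q_one, Nat.cast_ofNat, Real.cos_pi_div_six] at h1
  norm_num [s] at h1 h2 h5
  nlinarith [Real.mul_self_sqrt (zero_le_three (α := ℝ))]

end Cfsg.Agent.Bld.CoxCl
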