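import Mathlib
import Cfsg.Agent.Bld.CoxClA

/-! Growing positive definite Coxeter diagrams node by node. -/

set_option autoImplicit false

namespace Cfsg.Agent.Bld.CoxCl

open Finset

variable {B : Type*} [Fintype B] [DecidableEq B] {M : CoxeterMatrix B} {g : ℕ → ℕ → ℕ} {N : ℕ}

/-- The diagram `g` on `0, …, N - 1` is a full subdiagram of `M`. -/
def Sub {B : Type*} (M : CoxeterMatrix B) (g : ℕ → ℕ → ℕ) (N : ℕ) : Prop :=
  ∃ e : ℕ → B, Inj e N ∧ ∀ i < N, ∀ j < N, M (e i) (e j) = g i j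

omit [Fintype B] [DecidableEq B] in
theorem Sub.comp (h : Sub M g N) (σ : ℕ → ℕ) {N' : ℕ} (h1 : ∀ k < N', σ k < N) (h2 : Inj σ N') :
    Sub M (fun i j => g (σ i) (σ j)) N' := by
  obtain ⟨e, he, hg⟩ := h
  exact ⟨e ∘ σ, fun k hk l hl x => h2 k hk l hl (he _ (h1 _ hk) _ (h1 _ hl) x),
    fun i hi j hj => hg _ (h1 _ hi) _ (h1 _ hj)⟩

omit [Fintype B] [DecidableEq B] in
theorem Sub.ren (h : Sub M g N) (σ : ℕ → ℕ) {N' : ℕ} {g' : ℕ → ℕ → ℕ}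
    (hg' : ∀ i j, g' i j = 1 → i = j) (h1 : ∀ k < N', σ k < N)
    (h3 : ∀ i < N', ∀ j < N', g (σ i) (σ j) = g' i j) : Sub M g' N' := by
  obtain ⟨e, he, hg⟩ := h
  have a : ∀ i < N', ∀ j < N', M (e (σ i)) (e (σ j)) = g' i j := fun i hi j hj =>
    (hg _ (h1 _ hi) _ (h1 _ hj)).trans (h3 _ hi _ hj)
  exact ⟨e ∘ σ, fun k hk l hl x => hg' _ _ (by
    rw [← a _ hk _ hl, show e (σ k) = e (σ l) from x, M.diagonal]), a⟩

theorem Sub.tree (hx : Cx M) (h : Sub M g N) (σ s π : ℕ → ℕ) (L : ℕ) (h1 : ∀ k < L + 1, σ k < N)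
    (h2 : Inj σ (L + 1)) (hπ : ∀ k < L, π k ≤ k ∧ 3 ≤ g (σ (k + 1)) (σ (π k))) (h0 : s 0 ≠ 0)
    (e : s 0 ^ 2 + ∑ k ∈ range L, s (k + 1) ^ 2 ≤ ∑ k ∈ range L, s (k + 1) * s (π k)) : False := by
  obtain ⟨w, hw, hg⟩ := h.comp σ h1 h2
  exact hx.tree_nat s π L hw (fun k hk => ⟨(hπ k hk).1, by
    have := hπ k hk
    rw [hg _ (by omega) _ (by omega)]
    exact this.2⟩) h0 e

theorem Sub.c44 (hx : Cx M) (h : Sub M g N) (σ : ℕ → ℕ) (L : ℕ) (h1 : ∀ k < L + 3, σ k < N)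
    (h2 : Inj σ (L + 3)) (hp : ∀ k < L, 3 ≤ g (σ (k + 1)) (σ k)) (e1 : 4 ≤ g (σ (L + 1)) (σ 0))
    (e2 : 4 ≤ g (σ (L + 2)) (σ L)) : False := by
  obtain ⟨w, hw, hg⟩ := h.comp σ h1 h2
  refine hx.c44 hw (fun k hk => ?_) ?_ ?_ <;> rw [hg _ (by omega) _ (by omega)]
  exacts [hp k hk, e1, e2]

theorem Sub.c433 (hx : Cx M) (h : Sub M g N) (σ : ℕ → ℕ) (L : ℕ) (h1 : ∀ k < L + 4, σ k < N)
    (h2 : Inj σ (L + 4)) (hp : ∀ k < L, 3 ≤ g (σ (k + 1)) (σ k)) (e1 : 4 ≤ g (σ (L + 1)) (σ 0))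
    (e2 : 3 ≤ g (σ (L + 2)) (σ L)) (e3 : 3 ≤ g (σ (L + 3)) (σ L)) : False := by
  obtain ⟨w, hw, hg⟩ := h.comp σ h1 h2
  refine hx.c433 hw (fun k hk => ?_) ?_ ?_ ?_ <;> rw [hg _ (by omega) _ (by omega)]
  exacts [hp k hk, e1, e2, e3]

theorem Sub.c3333 (hx : Cx M) (h : Sub M g N) (σ : ℕ → ℕ) (L : ℕ) (h1 : ∀ k < L + 5, σ k < N)
    (h2 : Inj σ (L + 5)) (hp : ∀ k < L, 3 ≤ g (σ (k + 1)) (σ k)) (e1 : 3 ≤ g (σ (L + 1)) (σ 0))
    (e2 : 3 ≤ g (σ (L + 2)) (σ 0)) (e3 : 3 ≤ g (σ (L + 3)) (σ L))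
    (e4 : 3 ≤ g (σ (L + 4)) (σ L)) : False := by
  obtain ⟨w, hw, hg⟩ := h.comp σ h1 h2
  refine hx.c3333 hw (fun k hk => ?_) ?_ ?_ ?_ ?_ <;> rw [hg _ (by omega) _ (by omega)]
  exacts [hp k hk, e1, e2, e3, e4]

theorem Sub.f4 (hx : Cx M) (h : Sub M g N) (σ : ℕ → ℕ) (h1 : ∀ k < 5, σ k < N) (h2 : Inj σ 5)
    (e1 : 3 ≤ g (σ 1) (σ 0)) (e2 : 3 ≤ g (σ 2) (σ 1)) (e3 : 4 ≤ g (σ 3) (σ 2))
    (e4 : 3 ≤ g (σ 4) (σ 3)) : False := by
  obtain ⟨w, hw, hg⟩ := h.comp σ h1 h2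
  refine hx.f4 hw ?_ ?_ ?_ ?_ <;> rwa [hg _ (by omega) _ (by omega)]

/-- A new node `n` joined to the node `a` by an edge `m`. -/
def ext (f : ℕ → ℕ → ℕ) (n a m i j : ℕ) : ℕ :=
  if i = n then if j = n then 1 else if j = a then m else 2
  else if j = n then if i = a then m else 2 else f i j

theorem Sub.step (hx : Cx M) (hc : Conn M) (h4 : ∀ i j, M i j ≤ 4) (h : Sub M g (N + 1))
    (hN : N + 1 < Fintype.card B) (π : ℕ → ℕ) (hπ : ∀ k < N, π k ≤ k ∧ 3 ≤ g (k + 1) (π k)) :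
    ∃ a m, a ≤ N ∧ (m = 3 ∨ m = 4) ∧ Sub M (ext g (N + 1) a m) (N + 2) := by
  obtain ⟨e, he, hg⟩ := h
  obtain ⟨_, ⟨a, ha, rfl⟩, t, ht, hat⟩ := hc (e '' {k | k < N + 1}) ⟨e 0, 0, by simp, rfl⟩ (by
    rw [Set.nonempty_compl]
    intro x
    have := Fintype.card_le_of_surjective (fun k : Fin (N + 1) => e k) fun b => by
      obtain ⟨k, hk, rfl⟩ := x.ge (Set.mem_univ b)
      exact ⟨⟨k, hk⟩, rfl⟩
    rw [Fintype.card_fin] at this
    omega)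
  replace ha : a < N + 1 := ha
  have ht' : ∀ k < N + 1, e k ≠ t := fun k hk x => ht ⟨k, hk, x⟩
  let w : ℕ → B := fun k => if k = N + 1 then t else e k
  have w1 : ∀ k < N + 1, w k = e k := fun k hk => if_neg hk.ne
  have w2 : w (N + 1) = t := if_pos rfl
  have hw : Inj w (N + 2) := fun k hk l hl x => by
    rcases Nat.lt_succ_iff_lt_or_eq.1 hk with hk | rfl <;>
      rcases Nat.lt_succ_iff_lt_or_eq.1 hl with hl | rfl
    · exact he k hk l hl (by rwa [w1 _ hk, w1 _ hl] at x)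
    · exact (ht' k hk (by rwa [w1 _ hk, w2] at x)).elim
    · exact (ht' l hl (by rw [w1 _ hl, w2] at x; exact x.symm)).elim
    · rfl
  have a2 := hx.two _ _ (ht' a ha)
  have a4 := h4 (e a) t
  have u : ∀ b < N + 1, M (e b) t = if b = a then M (e a) t else 2 := fun b hb => by
    split_ifs with hba
    · rw [hba]
    · by_contra x
      have := hx.two _ _ (ht' b hb)
      refine hba (hx.cycle hw π (fun k hk => ⟨(hπ k hk).1, ?_⟩) hb ha ?_ ?_)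
      · have := hπ k hk
        rw [w1 _ (by omega), w1 _ (by omega), hg _ (by omega) _ (by omega)]
        exact this.2
      · rw [w2, w1 _ hb, M.symmetric]
        omega
      · rw [w2, w1 _ ha, M.symmetric]
        omega
  refine ⟨a, M (e a) t, by omega, by omega, w, hw, fun i hi j hj => ?_⟩
  rcases Nat.lt_succ_iff_lt_or_eq.1 hi with hi | rfl <;>
    rcases Nat.lt_succ_iff_lt_or_eq.1 hj with hj | rfl
  · rw [w1 _ hi, w1 _ hj, ext, if_neg hi.ne, if_neg hj.ne, hg _ hi _ hj]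
  · rw [w1 _ hi, w2, ext, if_neg hi.ne, if_pos rfl, u _ hi]
  · rw [w1 _ hj, w2, ext, if_pos rfl, if_neg hj.ne, M.symmetric, u _ hj]
  · simp [ext]

theorem Cx.le_four (hx : Cx M) (hM : FH M) (hc : Conn M) (h3 : 3 ≤ Fintype.card B) (i j : B) :
    M i j ≤ 4 := by
  by_contra x
  have ij : i ≠ j := fun e => by simp [e] at x
  have h6 : 6 ≤ M i j := by have := hM i j ij; omega
  obtain ⟨a, ha, k, hk, hak⟩ := hc {i, j} ⟨i, by simp⟩ (by
    rw [Set.nonempty_compl]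
    intro y
    have := Finset.card_le_two (a := i) (b := j)
    rw [show ({i, j} : Finset B) = univ from by
      ext b
      simpa using y.ge (Set.mem_univ b), card_univ] at this
    omega)
  simp only [Set.mem_insert_iff, Set.mem_singleton_iff, not_or] at ha hk
  rcases ha with rfl | rfl
  · have := hx.two _ _ (Ne.symm hk.1)
    exact hx.g2 ij.symm (Ne.symm hk.2) (Ne.symm hk.1) h6 (by rw [M.symmetric]; omega)
  · have := hx.two _ _ (Ne.symm hk.2)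
    exact hx.g2 ij (Ne.symm hk.1) (Ne.symm hk.2) (by rwa [M.symmetric]) (by rw [M.symmetric]; omega)

omit [DecidableEq B] in
theorem Sub.isTy (h : Sub M g (Fintype.card B)) {n : ℕ} (hn : Fintype.card B = n)
    {M₀ : CoxeterMatrix (Fin n)} (hg : ∀ i j : Fin n, g i j = M₀ i j) : IsTy M M₀ := by
  subst hn
  obtain ⟨e, he, hM⟩ := h
  refine ⟨Equiv.ofBijective (fun i => e i) ((Fintype.bijective_iff_injective_and_card _).2
    ⟨fun i j x => Fin.ext (he _ i.2 _ j.2 x), by simp⟩), fun i j => ?_⟩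
  exact (hM _ i.2 _ j.2).trans (hg i j)

end Cfsg.Agent.Bld.CoxCl
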