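import Mathlib
import Cfsg.Agent.Bld.CoxClB

/-! The strings and the forked strings are closed under growing. -/

set_option autoImplicit false

namespace Cfsg.Agent.Bld.CoxCl

open Finset

variable {B : Type*} [Fintype B] [DecidableEq B] {M : CoxeterMatrix B}

/-- A string whose edge `p, p + 1` is double. -/
def fL (p i j : ℕ) : ℕ :=
  if i = j then 1 else if i + 1 = j ∨ j + 1 = i then if i + j = 2 * p + 1 then 4 else 3 else 2

/-- A string `0, …, k - 1` with the node `k` joined to `p`. -/
def fY (k p i j : ℕ) : ℕ := ext (fL k) k p 3 i j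

theorem fL_one (p i j : ℕ) : fL p i j = 1 → i = j := by
  grind [fL]

theorem fY_one (k p i j : ℕ) : fY k p i j = 1 → i = j := by
  grind [fL, fY, CoxCl.ext]

/-- The diagrams met while growing. -/
def Known {B : Type*} (M : CoxeterMatrix B) (n : ℕ) : Prop :=
  (∃ p, Sub M (fL p) n) ∨ ∃ k p, n = k + 1 ∧ 1 ≤ p ∧ p + 2 ≤ k ∧ Sub M (fY k p) n

theorem stepL3 (hx : Cx M) {p n a : ℕ} (ha : a < n) (h : Sub M (ext (fL p) n a 3) (n + 1)) :
    Known M (n + 1) := by
  by_cases h1 : a + 1 = n
  · exact .inl ⟨if p + 2 ≤ n then p else n, h.ren id (fL_one _) (fun _ => id) (by grind [fL, CoxCl.ext])⟩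
  by_cases h0 : a = 0
  · exact .inl ⟨p + 1, h.ren (fun k => if k = 0 then n else k - 1) (fL_one _) (by grind)
      (by grind [fL, CoxCl.ext])⟩
  by_cases hp : n < p + 2
  · exact .inr ⟨n, a, rfl, by omega, by omega, h.ren id (fY_one _ _) (fun _ => id)
      (by grind [fL, fY, CoxCl.ext])⟩
  by_cases hi : p < a
  · exact (h.c433 hx (fun k => if k ≤ a - p - 1 then p + 1 + k else if k = a - p then p
      else if k = a - p + 1 then a + 1 else n) (a - p - 1) (by grind) (by grind [Inj])
      (by grind [fL, CoxCl.ext]) (by grind [fL, CoxCl.ext]) (by grind [fL, CoxCl.ext]) (by grind [fL, CoxCl.ext])).elim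
  · exact (h.c433 hx (fun k => if k ≤ p - a then p - k else if k = p - a + 1 then p + 1
      else if k = p - a + 2 then a - 1 else n) (p - a) (by grind) (by grind [Inj])
      (by grind [fL, CoxCl.ext]) (by grind [fL, CoxCl.ext]) (by grind [fL, CoxCl.ext]) (by grind [fL, CoxCl.ext])).elim

theorem stepL4 (hx : Cx M) {p n a : ℕ} (ha : a < n) (h : Sub M (ext (fL p) n a 4) (n + 1)) :
    Known M (n + 1) := by
  by_cases hp : p + 2 ≤ n
  · by_cases hi : p < a
    · exact (h.c44 hx (fun k => if k ≤ a - p - 1 then p + 1 + k else if k = a - p then p else n)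
        (a - p - 1) (by grind) (by grind [Inj]) (by grind [fL, CoxCl.ext]) (by grind [fL, CoxCl.ext])
        (by grind [fL, CoxCl.ext])).elim
    · exact (h.c44 hx (fun k => if k ≤ p - a then p - k else if k = p - a + 1 then p + 1 else n)
        (p - a) (by grind) (by grind [Inj]) (by grind [fL, CoxCl.ext]) (by grind [fL, CoxCl.ext])
        (by grind [fL, CoxCl.ext])).elim
  by_cases h1 : a + 1 = n
  · exact .inl ⟨a, h.ren id (fL_one _) (fun _ => id) (by grind [fL, CoxCl.ext])⟩
  by_cases h0 : a = 0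
  · exact .inl ⟨0, h.ren (fun k => if k = 0 then n else k - 1) (fL_one _) (by grind)
      (by grind [fL, CoxCl.ext])⟩
  · exact (h.c433 hx (fun k => if k = 0 then a else if k = 1 then n else if k = 2 then a - 1
      else a + 1) 0 (by grind) (by grind [Inj])
      (by grind [fL, CoxCl.ext]) (by grind [fL, CoxCl.ext]) (by grind [fL, CoxCl.ext]) (by grind [fL, CoxCl.ext])).elim

theorem stepY4 (hx : Cx M) {k p a : ℕ} (h1 : 1 ≤ p) (h2 : p + 2 ≤ k) (ha : a ≤ k)
    (h : Sub M (ext (fY k p) (k + 1) a 4) (k + 2)) : False := by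
  by_cases hi : a ≤ p
  · exact h.c433 hx (fun j => if j ≤ p - a then a + j else if j = p - a + 1 then k + 1
      else if j = p - a + 2 then p + 1 else k) (p - a) (by grind) (by grind [Inj])
      (by grind [fL, fY, CoxCl.ext]) (by grind [fL, fY, CoxCl.ext]) (by grind [fL, fY, CoxCl.ext])
      (by grind [fL, fY, CoxCl.ext])
  by_cases hk : a = k
  · exact h.c433 hx (fun j => if j = 0 then k else if j = 1 then p else if j = 2 then k + 1
      else if j = 3 then p - 1 else p + 1) 1 (by grind) (by grind [Inj])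
      (by grind [fL, fY, CoxCl.ext]) (by grind [fL, fY, CoxCl.ext]) (by grind [fL, fY, CoxCl.ext])
      (by grind [fL, fY, CoxCl.ext])
  · exact h.c433 hx (fun j => if j ≤ a - p then a - j else if j = a - p + 1 then k + 1
      else if j = a - p + 2 then p - 1 else k) (a - p) (by grind) (by grind [Inj])
      (by grind [fL, fY, CoxCl.ext]) (by grind [fL, fY, CoxCl.ext]) (by grind [fL, fY, CoxCl.ext])
      (by grind [fL, fY, CoxCl.ext])

theorem stepY3 (hx : Cx M) {k p a : ℕ} (h1 : 1 ≤ p) (h2 : p + 2 ≤ k) (ha : a ≤ k)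
    (h : Sub M (ext (fY k p) (k + 1) a 3) (k + 2)) : Known M (k + 2) := by
  by_cases a1 : a + 1 = k
  · exact .inr ⟨k + 1, p, rfl, h1, by omega, h.ren (fun j => if j = k then k + 1 else
      if j = k + 1 then k else j) (fY_one _ _) (by grind)
      (by grind (splits := 40) [fL, fY, CoxCl.ext])⟩
  by_cases a0 : a = 0
  · exact .inr ⟨k + 1, p + 1, rfl, by omega, by omega, h.ren (fun j => if j = 0 then k + 1 else
      j - 1) (fY_one _ _) (by grind)
      (by grind (splits := 40) [fL, fY, CoxCl.ext])⟩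
  by_cases ak : a = k
  · by_cases p1 : p = 1
    · exact .inr ⟨k + 1, 2, rfl, by omega, by omega, h.ren (fun j => if j ≤ 1 then k + 1 - j else
        if j = k + 1 then 0 else j - 1) (fY_one _ _) (by grind)
      (by grind (splits := 40) [fL, fY, CoxCl.ext])⟩
    by_cases p2 : p + 2 = k
    · exact .inr ⟨k + 1, p, rfl, h1, by omega, h.ren (fun j => if j ≤ p then j else
        if j ≤ k then j + 1 else k - 1) (fY_one _ _) (by grind)
      (by grind (splits := 40) [fL, fY, CoxCl.ext])⟩
    · exact (h.tree hx (fun j => if j ≤ 4 then p - 2 + j else k + j - 5)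
        (fun j => [1, 2, 3, 2, 1, 2, 1].getD j 0) (fun j => if j = 4 then 2 else j) 6 (by grind)
        (by grind [Inj]) (by grind [fL, fY, CoxCl.ext]) (by decide) (by decide)).elim
  by_cases hi : a ≤ p
  · exact (h.c3333 hx (fun j => if j ≤ p - a then a + j else if j = p - a + 1 then a - 1
      else if j = p - a + 2 then k + 1 else if j = p - a + 3 then p + 1 else k) (p - a) (by grind)
      (by grind [Inj]) (by grind [fL, fY, CoxCl.ext]) (by grind [fL, fY, CoxCl.ext])
      (by grind [fL, fY, CoxCl.ext]) (by grind [fL, fY, CoxCl.ext])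
      (by grind [fL, fY, CoxCl.ext])).elim
  · exact (h.c3333 hx (fun j => if j ≤ a - p then p + j else if j = a - p + 1 then p - 1
      else if j = a - p + 2 then k else if j = a - p + 3 then a + 1 else k + 1) (a - p) (by grind)
      (by grind [Inj]) (by grind [fL, fY, CoxCl.ext]) (by grind [fL, fY, CoxCl.ext])
      (by grind [fL, fY, CoxCl.ext]) (by grind [fL, fY, CoxCl.ext])
      (by grind [fL, fY, CoxCl.ext])).elim

theorem known (hx : Cx M) (hc : Conn M) (h4 : ∀ i j, M i j ≤ 4) :
    ∀ n, n < Fintype.card B → Known M (n + 1)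
  | 0, h => by
    obtain ⟨b⟩ := Fintype.card_pos_iff.1 h
    exact .inl ⟨0, fun _ => b, by grind [Inj], fun i hi j hj => by
      rw [M.diagonal, fL, if_pos (by omega)]⟩
  | n + 1, h => by
    rcases known hx hc h4 n (by omega) with ⟨p, s⟩ | ⟨k, p, e, h1, h2, s⟩
    · obtain ⟨a, m, ha, rfl | rfl, t⟩ := s.step hx hc h4 h id (by grind [fL])
      exacts [stepL3 hx (by omega) t, stepL4 hx (by omega) t]
    · obtain rfl : n = k := by omega
      obtain ⟨a, m, ha, rfl | rfl, t⟩ := s.step hx hc h4 h (fun j => if j + 1 = n then p else j)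
        (by grind [fL, fY, CoxCl.ext])
      exacts [stepY3 hx h1 h2 ha t, (stepY4 hx h1 h2 ha t).elim]

end Cfsg.Agent.Bld.CoxCl
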