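import Mathlib
import Cfsg.Agent.Bld.Types
import Cfsg.Agent.Bld.CoxClC

/-! The classification of connected positive definite Coxeter diagrams without an edge `5`. -/

set_option autoImplicit false

namespace Cfsg.Agent.Bld

namespace CoxCl

variable {B : Type*} [Fintype B] [DecidableEq B] {M : CoxeterMatrix B}

theorem endL (hx : Cx M) {n p : ℕ} (hn : Fintype.card B = n) (h : Sub M (fL p) n) :
    IsTy M (CoxeterMatrix.A n) ∨ IsTy M (CoxeterMatrix.B n) ∨ IsTy M CoxeterMatrix.F₄ := by
  have hB : Sub M (fL (n - 2)) n → IsTy M (CoxeterMatrix.B n) := fun h =>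
    (hn ▸ h).isTy hn fun i j => by
      have := i.2
      have := j.2
      simp only [CoxeterMatrix.B, Matrix.of_apply, Fin.ext_iff]
      grind [fL]
  by_cases h1 : n < p + 2
  · refine .inl ((hn ▸ h).isTy hn fun i j => ?_)
    have := i.2
    have := j.2
    simp only [CoxeterMatrix.A, Matrix.of_apply, Fin.ext_iff]
    grind [fL]
  by_cases h2 : p = n - 2
  · exact .inr (.inl (hB (h2 ▸ h)))
  by_cases h3 : p = 0
  · exact .inr (.inl (hB (h.ren (fun k => n - 1 - k) (fL_one _) (by grind) (by grind [fL]))))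
  by_cases h4 : n = 4
  · obtain rfl : p = 1 := by omega
    exact .inr (.inr ((hn ▸ h).isTy (hn.trans h4) fun i j => by
      fin_cases i <;> fin_cases j <;> rfl))
  by_cases h5 : p = 1
  · exact (h.f4 hx (fun k => 4 - k) (by grind) (by grind [Inj]) (by grind [fL]) (by grind [fL])
      (by grind [fL]) (by grind [fL])).elim
  · exact (h.f4 hx (fun k => p - 2 + k) (by grind) (by grind [Inj]) (by grind [fL]) (by grind [fL])
      (by grind [fL]) (by grind [fL])).elim

omit [Fintype B] [DecidableEq B] in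
theorem Sub.revY {k p : ℕ} (hp : p < k) (h : Sub M (fY k p) (k + 1)) :
    Sub M (fY k (k - 1 - p)) (k + 1) :=
  h.ren (fun j => if j = k then k else k - 1 - j) (fY_one _ _) (by grind)
    (by grind (splits := 40) [fL, fY, CoxCl.ext])

theorem endY (hx : Cx M) {k p : ℕ} (hn : Fintype.card B = k + 1) (h1 : 1 ≤ p) (h2 : p + 2 ≤ k)
    (h : Sub M (fY k p) (k + 1)) : IsTy M (MD (k + 1)) ∨ IsTy M CoxeterMatrix.E₆ ∨
      IsTy M CoxeterMatrix.E₇ ∨ IsTy M CoxeterMatrix.E₈ := by
  have hD : Sub M (fY k (k - 2)) (k + 1) → IsTy M (MD (k + 1)) := fun h =>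
    (hn ▸ h).isTy hn fun i j => by
      have := i.2
      have := j.2
      simp only [MD, Matrix.of_apply, Fin.ext_iff]
      grind (splits := 40) [fL, fY, CoxCl.ext]
  have hE : 5 ≤ k → Sub M (fY k 2) (k + 1) → IsTy M CoxeterMatrix.E₆ ∨
      IsTy M CoxeterMatrix.E₇ ∨ IsTy M CoxeterMatrix.E₈ := fun h5 h => by
    have h8 : k < 8 := by
      by_contra h8
      exact h.tree hx (fun j => if j ≤ 7 then j else k)
        (fun j => [2, 4, 6, 5, 4, 3, 2, 1, 3].getD j 0) (fun j => if j = 7 then 2 else j) 8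
        (by grind) (by grind [Inj]) (by grind [fL, fY, CoxCl.ext]) (by decide) (by decide)
    have s := h.comp (fun j => if j = 0 then 0 else if j = 1 then k else j - 1) (N' := k + 1)
      (by grind) (by grind [Inj])
    rw [← hn] at s
    interval_cases k
    · exact .inl (s.isTy hn fun i j => by fin_cases i <;> fin_cases j <;> rfl)
    · exact .inr (.inl (s.isTy hn fun i j => by fin_cases i <;> fin_cases j <;> rfl))
    · exact .inr (.inr (s.isTy hn fun i j => by fin_cases i <;> fin_cases j <;> rfl))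
  have r := h.revY (by omega)
  by_cases h3 : p = k - 2
  · exact .inl (hD (h3 ▸ h))
  by_cases h4 : p = 1
  · exact .inl (hD (by rwa [show k - 1 - p = k - 2 by omega] at r))
  by_cases h5 : p = 2
  · exact .inr (hE (by omega) (h5 ▸ h))
  by_cases h6 : k - 1 - p = 2
  · exact .inr (hE (by omega) (h6 ▸ r))
  · exact (h.tree hx (fun j => if j ≤ 6 then p - 3 + j else k)
      (fun j => [1, 2, 3, 4, 3, 2, 1, 2].getD j 0) (fun j => if j = 6 then 3 else j) 7
      (by grind) (by grind [Inj]) (by grind [fL, fY, CoxCl.ext]) (by decide) (by decide)).elim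

end CoxCl

open CoxCl in
/-- The classification of the connected positive definite diagrams without an edge `5`. -/
theorem cox_class {B : Type*} [Fintype B] [DecidableEq B] {M : CoxeterMatrix B} (hM : FH M)
    (hc : Conn M) (hp : (gram M).PosDef) (h3 : 3 ≤ Fintype.card B) :
    (∃ n, 3 ≤ n ∧ IsTy M (CoxeterMatrix.A n)) ∨ (∃ n, 3 ≤ n ∧ IsTy M (CoxeterMatrix.B n)) ∨
      (∃ n, 4 ≤ n ∧ IsTy M (MD n)) ∨ IsTy M CoxeterMatrix.E₆ ∨ IsTy M CoxeterMatrix.E₇ ∨
        IsTy M CoxeterMatrix.E₈ ∨ IsTy M CoxeterMatrix.F₄ := by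
  have hx : Cx M := ⟨fun i j h => by have := hM i j h; omega, hp⟩
  obtain ⟨n, hn⟩ : ∃ n, Fintype.card B = n + 1 := ⟨Fintype.card B - 1, by omega⟩
  rcases known hx hc (hx.le_four hM hc h3) n (by omega) with ⟨p, s⟩ | ⟨k, p, e, h1, h2, s⟩
  · rcases endL hx hn s with h | h | h
    exacts [.inl ⟨_, by omega, h⟩, .inr (.inl ⟨_, by omega, h⟩), by tauto]
  · obtain rfl : n = k := by omega
    rcases endY hx hn h1 h2 s with h | h
    exacts [.inr (.inr (.inl ⟨_, by omega, h⟩)), by tauto]

end Cfsg.Agent.Bld
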