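import Mathlib
import Cfsg.Agent.Bld.Types

/-! The geometric representation of a Coxeter group. -/

set_option autoImplicit false
set_option linter.unusedSimpArgs false

namespace Cfsg.Agent.Bld

namespace CoxRep

open Polynomial

section Refl

variable {V : Type*} [AddCommGroup V] [Module ℝ V]

/-- The reflection `v ↦ v - 2 f(v) e`. -/
noncomputable def rf (f : V →ₗ[ℝ] ℝ) (e : V) : Module.End ℝ V :=
  LinearMap.id - (2 : ℝ) • f.smulRight e

theorem rf_apply (f : V →ₗ[ℝ] ℝ) (e v : V) : rf f e v = v - (2 * f v) • e := by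
  simp [rf, mul_smul]

variable {f g : V →ₗ[ℝ] ℝ} {e e' : V} {c : ℝ}

theorem rf_sq (h : f e = 1) : rf f e * rf f e = 1 := by
  ext v
  simp only [Module.End.mul_apply, rf_apply, map_sub, map_smul, h, smul_eq_mul,
    Module.End.one_apply]
  module

theorem rf_two (h1 : f e = 1) (h2 : g e' = 1) (h3 : f e' = 0) (h4 : g e = 0) :
    (rf f e * rf g e') ^ 2 = 1 := by
  ext v
  simp only [pow_two, Module.End.mul_apply, rf_apply, map_sub, map_smul, h1, h2, h3, h4,
    smul_eq_mul, Module.End.one_apply]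
  module

theorem rf_cubic (h1 : f e = 1) (h2 : g e' = 1) (h3 : f e' = c) (h4 : g e = c) :
    aeval (rf f e * rf g e') ((X - 1) * (X ^ 2 - C (4 * c ^ 2 - 2) * X + 1) : ℝ[X]) = 0 := by
  ext v
  simp only [map_mul, map_sub, map_add, map_pow, aeval_X, aeval_C, map_one, pow_two,
    Module.End.mul_apply, LinearMap.sub_apply, LinearMap.add_apply, Module.algebraMap_end_apply,
    rf_apply, map_smul, h1, h2, h3, h4, smul_eq_mul, Module.End.one_apply, LinearMap.zero_apply]
  module

theorem rf_pow (h1 : f e = 1) (h2 : g e' = 1) (h3 : f e' = c) (h4 : g e = c) {m : ℕ} (q : ℝ[X])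
    (h : X ^ m - 1 = q * ((X - 1) * (X ^ 2 - C (4 * c ^ 2 - 2) * X + 1))) :
    (rf f e * rf g e') ^ m = 1 := by
  have := congrArg (aeval (rf f e * rf g e')) h
  rwa [map_mul, rf_cubic h1 h2 h3 h4, mul_zero, map_sub, map_pow, aeval_X, map_one,
    sub_eq_zero] at this

theorem rf_fh (h1 : f e = 1) (h2 : g e' = 1) {m : ℕ} (h3 : f e' = -Real.cos (Real.pi / m))
    (h4 : g e = -Real.cos (Real.pi / m)) (hm : m = 2 ∨ m = 3 ∨ m = 4 ∨ m = 6 ∨ m = 8) :
    (rf f e * rf g e') ^ m = 1 := by
  rcases hm with rfl | rfl | rfl | rfl | rfl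
  · exact rf_two h1 h2 (by simpa using h3) (by simpa using h4)
  · refine rf_pow h1 h2 h3 h4 1 ?_
    rw [show 4 * (-Real.cos (Real.pi / (3 : ℕ))) ^ 2 - 2 = -1 by norm_num, map_neg, map_one]
    ring
  · refine rf_pow h1 h2 h3 h4 (X + 1) ?_
    rw [show 4 * (-Real.cos (Real.pi / (4 : ℕ))) ^ 2 - 2 = 0 by
      simp only [Nat.cast_ofNat, Real.cos_pi_div_four, neg_sq, div_pow]; norm_num, map_zero]
    ring
  · refine rf_pow h1 h2 h3 h4 ((X + 1) * (X ^ 2 + X + 1)) ?_
    rw [show 4 * (-Real.cos (Real.pi / (6 : ℕ))) ^ 2 - 2 = 1 by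
      simp only [Nat.cast_ofNat, neg_sq, Real.sq_cos_pi_div_six]; norm_num, map_one]
    ring
  · refine rf_pow h1 h2 h3 h4 ((X + 1) * (X ^ 2 + 1) * (X ^ 2 + C √2 * X + 1)) ?_
    rw [show 4 * (-Real.cos (Real.pi / (8 : ℕ))) ^ 2 - 2 = √2 by
      simp only [Nat.cast_ofNat, Real.cos_pi_div_eight, neg_sq, div_pow]
      rw [Real.sq_sqrt (by positivity)]; ring]
    have h : (C √2 : ℝ[X]) ^ 2 = 2 := by rw [← map_pow, Real.sq_sqrt (by norm_num)]; rfl
    linear_combination (X + 1) * (X ^ 2 + 1) * (X - 1) * X ^ 2 * h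

end Refl

variable {B : Type*} {M : CoxeterMatrix B}

theorem gram_symm (i j : B) : gram M i j = gram M j i := by simp [gram, M.symmetric i j]

theorem gram_self (i : B) : gram M i i = 1 := by simp [gram]

theorem gram_ne (hM : FH M) {i j : B} (h : M i j ≠ 2) : gram M i j ≠ 0 := by
  by_cases hij : i = j
  · rw [hij, gram_self]; exact one_ne_zero
  have h1 : (3 : ℝ) ≤ M i j := by
    have := hM i j hij
    exact_mod_cast (show 3 ≤ M i j by omega)
  have h2 : 0 < Real.cos (Real.pi / M i j) := Real.cos_pos_of_mem_Ioo ⟨by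
    have : 0 < Real.pi / M i j := by have := Real.pi_pos; positivity
    linarith [Real.pi_pos], by
    exact div_lt_div_of_pos_left Real.pi_pos two_pos (by linarith)⟩
  simpa [gram] using h2.ne'

variable [Fintype B] [DecidableEq B]

variable (M) in
/-- The bilinear form with a basis vector. -/
noncomputable def fm (i : B) : (B → ℝ) →ₗ[ℝ] ℝ where
  toFun v := ∑ j, gram M i j * v j
  map_add' u v := by simp [mul_add, Finset.sum_add_distrib]
  map_smul' a v := by simp [Finset.mul_sum, mul_left_comm]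

theorem fm_single (i j : B) : fm M i (Pi.single j 1) = gram M i j := by
  simp [fm, Pi.single_apply]

end CoxRep

open CoxRep

variable {B W : Type*} [Group W] {M : CoxeterMatrix B} [Fintype B] [DecidableEq B]

/-- The geometric representation. -/
theorem exists_rep (cs : CoxeterSystem M W) (hM : FH M) : ∃ ρ : W →* Module.End ℝ (B → ℝ),
    ∀ i v, ρ (cs.simple i) v = v - (2 * ∑ j, gram M i j * v j) • Pi.single i (1 : ℝ) := by
  have h : M.IsLiftable fun i => rf (fm M i) (Pi.single i 1) := fun i j => by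
    have h1 : ∀ i, fm M i (Pi.single i 1) = 1 := fun i => by rw [fm_single, gram_self]
    by_cases hij : i = j
    · rw [hij, M.diagonal, pow_one, rf_sq (h1 j)]
    · exact rf_fh (h1 i) (h1 j) (by rw [fm_single]; rfl) (by rw [fm_single, gram_symm]; rfl)
        (hM i j hij)
  exact ⟨cs.lift ⟨_, h⟩, fun i v => by rw [cs.lift_apply_simple, rf_apply]; rfl⟩

/-- The Gram matrix of a finite irreducible Coxeter group is positive definite. -/
theorem posDef_gram [Finite W] (cs : CoxeterSystem M W) (hM : FH M) (hc : Conn M) :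
    (gram M).PosDef := by
  obtain ⟨ρ, hρ⟩ := exists_rep cs hM
  have := Fintype.ofFinite W
  let F : (B → ℝ) → (B → ℝ) → ℝ := fun u v => ∑ w, ρ w u ⬝ᵥ ρ w v
  have hs : ∀ u v, F u v = F v u := fun u v => Finset.sum_congr rfl fun _ _ => dotProduct_comm _ _
  have hinv : ∀ g u v, F (ρ g u) (ρ g v) = F u v := fun g u v =>
    Fintype.sum_equiv (Equiv.mulRight g) _ _ fun w => by simp
  have hpos : ∀ v, v ≠ 0 → 0 < F v v := fun v hv =>
    Finset.sum_pos' (fun w _ => by simpa using dotProduct_star_self_nonneg (ρ w v))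
      ⟨1, Finset.mem_univ _, by simpa using Matrix.dotProduct_star_self_pos_iff.2 hv⟩
  have h1 : ∀ i v, F v (Pi.single i 1) = fm M i v * F (Pi.single i 1) (Pi.single i 1) := fun i v => by
    have h2 := hinv (cs.simple i) v (Pi.single i 1)
    have h3 : ∑ j, gram M i j * (Pi.single i 1 : B → ℝ) j = 1 := (fm_single i i).trans (gram_self i)
    rw [hρ, hρ, h3] at h2
    simp only [F, map_sub, map_smul, sub_dotProduct, dotProduct_sub, smul_dotProduct,
      dotProduct_smul, smul_eq_mul, Finset.sum_sub_distrib, ← Finset.mul_sum] at h2 ⊢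
    change _ = (∑ j, gram M i j * v j) * _
    linarith
  refine Matrix.PosDef.of_dotProduct_mulVec_pos (by ext i j; simp [gram_symm i j]) fun x hx => ?_
  obtain ⟨i₀, -⟩ := Function.ne_iff.1 hx
  have h2 : ∀ j, F (Pi.single j 1) (Pi.single j 1) = F (Pi.single i₀ 1) (Pi.single i₀ 1) := by
    by_contra! h2
    obtain ⟨i, hi, j, hj, h3⟩ := hc
      {j | F (Pi.single j 1) (Pi.single j 1) = F (Pi.single i₀ 1) (Pi.single i₀ 1)} ⟨i₀, rfl⟩ h2
    have h4 := h1 i (Pi.single j 1)
    rw [hs, h1, fm_single, fm_single, gram_symm j i] at h4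
    exact hj ((mul_left_cancel₀ (gram_ne hM h3) h4).trans hi)
  have h3 : F x x = (star x ⬝ᵥ (gram M).mulVec x) * F (Pi.single i₀ 1) (Pi.single i₀ 1) := by
    have h4 : F x x = ∑ i, x i * F x (Pi.single i 1) := by
      have e : x = ∑ i, x i • (Pi.single i 1 : B → ℝ) := by
        ext j; simp [Finset.sum_apply, Pi.single_apply]
      simp only [F, Finset.mul_sum]
      rw [Finset.sum_comm]
      refine Finset.sum_congr rfl fun w _ => ?_
      conv_lhs => enter [2]; rw [e]
      simp [map_sum, dotProduct_sum]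
    rw [h4, dotProduct, Finset.sum_mul]
    refine Finset.sum_congr rfl fun i _ => ?_
    rw [h1, h2, ← mul_assoc]
    rfl
  exact (mul_pos_iff_of_pos_right (hpos _ (by simp))).1 (h3 ▸ hpos x hx)

end Cfsg.Agent.Bld
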