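import Mathlib
import Cfsg.Agent.Bld.Alg

/-! Root group sequences of Moufang polygons: the maps `μ` and the relation M4 (for S1143). -/

set_option autoImplicit false

namespace Cfsg.Agent.Bld

open scoped commutatorElement

variable {Γ : Type*} [Group Γ] {U : ℤ → Subgroup Γ} {n : ℕ} {k : ℤ} {a b m m' x y g : Γ}

theorem mem_U_congr {l l' : ℤ} (e : l = l') (h : g ∈ U l) : g ∈ U l' := e ▸ h

theorem IsMu.conj_mem (h : IsMu U n k a m) {l l' : ℤ} (e : 2 * k + n - l = l') (hb : b ∈ U l) :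
    m * b * m⁻¹ ∈ U l' := e ▸ (h.2 l b).1 hb

theorem IsMu.conj_mem' (h : IsMu U n k a m) {l l' : ℤ} (e : 2 * k + n - l' = l) (hb : b ∈ U l) :
    m⁻¹ * b * m ∈ U l' := by
  refine (h.2 l' _).2 ?_
  rw [e]
  simpa [mul_assoc] using hb

theorem IsMu.inv (h : IsMu U n k a m) : IsMu U n k a⁻¹ m⁻¹ := by
  obtain ⟨⟨x, hx, y, hy, e⟩, h2⟩ := h
  refine ⟨⟨y⁻¹, inv_mem hy, x⁻¹, inv_mem hx, by rw [e]; group⟩, fun l b => ?_⟩
  have := h2 (2 * k + n - l) (m⁻¹ * b * m⁻¹⁻¹)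
  rw [this, show 2 * k + n - (2 * k + n - l) = l by ring,
    show m * (m⁻¹ * b * m⁻¹⁻¹) * m⁻¹ = b by group]

theorem IsMu.conj (h : IsMu U n k a m) (hg : ∀ l b, b ∈ U l ↔ g * b * g⁻¹ ∈ U l) :
    IsMu U n k (g * a * g⁻¹) (g * m * g⁻¹) := by
  obtain ⟨⟨x, hx, y, hy, e⟩, h2⟩ := h
  refine ⟨⟨g * x * g⁻¹, (hg _ _).1 hx, g * y * g⁻¹, (hg _ _).1 hy, by rw [e]; group⟩,
    fun l b => ?_⟩
  have h3 := hg l (g⁻¹ * b * g)
  rw [show g * (g⁻¹ * b * g) * g⁻¹ = b by group] at h3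
  rw [← h3, h2, hg, show g * (m * (g⁻¹ * b * g) * m⁻¹) * g⁻¹ =
    g * m * g⁻¹ * b * (g * m * g⁻¹)⁻¹ by group]

theorem IsPoly.per_mem (hU : IsPoly n U) {l l' : ℤ} (e : l + 2 * n = l') :
    g ∈ U l' ↔ g ∈ U l := by rw [← e, hU.per]

theorem IsPoly.isMu_per (hU : IsPoly n U) {l l' : ℤ} (e : l + 2 * n = l') :
    IsMu U n l' a m ↔ IsMu U n l a m := by
  have e1 : U (l' + n) = U (l + n) := by rw [← e, ← hU.per (l + n)]; congr 1; ring
  have e2 : ∀ j, U (2 * l' + n - j) = U (2 * l + n - j) := fun j => by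
    rw [← e, ← hU.per (2 * l + n - j), ← hU.per (2 * l + n - j + 2 * n)]; congr 1; ring
  simp only [IsMu, e1, e2]

set_option linter.unusedVariables false in
theorem IsPoly.mu_left (hU : IsPoly n U) (ha : a ∈ U k) (h : IsMu U n k a m) (hx : x ∈ U (k + n))
    (hy : y ∈ U (k + n)) (e : m = x * a * y) : IsMu U n (k + n) x m ∧ IsMu U n (k + n) y m := by
  have e1 : U (k + n + n) = U k := by rw [← hU.per k]; congr 1; ring
  have e2 : ∀ l, U (2 * (k + n) + n - l) = U (2 * k + n - l) := fun l => by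
    rw [← hU.per (2 * k + n - l)]; congr 1; ring
  have h2 : ∀ (l : ℤ) (b : Γ), b ∈ U l ↔ m * b * m⁻¹ ∈ U (2 * (k + n) + n - l) := fun l b => by
    rw [e2]; exact h.2 l b
  refine ⟨⟨⟨m * y * m⁻¹, ?_, a, ?_, ?_⟩, h2⟩, ⟨⟨a, ?_, m⁻¹ * x * m, ?_, ?_⟩, h2⟩⟩
  · rw [e1]; exact h.conj_mem (by ring) hy
  · rwa [e1]
  · have : x * a = m * y⁻¹ := by rw [e]; group
    rw [mul_assoc _ x, this]; group
  · rwa [e1]
  · rw [e1]; exact h.conj_mem' (by ring) hx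
  · have : a * y = x⁻¹ * m := by rw [e]; group
    rw [this]; group

theorem IsPoly.comm0 (hU : IsPoly n U) (hn : 1 < n) {l : ℤ} (e : k + 1 = l) (ha : a ∈ U k)
    (hb : b ∈ U l) : a * b = b * a := by
  have := hU.comm k 0 (by omega) a ha b (mem_U_congr (by simp [e]) hb)
  exact commutatorElement_eq_one_iff_mul_comm.1 this

theorem IsPoly.comm1 (hU : IsPoly n U) (hn : 2 < n) {l j : ℤ} (e : k + 2 = l) (e' : k + 1 = j)
    (ha : a ∈ U k) (hb : b ∈ U l) : ⁅a, b⁆ ∈ U j := by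
  have := hU.comm k 1 (by omega) a ha b (mem_U_congr (by simp [← e]; ring) hb)
  exact e' ▸ mem_UP_one.1 this

theorem IsPoly.comm2 (hU : IsPoly n U) (hn : 3 < n) {l i j : ℤ} (e : k + 3 = l) (e' : k + 1 = i)
    (e'' : k + 2 = j) (ha : a ∈ U k) (hb : b ∈ U l) :
    ∃ c ∈ U i, ∃ d ∈ U j, c * d = ⁅a, b⁆ := by
  have := hU.comm k 2 (by omega) a ha b (mem_U_congr (by simp [← e]; ring) hb)
  obtain ⟨c, hc, d, hd, h⟩ := mem_UP_two.1 this
  exact ⟨c, e' ▸ hc, d, mem_U_congr (by omega) hd, h⟩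

theorem one_mem_UP (U : ℤ → Subgroup Γ) (r : ℕ) : ∀ k, (1 : Γ) ∈ UP U k r := by
  induction r with
  | zero => exact fun _ => rfl
  | succ r ih => exact fun k => mem_UP_succ.2 ⟨1, one_mem _, 1, ih _, one_mul _⟩

theorem UP_mono (U : ℤ → Subgroup Γ) {s r : ℕ} (h : s ≤ r) : ∀ k, UP U k s ⊆ UP U k r := by
  induction r generalizing s with
  | zero => intro k; obtain rfl : s = 0 := by omega
            exact le_rfl
  | succ r ih =>
    intro k g hg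
    rcases s with _ | s
    · rw [mem_UP_zero.1 hg]; exact one_mem_UP _ _ _
    · obtain ⟨a, ha, b, hb, rfl⟩ := mem_UP_succ.1 hg
      exact mem_UP_succ.2 ⟨a, ha, b, ih (by omega) _ hb, rfl⟩

theorem mem_UP_of_mem (U : ℤ → Subgroup Γ) {s r : ℕ} (h : s < r) :
    ∀ k, ∀ g ∈ U (k + s), g ∈ UP U k r := by
  induction r generalizing s with
  | zero => omega
  | succ r ih =>
    intro k g hg
    rcases s with _ | s
    · exact mem_UP_succ.2 ⟨g, by simpa using hg, 1, one_mem_UP _ _ _, mul_one _⟩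
    · exact mem_UP_succ.2 ⟨1, one_mem _, g, ih (s := s) (by omega) _ _
        (mem_U_congr (by push_cast; ring) hg), one_mul _⟩

theorem IsPoly.uniq2 (hU : IsPoly n U) (hn : 1 < n) {l : ℤ} (e : k + 1 = l) (ha : a ∈ U k)
    (hb : b ∈ U l) (h : a * b = 1) : a = 1 :=
  hU.uniq k a ha b (UP_mono U (s := 1) (by omega) _ (mem_UP_one.2 (e ▸ hb))) h

theorem IsPoly.uniq3 (hU : IsPoly n U) (hn : 2 < n) {l j : ℤ} {c : Γ} (e : k + 1 = l)
    (e' : k + 2 = j) (ha : a ∈ U k) (hb : b ∈ U l) (hc : c ∈ U j) (h : a * b * c = 1) : a = 1 :=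
  hU.uniq k a ha (b * c) (UP_mono U (s := 2) (by omega) _
    (mem_UP_two.2 ⟨b, e ▸ hb, c, mem_U_congr (by omega) hc, rfl⟩)) (by rw [← mul_assoc, h])

theorem IsPoly.m4_three (hU : IsPoly 3 U) (ha : a ∈ U k) (hb : b ∈ U (k + 2))
    (h : IsMu U 3 k a m) : ⁅a, b⁆ = m * b * m⁻¹ := by
  have hw : m * b * m⁻¹ ∈ U (k + 1) := h.conj_mem (by push_cast; ring) hb
  obtain ⟨⟨x, hx, y, hy, e⟩, -⟩ := h
  have hc : ⁅a, b⁆ ∈ U (k + 1) := hU.comm1 (by omega) rfl rfl ha hb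
  have h1 : b * y = y * b := hU.comm0 (by omega) (by push_cast; ring) hb hy
  have h2 : b * x = x * b := hU.comm0 (by omega) (by push_cast; ring) hb hx
  have hd : ⁅⁅a, b⁆⁻¹, x⁆ ∈ U (k + 2) :=
    hU.comm1 (by omega) (by push_cast; ring) (by ring) (inv_mem hc) hx
  have key : m * b * m⁻¹ = ⁅a, b⁆ * (⁅⁅a, b⁆⁻¹, x⁆ * b) := by
    have h3 : y * b * y⁻¹ = b := by rw [← h1]; group
    have h4 : x * b * x⁻¹ = b := by rw [← h2]; group
    calc m * b * m⁻¹ = x * a * (y * b * y⁻¹) * a⁻¹ * x⁻¹ := by rw [e]; group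
      _ = ⁅a, b⁆ * (⁅⁅a, b⁆⁻¹, x⁆ * (x * b * x⁻¹)) := by
        rw [h3]; simp only [commutatorElement_def]; group
      _ = _ := by rw [h4]
  have := hU.uniq2 (by omega) (l := k + 2) (by ring) (mul_mem (inv_mem hw) hc) (mul_mem hd hb)
    (by rw [mul_assoc, ← key, inv_mul_cancel])
  exact (inv_mul_eq_one.1 this).symm

theorem IsPoly.m4_three' (hU : IsPoly 3 U) (ha : a ∈ U k) (hb : b ∈ U (k + 2))
    (h : IsMu U 3 (k + 2) b m) : ⁅a, b⁆ = (m * a * m⁻¹)⁻¹ := by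
  have hw : m * a * m⁻¹ ∈ U (k + 1) :=
    (hU.per_mem (l := k + 1) rfl).1 (h.conj_mem (by push_cast; ring) ha)
  obtain ⟨⟨x, hx, y, hy, e⟩, -⟩ := h
  replace hx : x ∈ U (k - 1) := (hU.per_mem (by push_cast; ring)).1 hx
  replace hy : y ∈ U (k - 1) := (hU.per_mem (by push_cast; ring)).1 hy
  have hc : ⁅a, b⁆ ∈ U (k + 1) := hU.comm1 (by omega) rfl rfl ha hb
  have h1 : y * a = a * y := hU.comm0 (by omega) (by ring) hy ha
  have h2 : x * a = a * x := hU.comm0 (by omega) (by ring) hx ha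
  have h5 : a * ⁅a, b⁆⁻¹ = ⁅a, b⁆⁻¹ * a := hU.comm0 (by omega) rfl ha (inv_mem hc)
  have hd : ⁅x, ⁅a, b⁆⁻¹⁆ ∈ U k := hU.comm1 (by omega) (by ring) (by ring) hx (inv_mem hc)
  have key : m * a * m⁻¹ = ⁅x, ⁅a, b⁆⁻¹⁆ * a * ⁅a, b⁆⁻¹ := by
    have h3 : y * a * y⁻¹ = a := by rw [h1]; group
    have h4 : x * a * x⁻¹ = a := by rw [h2]; group
    calc m * a * m⁻¹ = x * b * (y * a * y⁻¹) * b⁻¹ * x⁻¹ := by rw [e]; group
      _ = ⁅x, ⁅a, b⁆⁻¹⁆ * (⁅a, b⁆⁻¹ * (x * a * x⁻¹)) := by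
        rw [h3]; simp only [commutatorElement_def]; group
      _ = _ := by rw [h4, ← h5, mul_assoc]
  have := hU.uniq2 (by omega) rfl (mul_mem hd ha) (mul_mem (inv_mem hc) (inv_mem hw))
    (by rw [← mul_assoc, ← key, mul_inv_cancel])
  rw [key, this, one_mul, inv_inv]

theorem IsPoly.m4_four_left (hU : IsPoly 4 U) (ha : a ∈ U k) (hb : b ∈ U (k + 3))
    (h : IsMu U 4 k a m) {c d : Γ} (hc : c ∈ U (k + 1)) (hd : d ∈ U (k + 2))
    (hcd : c * d = ⁅a, b⁆) : c = m * b * m⁻¹ := by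
  have hw : m * b * m⁻¹ ∈ U (k + 1) := h.conj_mem (by push_cast; ring) hb
  obtain ⟨⟨x, hx, y, hy, e⟩, -⟩ := h
  have h1 : b * y = y * b := hU.comm0 (by omega) (by push_cast; ring) hb hy
  have h2 : b * x = x * b := hU.comm0 (by omega) (by push_cast; ring) hb hx
  obtain ⟨d2, hd2, d3, hd3, e1⟩ := hU.comm2 (by omega) (i := k + 2) (j := k + 3)
    (by push_cast; ring) (by ring) (by ring) (inv_mem hc) hx
  have he : ⁅d⁻¹, x⁆ ∈ U (k + 3) :=
    hU.comm1 (by omega) (by push_cast; ring) (by ring) (inv_mem hd) hx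
  have h5 : d * d3 = d3 * d := hU.comm0 (by omega) (by ring) hd hd3
  have key : m * b * m⁻¹ = c * (d2 * d) * (d3 * ⁅d⁻¹, x⁆ * b) := by
    have h3 : y * b * y⁻¹ = b := by rw [← h1]; group
    have h4 : x * b * x⁻¹ = b := by rw [← h2]; group
    calc m * b * m⁻¹ = x * a * (y * b * y⁻¹) * a⁻¹ * x⁻¹ := by rw [e]; group
      _ = x * ⁅a, b⁆ * x⁻¹ * (x * b * x⁻¹) := by
        rw [h3]; simp only [commutatorElement_def]; group
      _ = c * ⁅c⁻¹, x⁆ * d * ⁅d⁻¹, x⁆ * b := by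
        rw [h4, ← hcd]; simp only [commutatorElement_def]; group
      _ = c * d2 * (d3 * d) * ⁅d⁻¹, x⁆ * b := by rw [← e1]; simp only [mul_assoc]
      _ = _ := by rw [← h5]; simp only [mul_assoc]
  have := hU.uniq3 (by omega) (l := k + 2) (j := k + 3) (by ring) (by ring)
    (mul_mem (inv_mem hw) hc) (mul_mem hd2 hd) (mul_mem (mul_mem hd3 he) hb)
    (by rw [mul_assoc, mul_assoc, ← mul_assoc c, ← key, inv_mul_cancel])
  exact (inv_mul_eq_one.1 this).symm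

theorem IsPoly.m4_four_right (hU : IsPoly 4 U) (ha : a ∈ U k) (hb : b ∈ U (k + 3))
    (h : IsMu U 4 (k + 3) b m) {c d : Γ} (hc : c ∈ U (k + 1)) (hd : d ∈ U (k + 2))
    (hcd : c * d = ⁅a, b⁆) : d = (m * a * m⁻¹)⁻¹ := by
  have hw : m * a * m⁻¹ ∈ U (k + 2) :=
    (hU.per_mem (l := k + 2) rfl).1 (h.conj_mem (by push_cast; ring) ha)
  obtain ⟨⟨x, hx, y, hy, e⟩, -⟩ := h
  replace hx : x ∈ U (k - 1) := (hU.per_mem (by push_cast; ring)).1 hx
  replace hy : y ∈ U (k - 1) := (hU.per_mem (by push_cast; ring)).1 hy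
  have h1 : y * a = a * y := hU.comm0 (by omega) (by ring) hy ha
  have h2 : x * a = a * x := hU.comm0 (by omega) (by ring) hx ha
  obtain ⟨d0, hd0, d1, hd1, e1⟩ := hU.comm2 (by omega) (i := k) (j := k + 1)
    (by ring) (by ring) (by ring) hx (inv_mem hd)
  have he : ⁅x, c⁻¹⁆ ∈ U k := hU.comm1 (by omega) (by ring) (by ring) hx (inv_mem hc)
  obtain ⟨f, hf⟩ : ∃ f, f = ⁅x, c⁻¹⁆ * a := ⟨_, rfl⟩
  have hf0 : f ∈ U k := hf ▸ mul_mem he ha
  have hg : ⁅f⁻¹, d⁻¹⁆ ∈ U (k + 1) := hU.comm1 (by omega) rfl rfl (inv_mem hf0) (inv_mem hd)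
  have h5 : a * c⁻¹ = c⁻¹ * a := hU.comm0 (by omega) rfl ha (inv_mem hc)
  have h6 : f * d1 = d1 * f := hU.comm0 (by omega) rfl hf0 hd1
  have h7 : c⁻¹ * d⁻¹ = d⁻¹ * c⁻¹ := hU.comm0 (by omega) (by ring) (inv_mem hc) (inv_mem hd)
  have key : m * a * m⁻¹ = d0 * f * (d1 * ⁅f⁻¹, d⁻¹⁆ * c⁻¹) * d⁻¹ := by
    have h3 : y * a * y⁻¹ = a := by rw [h1]; group
    have h4 : x * a * x⁻¹ = a := by rw [h2]; group
    calc m * a * m⁻¹ = x * b * (y * a * y⁻¹) * b⁻¹ * x⁻¹ := by rw [e]; group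
      _ = x * ⁅a, b⁆⁻¹ * x⁻¹ * (x * a * x⁻¹) := by
        rw [h3]; simp only [commutatorElement_def]; group
      _ = ⁅x, d⁻¹⁆ * d⁻¹ * ⁅x, c⁻¹⁆ * (c⁻¹ * a) := by
        rw [h4, ← hcd]; simp only [commutatorElement_def]; group
      _ = d0 * d1 * (d⁻¹ * f) * c⁻¹ := by rw [← e1, ← h5, hf]; simp only [mul_assoc]
      _ = d0 * (d1 * f) * ⁅f⁻¹, d⁻¹⁆ * (d⁻¹ * c⁻¹) := by
        simp only [commutatorElement_def]; group
      _ = _ := by rw [← h6, ← h7]; simp only [mul_assoc]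
  have k1 : d0 * f * (d1 * ⁅f⁻¹, d⁻¹⁆ * c⁻¹) * (d⁻¹ * (m * a * m⁻¹)⁻¹) = 1 := by
    rw [← mul_assoc, ← key, mul_inv_cancel]
  have hu1 : d1 * ⁅f⁻¹, d⁻¹⁆ * c⁻¹ ∈ U (k + 1) := mul_mem (mul_mem hd1 hg) (inv_mem hc)
  have hu2 : d⁻¹ * (m * a * m⁻¹)⁻¹ ∈ U (k + 2) := mul_mem (inv_mem hd) (inv_mem hw)
  have k2 := hU.uniq3 (by omega) rfl rfl (mul_mem hd0 hf0) hu1 hu2 k1
  rw [k2, one_mul] at k1
  have k3 := hU.uniq2 (by omega) (by ring) hu1 hu2 k1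
  rw [k3, one_mul] at k1
  exact inv_mul_eq_one.1 k1

theorem IsPoly.m4_four (hU : IsPoly 4 U) (ha : a ∈ U k) (hb : b ∈ U (k + 3))
    (h : IsMu U 4 k a m) (h' : IsMu U 4 (k + 3) b m') :
    ⁅a, b⁆ = m * b * m⁻¹ * (m' * a * m'⁻¹)⁻¹ := by
  obtain ⟨c, hc, d, hd, e⟩ := hU.comm2 (by omega) rfl rfl rfl ha hb
  rw [← hU.m4_four_left ha hb h hc hd e, ← hU.m4_four_right ha hb h' hc hd e, e]

theorem IsPoly.mu_unique_left (hU : IsPoly n U) (hn : n = 3 ∨ n = 4) (ha : a ∈ U k)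
    (h : IsMu U n k a m) (h' : IsMu U n k a m') {x' y' : Γ} (hx : x ∈ U (k + n))
    (hy : y ∈ U (k + n)) (hx' : x' ∈ U (k + n)) (hy' : y' ∈ U (k + n)) (e : m = x * a * y)
    (e' : m' = x' * a * y') : x = x' := by
  obtain ⟨z, hz, hz1⟩ : ∃ z ∈ U (k + 1), z ≠ 1 := by
    by_contra! H
    exact hU.nt (k + 1) ((Subgroup.eq_bot_iff_forall _).2 H)
  obtain ⟨mz, hmz⟩ := hU.mu _ z hz hz1
  have hb : m⁻¹ * z * m ∈ U (k + n - 1) := h.conj_mem' (by ring) hz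
  obtain ⟨b, hbe⟩ : ∃ b, b = m⁻¹ * z * m := ⟨_, rfl⟩
  rw [← hbe] at hb
  have hzb : z = m * b * m⁻¹ := by rw [hbe]; group
  have hw : x' * x⁻¹ ∈ U (k + n) := mul_mem hx' (inv_mem hx)
  have h1 : b * y = y * b := hU.comm0 (by omega) (by ring) hb hy
  have h1' : b * y' = y' * b := hU.comm0 (by omega) (by ring) hb hy'
  have key : z = m' * b * m'⁻¹ → ⁅z, x' * x⁻¹⁆ = 1 := by
    intro hz'
    have h3 : y * b * y⁻¹ = b := by rw [← h1]; group
    have h3' : y' * b * y'⁻¹ = b := by rw [← h1']; group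
    have k1 : x⁻¹ * z * x = a * b * a⁻¹ := by
      calc x⁻¹ * z * x = a * (y * b * y⁻¹) * a⁻¹ := by rw [hzb, e]; group
        _ = _ := by rw [h3]
    have k2 : x'⁻¹ * z * x' = a * b * a⁻¹ := by
      calc x'⁻¹ * z * x' = a * (y' * b * y'⁻¹) * a⁻¹ := by rw [hz', e']; group
        _ = _ := by rw [h3']
    rw [commutatorElement_eq_one_iff_mul_comm]
    calc z * (x' * x⁻¹) = x' * (x'⁻¹ * z * x') * x⁻¹ := by group
      _ = x' * (x⁻¹ * z * x) * x⁻¹ := by rw [k1, k2]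
      _ = _ := by group
  have fin : mz * (x' * x⁻¹) * mz⁻¹ = 1 → x = x' := fun H => by
    rw [conj_eq_one_iff, mul_inv_eq_one] at H
    exact H.symm
  rcases hn with rfl | rfl
  · have hb' : b ∈ U (k + 2) := mem_U_congr (by push_cast; ring) hb
    have := key (by rw [← hU.m4_three ha hb' h', hU.m4_three ha hb' h, hzb])
    rw [hU.m4_three hz (mem_U_congr (by push_cast; ring) hw) hmz] at this
    exact fin this
  · have hb' : b ∈ U (k + 3) := mem_U_congr (by push_cast; ring) hb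
    obtain ⟨c, hc, d, hd, e1⟩ := hU.comm2 (by omega) rfl rfl rfl ha hb'
    have := key (by rw [← hU.m4_four_left ha hb' h' hc hd e1, hU.m4_four_left ha hb' h hc hd e1,
      hzb])
    exact fin (hU.m4_four_left hz (mem_U_congr (by push_cast; ring) hw) hmz (one_mem _)
      (one_mem _) (by rw [this, one_mul])).symm

set_option linter.unusedVariables false in
theorem IsPoly.mu_unique (hU : IsPoly n U) (hn : n = 3 ∨ n = 4) (ha : a ∈ U k) (h1 : a ≠ 1)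
    (h : IsMu U n k a m) (h' : IsMu U n k a m') : m = m' := by
  obtain ⟨x, hx, y, hy, e⟩ := h.1
  obtain ⟨x', hx', y', hy', e'⟩ := h'.1
  have e1 := hU.mu_unique_left hn ha h h' hx hy hx' hy' e e'
  have e2 := hU.mu_unique_left hn (inv_mem ha) h.inv h'.inv (inv_mem hy) (inv_mem hx)
    (inv_mem hy') (inv_mem hx') (by rw [e]; group) (by rw [e']; group)
  rw [e, e', e1, inv_injective e2]

/-- A product of subgroups with commutator relations is a subgroup. -/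
theorem exists_subgroup_UP (D : ℤ → Subgroup Γ) (k : ℤ) (r : ℕ)
    (h : ∀ (l : ℤ) (s : ℕ), k ≤ l → l + s + 1 < k + r → ∀ x ∈ D l, ∀ y ∈ D (l + s + 1),
      ⁅x, y⁆ ∈ UP D (l + 1) s) : ∃ H : Subgroup Γ, (H : Set Γ) = UP D k r := by
  induction r generalizing k with
  | zero => exact ⟨⊥, rfl⟩
  | succ r ih =>
    obtain ⟨H, hH⟩ := ih (k + 1) fun l s h1 h2 => h l s (by omega) (by push_cast; omega)
    have hH' : ∀ g, g ∈ H ↔ g ∈ UP D (k + 1) r := fun g => by rw [← hH]; rfl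
    have k1 : ∀ x ∈ D k, ∀ s : ℕ, s < r → ∀ y ∈ D (k + 1 + s), x * y * x⁻¹ ∈ H := by
      intro x hx s hs y hy
      have h1 := h k s le_rfl (by push_cast; omega) x hx y (mem_U_congr (by ring) hy)
      have h2 : x * y * x⁻¹ = ⁅x, y⁆ * y := by simp only [commutatorElement_def]; group
      rw [h2]
      exact mul_mem ((hH' _).2 (UP_mono D hs.le _ h1)) ((hH' _).2 (mem_UP_of_mem D hs _ _ hy))
    have k2 : ∀ x ∈ D k, ∀ t s : ℕ, s + t ≤ r → ∀ g ∈ UP D (k + 1 + s) t, x * g * x⁻¹ ∈ H := by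
      intro x hx t
      induction t with
      | zero => intro s _ g hg; rw [mem_UP_zero.1 hg]; simp
      | succ t iht =>
        intro s hs g hg
        obtain ⟨a, ha, b, hb, rfl⟩ := mem_UP_succ.1 hg
        have h2 : x * (a * b) * x⁻¹ = x * a * x⁻¹ * (x * b * x⁻¹) := by group
        rw [h2]
        refine mul_mem (k1 x hx s (by omega) a ha) (iht (s + 1) (by omega) b ?_)
        rwa [show k + 1 + ((s + 1 : ℕ) : ℤ) = k + 1 + s + 1 by push_cast; ring]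
    have k3 : ∀ x ∈ D k, ∀ g ∈ H, x * g * x⁻¹ ∈ H := fun x hx g hg =>
      k2 x hx r 0 (by omega) g (by simpa using (hH' g).1 hg)
    have k4 : D k ≤ Subgroup.normalizer (H : Set Γ) := fun x hx => by
      rw [Subgroup.mem_normalizer_iff]
      refine fun g => ⟨k3 x hx g, fun hg => ?_⟩
      simpa [mul_assoc] using k3 x⁻¹ (inv_mem hx) _ hg
    exact ⟨D k ⊔ H, by rw [Subgroup.coe_mul_of_left_le_normalizer_right _ _ k4, hH]; rfl⟩

end Cfsg.Agent.Bld
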