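import Mathlib
import Cfsg.Agent.Bld.Basic

/-! Roots and root groups of a building. -/

set_option autoImplicit false
set_option linter.unusedSectionVars false

namespace Cfsg.Agent.Bld.Bd

open Cfsg.Agent.Chev CoxeterSystem

variable {B W : Type*} [Group W] {M : CoxeterMatrix B} {cs : CoxeterSystem M W} [Sph cs] [Finite W]
  {K K' J L : Set B} {C C' : Type*} {X : Bd cs K C} {i j k : B} {a b : W → C} {a' : W → C'}

omit [Sph cs] [Finite W] in
theorem desc_iff_sign (w : W) (i : B) :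
    cs.IsLeftDescent w i ↔ coxSign cs w⁻¹ (cs.simple i) ≠ 0 := by
  rw [← isRightDescent_inv_iff]
  refine ⟨fun h => coxSign_ne_zero_of_isRightInversion cs ⟨cs.isReflection_simple i, h⟩, fun h => ?_⟩
  obtain ⟨ω, h1, h2⟩ := cs.exists_isReduced w⁻¹
  rw [h2] at h ⊢
  exact (cs.isRightInversion_of_mem_rightInvSeq h1 (mem_rightInvSeq_of_coxSign_ne_zero cs ω h)).2

omit [Sph cs] [Finite W] in
/-- A root is determined by its wall and one chamber. -/
theorem root_eq {w : W} (h : cs.simple i * w = w * cs.simple k) (hw : ¬ cs.IsLeftDescent w i)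
    (v : W) : cs.IsLeftDescent (w * v) i ↔ cs.IsLeftDescent v k := by
  rw [desc_iff_sign, not_not] at hw
  rw [desc_iff_sign, desc_iff_sign, mul_inv_rev, coxSign_mul, hw, zero_add, inv_inv, mul_assoc, h,
    inv_mul_cancel_left]

theorem int_sh {w : W} (hw : w ∈ coxPar cs J) (h : cs.simple i * w = w * cs.simple k)
    (hd : ¬ cs.IsLeftDescent w i) {g : C → C} : X.Int J (sh a w) k g ↔ X.Int J a i g := by
  constructor
  · intro H v hv h1
    have h2 := H (w⁻¹ * v) (mul_mem (inv_mem hw) hv) (by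
      rwa [← root_eq h hd, mul_inv_cancel_left])
    rw [sh_apply, mul_inv_cancel_left] at h2
    exact ⟨h2.1, fun t ht h3 => h2.2 t ht (by
      rwa [← root_eq h hd, mul_assoc, mul_inv_cancel_left])⟩
  · intro H v hv h1
    have h2 := H (w * v) (mul_mem hw hv) (by rwa [root_eq h hd])
    exact ⟨h2.1, fun t ht h3 => h2.2 t ht (by rwa [mul_assoc, root_eq h hd])⟩

theorem U_sh {w : W} (hw : w ∈ coxPar cs K) (h : cs.simple i * w = w * cs.simple k)
    (hd : ¬ cs.IsLeftDescent w i) : X.U (sh a w) k = X.U a i :=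
  Subgroup.ext fun _ => and_congr_right fun _ => int_sh hw h hd

theorem conj_mem_U_of {g h : Equiv.Perm C} (hg : g ∈ X.Aut) (e : ∀ v ∈ coxPar cs K, g (a v) = b v)
    (hh : h ∈ X.U a i) : g * h * g⁻¹ ∈ X.U b i := by
  refine ⟨mul_mem (mul_mem hg hh.1) (inv_mem hg), fun v hv h1 => ⟨?_, fun t ht h2 x hx => ?_⟩⟩
  · rw [← e v hv]
    simp [(hh.2 v hv h1).1]
  · have h3 : g⁻¹ x ∈ X.Res {t} (a v) := by
      rw [Res, Set.mem_ofPred_eq, ← hg, e v hv]
      simpa [Res] using hx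
    rw [Equiv.Perm.mul_apply, Equiv.Perm.mul_apply, (hh.2 v hv h1).2 t ht h2 _ h3]
    simp

theorem conj_mem_U {g h : Equiv.Perm C} (hg : g ∈ X.Aut) (e : ∀ v ∈ coxPar cs K, g (a v) = b v) :
    h ∈ X.U a i ↔ g * h * g⁻¹ ∈ X.U b i := by
  refine ⟨conj_mem_U_of hg e, fun hh => ?_⟩
  have := conj_mem_U_of (b := a) (inv_mem hg) (fun v hv => by rw [← e v hv]; simp) hh
  simpa [mul_assoc] using this

theorem elt_of_mem_U (hJ : J ⊆ K) {g : Equiv.Perm C} (hg : g ∈ X.U a i) : X.Elt J a i g :=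
  ⟨fun x _ y _ => hg.1 x y, fun v hv h1 => ⟨(hg.2 v (coxPar_mono cs hJ hv) h1).1,
    fun t ht h2 => (hg.2 v (coxPar_mono cs hJ hv) h1).2 t (hJ ht) h2⟩⟩

theorem not_desc_simple_wl (hi : i ∈ J) : ¬ cs.IsLeftDescent (cs.simple i * wl cs J) i :=
  cs.isLeftDescent_iff_not_isLeftDescent_mul.1 ((wl_spec cs J).isLeftDescent hi)

theorem IsApt.comp {g : C → C} (ha : X.IsApt J a) (hg : X.IsoOn X (X.Res J (a 1)) g) :
    X.IsApt J fun w => g (a w) := fun u hu v hv => by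
  rw [hg _ (ha.mem_res hu) _ (ha.mem_res hv), ha u hu v hv]

theorem IsApt.δ_one (ha : X.IsApt J a) {w : W} (hw : w ∈ coxPar cs J) : X.δ (a 1) (a w) = w := by
  rw [ha 1 (one_mem _) w hw, inv_one, one_mul]

/-- Root elations act freely. -/
theorem Elt.eqOn (hJ : J ⊆ K) (ha : X.IsApt J a) (hi : i ∈ J) (hj : j ∈ J) (hM : 3 ≤ M i j)
    {g h : C → C} (hg : X.Elt J a i g) (hh : X.Elt J a i h)
    (e : g (a (cs.simple i)) = h (a (cs.simple i))) : Set.EqOn g h (X.Res J (a 1)) := by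
  have hij : i ≠ j := by rintro rfl; simp at hM
  have hsi := simple_mem_coxPar cs hi
  have hsj := simple_mem_coxPar cs hj
  have h1 := mul_mem hsi (wl_mem cs J)
  have h2 : ∀ w ∈ coxPar cs J, g (a w) = h (a w) := fun w hw =>
    (ha.comp hg.1).unique (ha.comp hh.1) hsi e
      ((hg.2 _ h1 (not_desc_simple_wl hi)).1.trans (hh.2 _ h1 (not_desc_simple_wl hi)).1.symm) hw
  have h3 : ¬ cs.IsLeftDescent (cs.simple j) i := fun h3 =>
    hij (mem_of_leftDescent cs (simple_mem_coxPar cs (J := {j}) rfl) h3)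
  have h4 : ∀ t, ¬ cs.IsLeftDescent (cs.simple j * cs.simple t) i := fun t h4 => by
    have h5 := length_alt cs hij.symm (n := 3) (by rwa [M.symmetric])
    simp only [alt_succ, alt_zero, mul_one] at h5
    rw [simple_mul_eq_mul_simple cs h3 h4, simple_mul_simple_cancel_left, length_simple] at h5
    omega
  have h5 := res_eq (ha.mem_res hsj)
  rw [← h5]
  refine rigid hJ (h5 ▸ hg.1) (h5 ▸ hh.1) (fun t ht x hx => ?_) (h2 _ hsj)
    (d := a (cs.simple j * wl cs J)) ?_ (h2 _ (mul_mem hsj (wl_mem cs J)))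
  · rw [(hg.2 _ hsj h3).2 t ht (h4 t) x hx, (hh.2 _ hsj h3).2 t ht (h4 t) x hx]
  · rw [ha _ hsj _ (mul_mem hsj (wl_mem cs J)), inv_mul_cancel_left]

theorem U_free (hK : NoIso M K) (ha : X.IsApt K a) (hi : i ∈ K) {g : Equiv.Perm C}
    (hg : g ∈ X.U a i) (e : g (a (cs.simple i)) = a (cs.simple i)) : g = 1 := by
  obtain ⟨j, hj, hM⟩ := hK i hi
  exact Equiv.ext fun x => Elt.eqOn le_rfl ha hi hj hM (elt_of_mem_U le_rfl hg)
    (elt_of_mem_U le_rfl (one_mem _)) e (X.mem_res_self _ x)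

theorem U_fix {g : Equiv.Perm C} (hg : g ∈ X.U a i) : g (a 1) = a 1 :=
  (hg.2 1 (one_mem _) (cs.not_isLeftDescent_one i)).1

theorem U_adj (ha : X.IsApt K a) (hi : i ∈ K) {g : Equiv.Perm C} (hg : g ∈ X.U a i) :
    X.δ (a 1) (g (a (cs.simple i))) = cs.simple i := by
  conv_lhs => rw [← U_fix hg, hg.1]
  exact ha.δ_one (simple_mem_coxPar cs hi)

theorem Mouf.elt_lift (hX : X.Mouf) (hJ : J ⊆ K) (ha : X.IsApt K a) (hi : i ∈ J) (hj : j ∈ J)
    (hM : 3 ≤ M i j) {g : C → C} (hg : X.Elt J a i g) :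
    ∃ h ∈ X.U a i, Set.EqOn g h (X.Res J (a 1)) := by
  have hsi := simple_mem_coxPar cs hi
  obtain ⟨h, h1, h2⟩ := hX a ha i (hJ hi) (g (a (cs.simple i))) (by
    conv_lhs => rw [← (hg.2 1 (one_mem _) (cs.not_isLeftDescent_one i)).1]
    rw [hg.1 _ (X.self_mem_res _ _) _ ((ha.mono hJ).mem_res hsi), (ha.mono hJ).δ_one hsi])
  exact ⟨h, h1, Elt.eqOn hJ (ha.mono hJ) hi hj hM hg (elt_of_mem_U hJ h1) h2.symm⟩

theorem Mouf.card_U (hX : X.Mouf) (hK : NoIso M K) (ha : X.IsApt K a) (hi : i ∈ K) :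
    Nat.card (X.U a i) = X.par i (a 1) := by
  rw [par, ← Nat.card_coe_set_eq]
  refine Nat.card_eq_of_bijective
    (fun g : X.U a i => (⟨g.1 (a (cs.simple i)), U_adj ha hi g.2⟩ : {x | X.δ (a 1) x = cs.simple i}))
    ⟨fun g h e => ?_, fun x => ?_⟩
  · have e1 : g.1 (a (cs.simple i)) = h.1 (a (cs.simple i)) := congrArg Subtype.val e
    have := U_free hK ha hi (mul_mem (inv_mem h.2) g.2) (by rw [Equiv.Perm.mul_apply, e1]; simp)
    exact Subtype.ext (inv_mul_eq_one.1 this).symm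
  · obtain ⟨g, h1, h2⟩ := hX a ha i hi x x.2
    exact ⟨⟨g, h1⟩, Subtype.ext h2⟩

theorem aut_mem_res {g : Equiv.Perm C} (hg : g ∈ X.Aut) {c d x : C} (hd : d ∈ X.Res J c)
    (e : g d = d) (hx : x ∈ X.Res J c) : g x ∈ X.Res J c := by
  refine X.res_trans hd ?_
  have h1 := X.δ_mem_of_res hd hx
  rwa [← hg, e] at h1

/-- An element of `U₋ U₊ U₋` which interchanges `a 1` and `a sᵢ` is a reflection. -/
theorem refl_of_swap (ha : X.IsApt K a) (hi : i ∈ K) {g x y : Equiv.Perm C} (hg : g ∈ X.U a i)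
    (hx : x ∈ X.U (sh a (cs.simple i)) i) (hy : y ∈ X.U (sh a (cs.simple i)) i)
    (h1 : (x * g * y) (a 1) = a (cs.simple i)) (h2 : (x * g * y) (a (cs.simple i)) = a 1) :
    ∀ v ∈ coxPar cs K, (x * g * y) (a v) = a (cs.simple i * v) := by
  have hm : x * g * y ∈ X.Aut := mul_mem (mul_mem hx.1 hg.1) hy.1
  have hsi := simple_mem_coxPar cs hi
  have h0 := wl_mem cs K
  have h3 := mul_mem hsi h0
  have h4 : a (cs.simple i * wl cs K) ∈ X.Res {opp cs K i} (a (wl cs K)) :=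
    mem_res_single.2 (Or.inr (by rw [ha _ h0 _ h3, ← wl_mul_opp cs hi, inv_mul_cancel_left]))
  have h5 : ∀ z ∈ X.U (sh a (cs.simple i)) i, z (a (wl cs K)) = a (wl cs K) := fun z hz => by
    simpa using (hz.2 _ h3 (not_desc_simple_wl hi)).1
  have h6 : IsMinRight cs {opp cs K i} (cs.simple i * wl cs K) := by
    rw [minRight_single, ← wl_mul_opp cs hi]
    exact cs.isRightDescent_iff_not_isRightDescent_mul.1 (wl_desc cs (opp_mem cs hi))
  have hs := X.self_mem_res {opp cs K i} (a (wl cs K))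
  have h7 : (x * g * y) (a (wl cs K)) = a (cs.simple i * wl cs K) := by
    refine IsProj.unique (J := {opp cs K i}) (c := a (wl cs K)) (y := a 1) ⟨?_, ?_⟩
      ⟨h4, by rwa [ha.δ_one h3]⟩
    · rw [Equiv.Perm.mul_apply, Equiv.Perm.mul_apply, h5 y hy]
      exact aut_mem_res hx.1 hs (h5 x hx)
        (aut_mem_res hg.1 h4 (hg.2 _ h3 (not_desc_simple_wl hi)).1 hs)
    · rwa [← h2, hm, ha _ hsi _ h0, inv_simple]
  intro v hv
  exact (ha.comp (g := ⇑(x * g * y)) fun p _ q _ => hm p q).unique (ha.sh hsi) (one_mem _)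
    (by simpa using h1) (by simpa using h7) hv

theorem Mouf.exists_refl (hX : X.Mouf) (hK : NoIso M K) (ha : X.IsApt K a) (hi : i ∈ K)
    {g : Equiv.Perm C} (hg : g ∈ X.U a i) (h1 : g ≠ 1) :
    ∃ x ∈ X.U (sh a (cs.simple i)) i, ∃ y ∈ X.U (sh a (cs.simple i)) i,
      ∀ v ∈ coxPar cs K, (x * g * y) (a v) = a (cs.simple i * v) := by
  have hsi := simple_mem_coxPar cs hi
  have key : ∀ h ∈ X.U a i, h ≠ 1 → ∃ x ∈ X.U (sh a (cs.simple i)) i,
      x (a 1) = h (a (cs.simple i)) := fun h hh h2 => by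
    obtain ⟨x, h3, h4⟩ := hX _ (ha.sh hsi) i hi (h (a (cs.simple i))) (by
      rw [sh_apply, mul_one]
      exact adj_trans (adj_symm (ha.δ_one hsi)) (U_adj ha hi hh)
        fun e => h2 (U_free hK ha hi hh e.symm))
    exact ⟨x, h3, by simpa using h4⟩
  obtain ⟨x, hx, h2⟩ := key g hg h1
  obtain ⟨y, hy, h3⟩ := key g⁻¹ (inv_mem hg) (by simpa using h1)
  refine ⟨x⁻¹, inv_mem hx, y, hy, refl_of_swap ha hi hg (inv_mem hx) hy ?_ ?_⟩
  · have h4 := U_fix (inv_mem hx)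
    rw [sh_apply, mul_one] at h4
    rw [Equiv.Perm.mul_apply, Equiv.Perm.mul_apply, h3, ← Equiv.Perm.mul_apply g, mul_inv_cancel,
      Equiv.Perm.one_apply, h4]
  · have h4 := U_fix hy
    rw [sh_apply, mul_one] at h4
    rw [Equiv.Perm.mul_apply, Equiv.Perm.mul_apply, h4, ← h2]
    simp

end Cfsg.Agent.Bld.Bd
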