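import Mathlib
import Cfsg.Agent.Bld.Root

set_option autoImplicit false

namespace Cfsg.Agent.Bld.Bd

open Cfsg.Agent.Chev CoxeterSystem
open scoped commutatorElement

variable {B W : Type*} [Group W] {M : CoxeterMatrix B} {cs : CoxeterSystem M W} [Sph cs] [Finite W]
  {K K' J L : Set B} {C C' : Type*} {X : Bd cs K C} {i j k : B} {a b : W → C} {a' : W → C'}

omit [Sph cs] [Finite W] in
theorem cyc_succ (i j : B) (n : ℤ) :
    cyc cs i j (n + 1) = cyc cs i j n * cs.simple (typ i j n) := by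
  rcases Int.even_or_odd' n with ⟨k, rfl | rfl⟩
  · have h1 : (2 * k + 1) / 2 = k := by omega
    have h2 : 2 * k / 2 = k := by omega
    simp [cyc, typ, h1, h2]
  · have h1 : (2 * k + 1 + 1) / 2 = k + 1 := by omega
    have h2 : (2 * k + 1) / 2 = k := by omega
    have h3 : Even (2 * k + 1 + 1) := ⟨k + 1, by ring⟩
    have h4 : ¬ Even (2 * k + 1) := by simp
    simp only [cyc, typ, h1, h2, h3, h4, if_true, if_false, zpow_add_one, mul_assoc, mul_one]

namespace PolyG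

theorem typ_succ (i j : B) (n : ℤ) : typ i j (n + 1) = typ j i n := by
  simp only [typ, Int.even_add_one, ite_not]

theorem typ_neg (i j : B) (n : ℤ) : typ i j (-n) = typ i j n := by
  simp only [typ, even_neg]

theorem typ_add (i j : B) (n l : ℤ) : typ (typ i j n) (typ j i n) l = typ i j (n + l) := by
  by_cases h1 : Even n <;> by_cases h2 : Even l <;> simp [typ, Int.even_add, h1, h2]

theorem typ_cases (i j : B) (n : ℤ) :
    (typ i j n = i ∧ typ j i n = j) ∨ (typ i j n = j ∧ typ j i n = i) := by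
  by_cases h : Even n <;> simp [typ, h]

theorem typ_mem (hi : i ∈ K) (hj : j ∈ K) (n : ℤ) : typ i j n ∈ K := by
  rcases typ_cases i j n with h | h <;> rwa [h.1]

theorem typ_ne (hij : i ≠ j) (n : ℤ) : typ i j n ≠ typ j i n := by
  rcases typ_cases i j n with h | h <;> rw [h.1, h.2]
  exacts [hij, hij.symm]

theorem M_typ (i j : B) (n : ℤ) : M (typ i j n) (typ j i n) = M i j := by
  rcases typ_cases i j n with h | h <;> rw [h.1, h.2]
  exact M.symmetric j i

theorem pair_typ (i j : B) (n : ℤ) : ({typ i j n, typ j i n} : Set B) = {i, j} := by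
  rcases typ_cases i j n with h | h <;> rw [h.1, h.2]
  exact Set.pair_comm j i

omit [Sph cs] [Finite W] in
theorem cyc_zero (i j : B) : cyc cs i j 0 = 1 := by simp [cyc]

omit [Sph cs] [Finite W] in
theorem cyc_pred (i j : B) (n : ℤ) : cyc cs i j (n - 1) = cyc cs i j n * cs.simple (typ j i n) := by
  have := cyc_succ (cs := cs) i j (n - 1)
  rw [sub_add_cancel, ← typ_succ j i, sub_add_cancel] at this
  rw [this, simple_mul_simple_cancel_right]

omit [Sph cs] [Finite W] in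
theorem cyc_add (i j : B) (n l : ℤ) :
    cyc cs i j (n + l) = cyc cs i j n * cyc cs (typ i j n) (typ j i n) l := by
  induction l using Int.induction_on with
  | zero => rw [add_zero, cyc_zero, mul_one]
  | succ l ih => rw [← add_assoc, cyc_succ, cyc_succ, ih, typ_add, mul_assoc]
  | pred l ih => rw [← add_sub_assoc, cyc_pred, cyc_pred, ih, typ_add, mul_assoc]

omit [Sph cs] [Finite W] in
theorem cyc_neg (i j : B) (n : ℤ) : cyc cs i j (-n) = cyc cs j i n := by
  induction n using Int.induction_on with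
  | zero => rw [neg_zero, cyc_zero, cyc_zero]
  | succ l ih => rw [neg_add', cyc_pred, cyc_succ, ih, typ_neg]
  | pred l ih => rw [neg_sub, sub_eq_neg_add, cyc_pred, cyc_succ, ih, typ_neg]

omit [Sph cs] [Finite W] in
theorem cyc_one (i j : B) : cyc cs i j 1 = cs.simple i := by simp [cyc]

omit [Sph cs] [Finite W] in
theorem cyc_one_add (i j : B) (n : ℤ) : cyc cs i j (1 + n) = cs.simple i * cyc cs j i n := by
  rw [cyc_add, cyc_one]
  simp [typ]

omit [Sph cs] [Finite W] in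
theorem cyc_nat (i j : B) (n : ℕ) : cyc cs i j n = alt cs i j n := by
  induction n generalizing i j with
  | zero => simp [cyc_zero]
  | succ n ih => rw [alt_succ, ← ih, ← cyc_one_add, Nat.cast_succ, add_comm]

omit [Sph cs] [Finite W] in
theorem cyc_mem (i j : B) (n : ℤ) : cyc cs i j n ∈ coxPar cs {i, j} := by
  have h : ∀ l, cs.simple (typ i j l) ∈ coxPar cs {i, j} := fun l =>
    simple_mem_coxPar cs (typ_mem (by simp) (by simp) l)
  induction n using Int.induction_on with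
  | zero => rw [cyc_zero]; exact one_mem _
  | succ l ih => rw [cyc_succ]; exact mul_mem ih (h _)
  | pred l ih => rw [cyc_pred, ← typ_succ]; exact mul_mem ih (h _)

theorem pair_sub (hi : i ∈ K) (hj : j ∈ K) : ({i, j} : Set B) ⊆ K := by
  rintro _ (rfl | rfl)
  exacts [hi, hj]

omit [Sph cs] [Finite W] in
theorem cyc_mem' (hi : i ∈ K) (hj : j ∈ K) (n : ℤ) : cyc cs i j n ∈ coxPar cs K :=
  coxPar_mono cs (pair_sub hi hj) (cyc_mem i j n)

omit [Sph cs] [Finite W] in
theorem cyc_per (i j : B) (n : ℤ) : cyc cs i j (n + 2 * M i j) = cyc cs i j n := by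
  have h1 : (n + 2 * M i j) / 2 = n / 2 + M i j := by omega
  simp only [cyc, h1, zpow_add, zpow_natCast, cs.simple_mul_simple_pow, mul_one, Int.even_add,
    even_two_mul, iff_true]

theorem typ_per (i j : B) (n m : ℤ) : typ i j (n + 2 * m) = typ i j n := by
  simp only [typ, Int.even_add, even_two_mul, iff_true]

theorem cyc_add_M (hij : i ≠ j) (n : ℤ) :
    cyc cs i j (n + M i j) = cyc cs i j n * wl cs {i, j} := by
  rw [cyc_add, ← M_typ i j n, cyc_nat, ← wl_pair cs (typ_ne hij n), pair_typ]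

omit [Finite W] in
theorem not_desc_alt (hij : i ≠ j) {r : ℕ} (hr : r < M i j) : ¬ cs.IsLeftDescent (alt cs j i r) i := by
  rw [not_isLeftDescent_iff, ← alt_succ, length_alt cs hij hr,
    length_alt cs hij.symm (M.symmetric i j ▸ hr.le)]

omit [Finite W] in
theorem exists_alt_cyc (hij : i ≠ j) {n l : ℤ} (h1 : n - M i j < l) (h2 : l ≤ n) :
    ∃ v ∈ coxPar cs {i, j}, cyc cs i j l = cyc cs i j n * v ∧ ¬ cs.IsLeftDescent v (typ i j n) := by
  obtain ⟨r, rfl⟩ : ∃ r : ℕ, l = n + -(r : ℤ) := ⟨(n - l).toNat, by omega⟩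
  refine ⟨_, pair_typ i j n ▸ cyc_mem _ _ _, cyc_add i j n _, ?_⟩
  rw [cyc_neg, cyc_nat]
  exact not_desc_alt (typ_ne hij n) (by rw [M_typ]; omega)

omit [Sph cs] [Finite W] in
theorem UZ_shift (n l : ℤ) :
    X.UZ (sh a (cyc cs i j n)) (typ i j n) (typ j i n) l = X.UZ a i j (n + l) := by
  rw [UZ, UZ, sh_sh, ← cyc_add, typ_add]

omit [Sph cs] [Finite W] in
theorem UZ_neg_one : X.UZ a i j (-1) = X.U (sh a (cs.simple j)) j := by
  rw [UZ, cyc_neg, cyc_one]
  simp [typ]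

omit [Sph cs] [Finite W] in
theorem UZ_per (n : ℤ) : X.UZ a i j (n + 2 * M i j) = X.UZ a i j n := by
  rw [UZ, UZ, cyc_per, typ_per]

omit [Finite W] in
theorem not_desc_out {v : W} {t : B} (hv : v ∈ coxPar cs J) (hi : i ∈ J) (h : ¬ cs.IsLeftDescent v i)
    (ht : t ∉ J) : ¬ cs.IsLeftDescent (v * cs.simple t) i := fun h' => ht <| by
  have := mul_mem (simple_mem_coxPar cs hi) hv
  rw [simple_mul_eq_mul_simple cs h h', mul_mem_cancel_left hv] at this
  exact (simple_mem_par cs).1 this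

omit [Sph cs] in
theorem not_desc_opp (hJ : J ⊆ K) {v : W} (hv : v ∈ coxPar cs J) (hi : i ∈ J)
    (h : ¬ cs.IsLeftDescent v i) : ¬ cs.IsLeftDescent (v * (wl cs J * wl cs K)) i := by
  have h1 : ∀ u ∈ coxPar cs J, cs.length (u * (wl cs J * wl cs K)) + cs.length (wl cs J) =
      cs.length (wl cs K) + cs.length u := fun u hu => by
    have e1 := len_mul_wl cs hu
    have e2 := len_mul_wl cs (coxPar_mono cs hJ (mul_mem hu (wl_mem cs J)))
    rw [mul_assoc] at e2
    omega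
  have e1 := h1 v hv
  have e2 := h1 _ (mul_mem (simple_mem_coxPar cs hi) hv)
  rw [not_isLeftDescent_iff] at h ⊢
  rw [mul_assoc] at e2
  omega

section Fix

variable (hi : i ∈ K) (hj : j ∈ K) (hij : i ≠ j) {n l : ℤ} (h1 : n - M i j < l) (h2 : l ≤ n)
  {g : Equiv.Perm C} (hg : g ∈ X.UZ a i j n)
include hi hj hij h1 h2 hg

omit [Finite W] in
theorem fix_y : g (a (cyc cs i j l)) = a (cyc cs i j l) := by
  obtain ⟨v, hv, e, hd⟩ := exists_alt_cyc (cs := cs) hij h1 h2
  rw [e]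
  exact (hg.2 v (coxPar_mono cs (pair_sub hi hj) hv) hd).1

omit [Finite W] in
theorem fix_out {t : B} (ht : t ∈ K) (ht' : t ∉ ({i, j} : Set B)) : X.FixP g t (a (cyc cs i j l)) := by
  obtain ⟨v, hv, e, hd⟩ := exists_alt_cyc (cs := cs) hij h1 h2
  rw [e]
  exact (hg.2 v (coxPar_mono cs (pair_sub hi hj) hv) hd).2 t ht
    (not_desc_out hv (typ_mem (by simp) (by simp) n) hd ht')

omit [Finite W] in
theorem fix_up (h3 : l < n) : X.FixP g (typ i j l) (a (cyc cs i j l)) := by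
  obtain ⟨v, hv, e, hd⟩ := exists_alt_cyc (cs := cs) hij h1 h2
  obtain ⟨v', -, e', hd'⟩ := exists_alt_cyc (cs := cs) hij (n := n) (l := l + 1) (by omega) h3
  rw [cyc_succ, e, mul_assoc, mul_right_inj] at e'
  rw [e]
  exact (hg.2 v (coxPar_mono cs (pair_sub hi hj) hv) hd).2 _ (typ_mem hi hj l) (e' ▸ hd')

omit [Finite W] in
theorem fix_down (h3 : n - M i j < l - 1) : X.FixP g (typ j i l) (a (cyc cs i j l)) := by
  obtain ⟨v, hv, e, hd⟩ := exists_alt_cyc (cs := cs) hij h1 h2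
  obtain ⟨v', -, e', hd'⟩ := exists_alt_cyc (cs := cs) hij (n := n) (l := l - 1) h3 (by omega)
  rw [cyc_pred, e, mul_assoc, mul_right_inj] at e'
  rw [e]
  exact (hg.2 v (coxPar_mono cs (pair_sub hi hj) hv) hd).2 _ (typ_mem hj hi l) (e' ▸ hd')

theorem fix_opp : g (a (cyc cs i j l * (wl cs {i, j} * wl cs K))) =
    a (cyc cs i j l * (wl cs {i, j} * wl cs K)) := by
  obtain ⟨v, hv, e, hd⟩ := exists_alt_cyc (cs := cs) hij h1 h2
  have hJ := coxPar_mono cs (pair_sub hi hj)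
  rw [e, mul_assoc]
  exact (hg.2 _ (mul_mem (hJ hv) (mul_mem (hJ (wl_mem cs _)) (wl_mem cs K)))
    (not_desc_opp (pair_sub hi hj) hv (typ_mem (by simp) (by simp) n) hd)).1

end Fix

omit [Sph cs] [Finite W] in
theorem aut_res {g : Equiv.Perm C} (hg : g ∈ X.Aut) {c x : C} (h : g c = c) (hx : x ∈ X.Res J c) :
    g x ∈ X.Res J c := by
  have := hg c x
  rw [h] at this
  simpa only [Res, Set.mem_ofPred_eq, this] using hx

theorem app_inv (g : Equiv.Perm C) (x : C) : g (g⁻¹ x) = x := g.apply_symm_apply x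

theorem inv_app (g : Equiv.Perm C) (x : C) : g⁻¹ (g x) = x := g.symm_apply_apply x

theorem inv_fix {g : Equiv.Perm C} {c : C} (h : g c = c) : g⁻¹ c = c :=
  Equiv.Perm.inv_eq_iff_eq.2 h.symm

omit [Sph cs] [Finite W] in
theorem comm_fix {g h : Equiv.Perm C} (hg : g ∈ X.Aut) {c : C} {t : B} (e : g c = c)
    (hh : X.FixP h t c) : X.FixP ⇑⁅g, h⁆ t c ∧ X.FixP ⇑⁅h, g⁆ t c := by
  have h1 : X.FixP ⇑⁅g, h⁆ t c := fun x hx => by
    simp only [commutatorElement_def, Equiv.Perm.mul_apply]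
    rw [inv_fix (hh x hx), hh _ (aut_res (inv_mem hg) (inv_fix e) hx), app_inv]
  exact ⟨h1, fun x hx => by rw [← commutatorElement_inv]; exact inv_fix (h1 x hx)⟩

omit [Sph cs] [Finite W] in
theorem UP_fix {U : ℤ → Subgroup (Equiv.Perm C)} {z : C} {r : ℕ} {n : ℤ}
    (h : ∀ l, n ≤ l → l < n + r → ∀ g ∈ U l, g z = z) : ∀ g ∈ UP U n r, g z = z := by
  induction r generalizing n with
  | zero => rintro _ rfl; rfl
  | succ r ih =>
    intro g hg
    obtain ⟨x, hx, y, hy, rfl⟩ := mem_UP_succ.1 hg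
    rw [Equiv.Perm.mul_apply, ih (fun l h1 h2 => h l (by omega) (by push_cast; omega)) y hy,
      h n le_rfl (by push_cast; omega) x hx]

/-- The automorphisms which fix all panels of `c` and two more chambers. -/
def Sb (X : Bd cs K C) (c d e : C) : Subgroup (Equiv.Perm C) where
  carrier := {g | g ∈ X.Aut ∧ (∀ t ∈ K, X.FixP g t c) ∧ g d = d ∧ g e = e}
  one_mem' := ⟨one_mem _, fun _ _ _ _ => rfl, rfl, rfl⟩
  mul_mem' := fun {g h} hg hh => ⟨mul_mem hg.1 hh.1, fun t ht x hx => by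
    rw [Equiv.Perm.mul_apply, hh.2.1 t ht x hx, hg.2.1 t ht x hx],
    by rw [Equiv.Perm.mul_apply, hh.2.2.1, hg.2.2.1], by rw [Equiv.Perm.mul_apply, hh.2.2.2, hg.2.2.2]⟩
  inv_mem' := fun {g} hg => ⟨inv_mem hg.1, fun t ht x hx => inv_fix (hg.2.1 t ht x hx),
    inv_fix hg.2.2.1, inv_fix hg.2.2.2⟩

omit [Sph cs] [Finite W] in
theorem adj_y (ha : X.IsApt K a) {w : W} (hw : w ∈ coxPar cs K) {t : B} (ht : t ∈ K) :
    X.δ (a w) (a (w * cs.simple t)) = cs.simple t := by
  rw [ha w hw _ (mul_mem hw (simple_mem_coxPar cs ht)), inv_mul_cancel_left]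

theorem eq_one_of (ha : X.IsApt K a) (hi : i ∈ K) (hj : j ∈ K) (hij : i ≠ j) {n l : ℤ}
    {f : Equiv.Perm C} (hf : f ∈ Sb X (a (cyc cs i j n)) (a (cyc cs i j n * (wl cs {i, j} * wl cs K)))
      (a (cyc cs i j (l - M i j)))) (e : f (a (cyc cs i j l)) = a (cyc cs i j l)) : f = 1 := by
  have hJ := pair_sub hi hj
  have hm := coxPar_mono cs hJ
  have h1 : ∀ w ∈ coxPar cs {i, j}, f (a w) = a w := fun w hw =>
    IsApt.unique (X := X) (a := fun w => f (a w)) (fun u hu v hv => (hf.1 _ _).trans (ha u (hm hu) v (hm hv)))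
      (ha.mono hJ) (cyc_mem i j (l - M i j)) hf.2.2.2
      (by rw [← cyc_add_M hij, sub_add_cancel]; exact e) hw
  have hc := cyc_mem' (cs := cs) hi hj n
  have hw := wl_mem cs K
  have hw' := hm (wl_mem cs {i, j})
  have h2 : X.IsProj (opp cs K '' {i, j}) (a (cyc cs i j n * (wl cs {i, j} * wl cs K)))
      (a (cyc cs i j n * wl cs {i, j})) (a (cyc cs i j n * wl cs K)) := by
    constructor
    · rw [Res, Set.mem_ofPred_eq, ha _ (mul_mem hc (mul_mem hw' hw)) _ (mul_mem hc hw)]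
      simpa [mul_assoc] using conj_mem_par cs hJ (wl_mem cs {i, j})
    · rw [ha _ (mul_mem hc hw') _ (mul_mem hc hw)]
      simpa [mul_assoc] using min_wl' cs hJ
  have h3 := IsoOn.isProj (X' := X) (S := Set.univ) (f := f) (fun x _ y _ => hf.1 x y) trivial trivial
    trivial h2
  rw [hf.2.2.1, h1 _ (mul_mem (cyc_mem i j n) (wl_mem cs _))] at h3
  have h4 := rigid (X' := X) (f := f) (g := id) (c := a (cyc cs i j n)) subset_rfl
    (fun x _ y _ => hf.1 x y) (fun _ _ _ _ => rfl) (fun t ht x hx => hf.2.1 t ht x hx)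
    (h1 _ (cyc_mem i j n)) (by rw [ha _ hc _ (mul_mem hc hw), inv_mul_cancel_left]) (h3.unique h2)
  exact Equiv.ext fun x => h4 (X.mem_res_self _ x)

theorem mem_Sb (hi : i ∈ K) (hj : j ∈ K) (hij : i ≠ j) {n p l : ℤ} (h1 : n < p) (h2 : p < l)
    (h3 : l < n + M i j) {g : Equiv.Perm C} (hg : g ∈ X.UZ a i j p) :
    g ∈ Sb X (a (cyc cs i j n)) (a (cyc cs i j n * (wl cs {i, j} * wl cs K)))
      (a (cyc cs i j (l - M i j))) := by
  have e1 : p - M i j < n := by omega
  refine ⟨hg.1, fun t ht => ?_, fix_opp hi hj hij e1 h1.le hg, fix_y hi hj hij (by omega) (by omega) hg⟩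
  by_cases h : t ∈ ({i, j} : Set B)
  · rw [← pair_typ i j n] at h
    rcases h with rfl | rfl
    exacts [fix_up hi hj hij e1 h1.le hg h1, fix_down hi hj hij e1 h1.le hg (by omega)]
  · exact fix_out hi hj hij e1 h1.le hg ht h

theorem comm_mem_Sb (ha : X.IsApt K a) (hi : i ∈ K) (hj : j ∈ K) (hij : i ≠ j) {n l : ℤ} (h1 : n < l)
    (h3 : l < n + M i j) {g h : Equiv.Perm C} (hg : g ∈ X.UZ a i j n) (hh : h ∈ X.UZ a i j l) :
    ⁅g, h⁆ ∈ Sb X (a (cyc cs i j n)) (a (cyc cs i j n * (wl cs {i, j} * wl cs K)))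
      (a (cyc cs i j (l - M i j))) := by
  have e1 : n - M i j < n := by omega
  have e2 : l - M i j < n := by omega
  have g0 := fix_y hi hj hij e1 le_rfl hg
  have h0 := fix_y hi hj hij e2 h1.le hh
  refine ⟨mul_mem (mul_mem (mul_mem hg.1 hh.1) (inv_mem hg.1)) (inv_mem hh.1), fun t ht => ?_, ?_, ?_⟩
  · by_cases h : t ∈ ({i, j} : Set B)
    · rw [← pair_typ i j n] at h
      rcases h with rfl | rfl
      exacts [(comm_fix hg.1 g0 (fix_up hi hj hij e2 h1.le hh h1)).1,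
        (comm_fix hh.1 h0 (fix_down hi hj hij e1 le_rfl hg (by omega))).2]
    · exact (comm_fix hg.1 g0 (fix_out hi hj hij e2 h1.le hh ht h)).1
  · have g1 := fix_opp hi hj hij e1 le_rfl hg
    have h1 := fix_opp hi hj hij e2 h1.le hh
    simp only [commutatorElement_def, Equiv.Perm.mul_apply]
    rw [inv_fix h1, inv_fix g1, h1, g1]
  · refine (comm_fix hh.1 (fix_y hi hj hij (l := l - M i j + 1) (by omega) (by omega) hh)
      (fix_down hi hj hij (by omega) (by omega) hg (by omega))).2 _ (mem_res_single.2 (.inr ?_))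
    have := adj_y ha (cyc_mem' hi hj (l - M i j + 1)) (typ_mem hj hi (l - M i j + 1))
    rwa [← cyc_pred, add_sub_cancel_right] at this

theorem peel (hX : X.Mouf) (ha : X.IsApt K a) (hi : i ∈ K) (hj : j ∈ K) (hij : i ≠ j) {n l : ℤ}
    (h3 : l < n + M i j) (r : ℕ) : ∀ p, n < p → p + r = l → ∀ f ∈ Sb X (a (cyc cs i j n))
      (a (cyc cs i j n * (wl cs {i, j} * wl cs K))) (a (cyc cs i j (l - M i j))),
      f (a (cyc cs i j p)) = a (cyc cs i j p) → f ∈ UP (X.UZ a i j) p r := by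
  induction r with
  | zero =>
    intro p _ e f hf h
    obtain rfl : p = l := by omega
    exact eq_one_of ha hi hj hij hf h
  | succ r ih =>
    intro p h1 e f hf h
    have hc := cyc_mem' (cs := cs) hi hj p
    obtain ⟨u, hu, e'⟩ := hX _ (ha.sh hc) _ (typ_mem hi hj p) (f (a (cyc cs i j (p + 1)))) (by
      rw [sh_apply, mul_one, ← h, hf.1, cyc_succ, adj_y ha hc (typ_mem hi hj p)])
    rw [sh_apply, ← cyc_succ] at e'
    refine mem_UP_succ.2 ⟨u, hu, u⁻¹ * f, ih _ (by omega) (by push_cast at e; omega) _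
      (mul_mem (inv_mem (mem_Sb hi hj hij h1 (by push_cast at e; omega) h3 hu)) hf) ?_,
      mul_inv_cancel_left _ _⟩
    rw [Equiv.Perm.mul_apply, ← e', inv_app]

omit [Sph cs] [Finite W] in
theorem U_ne_bot (hX : X.Mouf) (ha : X.IsApt K a) (hi : i ∈ K) : X.U a i ≠ ⊥ := fun e => by
  have h : ∀ x, X.δ (a 1) x = cs.simple i → x = a (cs.simple i) := fun x hx => by
    obtain ⟨g, hg, rfl⟩ := hX a ha i hi x hx
    rw [e, Subgroup.mem_bot] at hg
    rw [hg, Equiv.Perm.one_apply]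
  obtain ⟨d, d', h1, h2, h3⟩ := X.thick (a 1) i hi
  exact h3 ((h d h1).trans (h d' h2).symm)

end PolyG

open PolyG

omit [Sph cs] [Finite W] in
theorem UZ_zero : X.UZ a i j 0 = X.U a i := by
  rw [UZ, cyc_zero, sh_one]
  simp [typ]

omit [Sph cs] [Finite W] in
theorem UZ_two : X.UZ a i j 2 = X.U (sh a (cs.simple i * cs.simple j)) i := by
  simp [UZ, cyc, typ]

theorem UZ_pred (hi : i ∈ K) (hj : j ∈ K) (hij : i ≠ j) :
    X.UZ a i j ((M i j : ℤ) - 1) = X.U a j := by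
  obtain ⟨r, hr⟩ : ∃ r, M i j = r + 1 := ⟨M i j - 1, by have := M_pos cs i j; omega⟩
  have e : (M i j : ℤ) - 1 = r := by omega
  refine U_sh (cyc_mem' hi hj _) ?_ ?_
  · rw [← cyc_succ, sub_add_cancel, e, cyc_nat, cyc_nat, ← alt_succ, ← hr, alt_braid]
  · rw [e, cyc_nat]
    exact not_desc_alt hij.symm (by rw [M.symmetric]; omega)

theorem UZ_opp (hi : i ∈ K) (hj : j ∈ K) (hij : i ≠ j) :
    X.UZ a i j (M i j) = X.U (sh a (cs.simple i)) i := by
  have := UZ_shift (X := X) (a := a) (i := i) (j := j) 1 ((M i j : ℤ) - 1)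
  rw [add_sub_cancel, cyc_one] at this
  rw [← this, ← UZ_pred hj hi hij.symm, M.symmetric j i]
  simp [typ]

/-- Reading the polygon in the other direction. -/
theorem UZ_symm (hi : i ∈ K) (hj : j ∈ K) (hij : i ≠ j) (n : ℤ) :
    X.UZ a j i n = X.UZ a i j ((M i j : ℤ) - 1 - n) := by
  rw [sub_eq_neg_add, ← UZ_shift, ← M_typ i j (-n),
    UZ_pred (typ_mem hi hj _) (typ_mem hj hi _) (typ_ne hij _), cyc_neg, typ_neg, UZ]

/-- The chambers `cyc (n - m + 1), …, cyc n` lie in the `n`-th root. -/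
theorem UZ_fix (hi : i ∈ K) (hj : j ∈ K) (hij : i ≠ j) {n l : ℤ} (h1 : n - M i j < l) (h2 : l ≤ n)
    {g : Equiv.Perm C} (hg : g ∈ X.UZ a i j n) : g (a (cyc cs i j l)) = a (cyc cs i j l) :=
  fix_y hi hj hij h1 h2 hg

theorem isMu_of_refl (hi : i ∈ K) (hj : j ∈ K) (hij : i ≠ j) {g x y : Equiv.Perm C}
    (hg : g ∈ X.U a i) (hx : x ∈ X.U (sh a (cs.simple i)) i) (hy : y ∈ X.U (sh a (cs.simple i)) i)
    (h : ∀ v ∈ coxPar cs K, (x * g * y) (a v) = a (cs.simple i * v)) :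
    IsMu (X.UZ a i j) (M i j) 0 g (x * g * y) := by
  refine ⟨by rw [zero_add, UZ_opp hi hj hij]; exact ⟨x, hx, y, hy, rfl⟩, fun l f => ?_⟩
  have e : X.UZ a i j (2 * 0 + M i j - l) = X.UZ a j i (l - 1) := by
    rw [UZ_symm hi hj hij]
    congr 1
    ring
  rw [e, UZ, UZ, ← typ_succ i j, sub_add_cancel]
  refine conj_mem_U (mul_mem (mul_mem hx.1 hg.1) hy.1) fun v hv => ?_
  rw [sh_apply, sh_apply, h _ (mul_mem (cyc_mem' hi hj l) hv), ← mul_assoc, ← cyc_neg j i l,
    ← cyc_one_add, ← cyc_neg i j, neg_sub, sub_eq_add_neg]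

/-- The root groups around a residue of rank two. -/
theorem Mouf.isPoly (hX : X.Mouf) (hK : NoIso M K) (ha : X.IsApt K a) (hi : i ∈ K) (hj : j ∈ K)
    (hij : i ≠ j) : IsPoly (M i j) (X.UZ a i j) := by
  have hc := fun n => ha.sh (cyc_mem' (cs := cs) hi hj n)
  refine ⟨UZ_per, fun n => U_ne_bot hX (hc n) (typ_mem hi hj n), fun n r hr g hg h hh => ?_,
    fun n g hg f hf e => U_free hK (hc n) (typ_mem hi hj n) hg ?_, fun n g hg g1 => ?_⟩
  · have h1 := comm_mem_Sb ha hi hj hij (by omega) (by omega) hg hh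
    refine peel hX ha hi hj hij (l := n + r + 1) (by omega) r (n + 1) (by omega) (by omega) _ h1
      (h1.2.1 _ (typ_mem hi hj n) _ (mem_res_single.2 (.inr ?_)))
    rw [cyc_succ, adj_y ha (cyc_mem' hi hj n) (typ_mem hi hj n)]
  · have := M_pos cs i j
    rw [sh_apply, ← cyc_succ, eq_inv_of_mul_eq_one_left e]
    exact inv_fix (UP_fix (fun l h1 h2 u hu => fix_y hi hj hij (by omega) h1 hu) f hf)
  · obtain ⟨x, hx, y, hy, h⟩ := hX.exists_refl hK (hc n) (typ_mem hi hj n) hg g1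
    have h1 := isMu_of_refl (typ_mem hi hj n) (typ_mem hj hi n) (typ_ne hij n) hg hx hy h
    rw [M_typ] at h1
    refine ⟨_, by simpa only [UZ_shift, zero_add] using h1.1, fun l f => ?_⟩
    have h2 := h1.2 (l - n) f
    rw [UZ_shift, UZ_shift, add_sub_cancel] at h2
    rw [h2]
    congr! 2
    ring

theorem Mouf.b3 (hX : X.Mouf) (hK : NoIso M K) (ha : X.IsApt K a) (hi : i ∈ K) (hj : j ∈ K)
    (hk : k ∈ K) (h1 : M i j = 3) (h2 : M j k = 4) (h3 : M i k = 2) :
    B3 (X.UZ a j i) (X.UZ a j k) := by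
  have ne : ∀ {i j : B}, M i j ≠ 1 → i ≠ j := fun h e => h (e ▸ M.diagonal _)
  have h1' : M j i = 3 := (M.symmetric j i).trans h1
  have ji : j ≠ i := ne (by omega)
  have jk : j ≠ k := ne (by omega)
  have ik : i ≠ k := ne (by omega)
  have T := hX.isPoly hK ha hj hi ji
  have U := hX.isPoly hK ha hj hk jk
  have V := hX.isPoly hK ha hi hk ik
  have t2 := UZ_pred (X := X) (a := a) hj hi ji
  have t3 := UZ_opp (X := X) (a := a) hj hi ji
  have u3 := UZ_pred (X := X) (a := a) hj hk jk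
  have u4 := UZ_opp (X := X) (a := a) hj hk jk
  have v1 := UZ_pred (X := X) (a := a) hi hk ik
  have v2 := UZ_opp (X := X) (a := a) hi hk ik
  rw [h1'] at T t2 t3
  rw [h2] at U u3 u4
  rw [h3] at V v1 v2
  have t5 : X.UZ a j i 5 = X.UZ a i k 2 := ((T.per (-1)).trans UZ_neg_one).trans v2.symm
  have u7 : X.UZ a j k 7 = X.UZ a i k (-1) := ((U.per (-1)).trans UZ_neg_one).trans UZ_neg_one.symm
  have c : ∀ n : ℤ, ∀ g ∈ X.UZ a i k n, ∀ h ∈ X.UZ a i k (n + 1), Commute g h := fun n g hg h hh =>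
    commutatorElement_eq_one_iff_commute.1 (V.comm n 0 (by norm_num) g hg h (by simpa using hh))
  replace t2 : X.UZ a j i 2 = X.UZ a i k 0 := t2.trans UZ_zero.symm
  replace u3 : X.UZ a j k 3 = X.UZ a i k 1 := u3.trans v1.symm
  refine ⟨T, U, UZ_zero.trans UZ_zero.symm, t3.trans u4.symm, ?_, fun g hg g1 => ?_⟩
  · rw [t2, t5, u3, u7]
    rintro g (hg | hg) h (hh | hh)
    exacts [c 0 g hg h hh, (c (-1) h hh g hg).symm, (c 1 h hh g hg).symm,
      c 2 g hg h ((V.per (-1)).symm ▸ hh :)]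
  · rw [UZ_zero] at hg
    obtain ⟨x, hx, y, hy, h⟩ := hX.exists_refl hK ha hj hg g1
    exact ⟨_, h1' ▸ isMu_of_refl hj hi ji hg hx hy h, h2 ▸ isMu_of_refl hj hk jk hg hx hy h⟩

theorem Mouf.kind_iff (hX : X.Mouf) (hK : NoIso M K) (ha : X.IsApt K a) (hj : j ∈ K) (hk : k ∈ K)
    (h2 : M j k = 4) : X.Kind j k a ↔ Cm (X.UZ a j k 0) (X.UZ a j k 2) := by
  have jk : j ≠ k := fun e => by
    have := M.diagonal k
    rw [e] at h2
    omega
  have hJ := pair_sub hj hk
  have f0 : ∀ n : ℤ, 0 ≤ n → n < 4 → ∀ g ∈ X.UZ a j k n, ∀ x ∈ X.Res {j, k} (a 1),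
      g x ∈ X.Res {j, k} (a 1) := fun n h0 h4 g hg x hx => aut_res hg.1 (by
    simpa only [cyc_zero] using fix_y hj hk jk (l := 0) (by omega) h0 hg) hx
  constructor
  · intro h g hg f hf
    have U := hX.isPoly hK ha hj hk jk
    have h3 := mem_UP_one.1 (U.comm 0 1 (by omega) g hg f hf)
    refine commutatorElement_eq_one_iff_commute.1 (U_free hK (ha.sh (cyc_mem' (cs := cs) hj hk _))
      (typ_mem hj hk _) h3 ?_)
    rw [sh_apply, ← cyc_succ]
    have h4 := f0 0 le_rfl (by norm_num) _ (inv_mem hg) _ (f0 2 (by norm_num) (by norm_num) _ (inv_mem hf)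
      _ ((ha.mono hJ).mem_res (cyc_mem j k (0 + 1 + 1))))
    simp only [commutatorElement_def, Equiv.Perm.mul_apply]
    rw [UZ_zero] at hg
    rw [UZ_two] at hf
    rw [h g f (elt_of_mem_U hJ hg) (elt_of_mem_U hJ hf) _ h4,
      app_inv, app_inv]
  · intro h g f hg hf x hx
    have m : cs.simple j * cs.simple k ∈ coxPar cs {j, k} :=
      mul_mem (simple_mem_coxPar cs (by simp)) (simple_mem_coxPar cs (by simp))
    obtain ⟨g', hg', e⟩ := hX.elt_lift hJ ha (j := k) (by simp) (by simp) (by omega) hg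
    obtain ⟨f', hf', e'⟩ := hX.elt_lift hJ (ha.sh (coxPar_mono cs hJ m)) (j := k) (by simp) (by simp)
      (by omega) hf
    rw [sh_apply, mul_one, res_eq ((ha.mono hJ).mem_res m)] at e'
    rw [← UZ_zero (j := k)] at hg'
    rw [← UZ_two] at hf'
    rw [e' hx, e hx, e (f0 2 (by norm_num) (by norm_num) _ hf' x hx),
      e' (f0 0 le_rfl (by norm_num) _ hg' x hx), ← Equiv.Perm.mul_apply, (h g' hg' f' hf').eq,
      Equiv.Perm.mul_apply]

end Cfsg.Agent.Bld.Bd
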