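import Mathlib
import Cfsg.Agent.Bld.PolyG
import Cfsg.Agent.Bld.Poly

/-! Isomorphic root group sequences give isomorphic polygons; generalised digons. -/

set_option autoImplicit false

namespace Cfsg.Agent.Bld.Bd

open Cfsg.Agent.Chev CoxeterSystem

variable {B W : Type*} [Group W] {M : CoxeterMatrix B} {cs : CoxeterSystem M W} [Sph cs] [Finite W]
  {K K' J L : Set B} {C C' : Type*} {X : Bd cs K C} {i j k : B} {a b : W → C} {a' : W → C'}

namespace IsoG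

section UP

variable {Γ : Type*} [Group Γ] {D : ℤ → Subgroup Γ}

theorem UP_snoc (r : ℕ) : ∀ (k : ℤ) {g u : Γ}, g ∈ UP D k r → u ∈ D (k + r) → g * u ∈ UP D k (r + 1) := by
  induction r with
  | zero => exact fun k g u hg hu => mem_UP_one.2 (by simpa [mem_UP_zero.1 hg] using hu)
  | succ r ih =>
    intro k g u hg hu
    obtain ⟨x, hx, y, hy, rfl⟩ := mem_UP_succ.1 hg
    exact mem_UP_succ.2 ⟨x, hx, _, ih _ hy (mem_U_congr (by push_cast; ring) hu), (mul_assoc ..).symm⟩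

theorem UP_inv (c : ℤ) (r : ℕ) :
    ∀ (k : ℤ) {g : Γ}, g ∈ UP D k r → g⁻¹ ∈ UP (fun n => D (c - n)) (c - k - r + 1) r := by
  induction r with
  | zero => exact fun k g hg => inv_eq_one.2 hg
  | succ r ih =>
    intro k g hg
    obtain ⟨x, hx, y, hy, rfl⟩ := mem_UP_succ.1 hg
    rw [mul_inv_rev, show c - k - (r + 1 : ℕ) + 1 = c - (k + 1) - r + 1 by push_cast; ring]
    exact UP_snoc r _ (ih _ hy) (mem_U_congr (U := D) (by ring) (inv_mem hx))

theorem UP_le {H : Subgroup Γ} (r : ℕ) :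
    ∀ (k : ℤ), (∀ l, k ≤ l → l < k + r → D l ≤ H) → ∀ g ∈ UP D k r, g ∈ H := by
  induction r with
  | zero => exact fun k _ g hg => mem_UP_zero.1 hg ▸ one_mem _
  | succ r ih =>
    intro k h g hg
    obtain ⟨x, hx, y, hy, rfl⟩ := mem_UP_succ.1 hg
    exact mul_mem (h k le_rfl (by push_cast; omega) hx)
      (ih _ (fun l h1 h2 => h l (by omega) (by push_cast; omega)) y hy)

end UP

omit [Sph cs] [Finite W] in
theorem alt_snoc (n : ℕ) : ∀ i j : B, alt cs i j (n + 1) = alt cs i j n * cs.simple (typ i j n) := by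
  induction n with
  | zero => intro i j; simp [alt_succ, typ]
  | succ n ih =>
    intro i j
    rw [alt_succ, ih, alt_succ, mul_assoc]
    congr 3
    simp only [typ, Nat.cast_succ, Int.even_add_one, ite_not]

omit [Sph cs] [Finite W] in
theorem cyc_alt (i j : B) (n : ℕ) : cyc cs i j n = alt cs i j n := by
  induction n with
  | zero => simp [cyc]
  | succ n ih => rw [alt_snoc, ← ih, ← cyc_succ]; rfl

omit [Sph cs] [Finite W] in
theorem alt_memK (hi : i ∈ K) (hj : j ∈ K) (n : ℕ) : alt cs i j n ∈ coxPar cs K :=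
  coxPar_mono cs (Set.insert_subset hi (Set.singleton_subset_iff.2 hj)) (alt_mem cs i j n)

theorem typ_mem (hi : i ∈ K) (hj : j ∈ K) (n : ℤ) : typ i j n ∈ K := by
  unfold typ; split_ifs <;> assumption

omit [Finite W] in
theorem not_desc (hij : i ≠ j) {n : ℕ} (hn : n < M i j) :
    ¬ cs.IsRightDescent (alt cs i j n) (typ i j n) := by
  rw [cs.not_isRightDescent_iff, ← alt_snoc, length_alt cs hij hn, length_alt cs hij hn.le]

omit [Sph cs] [Finite W] in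
theorem δ_one (ha : X.IsApt K a) {w : W} (hw : w ∈ coxPar cs K) : X.δ (a 1) (a w) = w := by
  simpa using ha 1 (one_mem _) w hw

omit [Sph cs] [Finite W] in
theorem δ_adj (ha : X.IsApt K a) {w : W} (hw : w ∈ coxPar cs K) (hk : k ∈ K) :
    X.δ (a w) (a (w * cs.simple k)) = cs.simple k := by
  simpa using ha w hw _ (mul_mem hw (simple_mem_coxPar cs hk))

omit [Sph cs] [Finite W] in
theorem δ_fix (ha : X.IsApt K a) {w : W} (hw : w ∈ coxPar cs K) {g : Equiv.Perm C} (hg : g ∈ X.Aut)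
    (h0 : g (a 1) = a 1) : X.δ (a 1) (g (a w)) = w := by
  have := hg (a 1) (a w)
  rwa [h0, δ_one ha hw] at this

omit [Finite W] in
theorem pred_eq (ha : X.IsApt K a) {w : W} (hw : w ∈ coxPar cs K) (hk : k ∈ K)
    (hd : ¬ cs.IsRightDescent w k) {g : Equiv.Perm C} (hg : g ∈ X.Aut) (h0 : g (a 1) = a 1) {x : C}
    (h1 : X.δ (a 1) x = w) (h2 : X.δ x (g (a (w * cs.simple k))) = cs.simple k) : g (a w) = x :=
  mid_unique (c := a 1) (δ_fix ha hw hg h0) ((hg _ _).trans (δ_adj ha hw hk))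
    h1 h2 (by rw [cs.not_isRightDescent_iff.1 hd, length_simple])

omit [Finite W] in
theorem fix_down (ha : X.IsApt K a) (hi : i ∈ K) (hj : j ∈ K) (hij : i ≠ j) {g : Equiv.Perm C}
    (hg : g ∈ X.Aut) (h0 : g (a 1) = a 1) {l n : ℕ} (h1 : l ≤ n) (h2 : n ≤ M i j)
    (h : g (a (alt cs i j n)) = a (alt cs i j n)) : g (a (alt cs i j l)) = a (alt cs i j l) := by
  induction n, h1 using Nat.le_induction with
  | base => exact h
  | succ n _ ih =>
    have hn := alt_memK (cs := cs) hi hj n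
    rw [alt_snoc] at h
    exact ih (by omega) (pred_eq ha hn (typ_mem hi hj _) (not_desc hij h2) hg h0 (δ_one ha hn)
      (by rw [h, δ_adj ha hn (typ_mem hi hj _)]))

theorem fixU (hi : i ∈ K) (hj : j ∈ K) (hij : i ≠ j) {n : ℤ} {l : ℕ} (h1 : n < M i j) (h2 : l ≤ n)
    {g : Equiv.Perm C} (hg : g ∈ X.UZ a i j n) : g (a (alt cs i j l)) = a (alt cs i j l) :=
  cyc_alt (cs := cs) i j l ▸ UZ_fix hi hj hij (by omega) h2 hg

theorem free (hK : NoIso M K) (ha : X.IsApt K a) (hi : i ∈ K) (hj : j ∈ K) (hij : i ≠ j)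
    {l n : ℕ} (h1 : l < n) (h2 : n ≤ M i j) {u g : Equiv.Perm C} (hu : u ∈ X.UZ a i j l) (hg : g ∈ X.Aut)
    (h3 : ∀ t ≤ l + 1, g (a (alt cs i j t)) = a (alt cs i j t))
    (h : (u * g) (a (alt cs i j n)) = a (alt cs i j n)) : u = 1 := by
  have h0 : (u * g) (a 1) = a 1 := by
    have e1 := h3 0 (by omega)
    have e2 := fixU (l := 0) hi hj hij (by omega) (by omega) hu
    rw [alt_zero] at e1 e2
    rw [Equiv.Perm.mul_apply, e1, e2]
  have h4 := fix_down ha hi hj hij (mul_mem hu.1 hg) h0 h1 h2 h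
  rw [Equiv.Perm.mul_apply, h3 _ le_rfl, alt_snoc, ← cyc_alt] at h4
  exact U_free hK (ha.sh (cyc_alt (cs := cs) i j l ▸ alt_memK hi hj l)) (typ_mem hi hj _) hu h4

/-- The automorphisms that fix the chambers `alt 0, …, alt l`. -/
def fixer (X : Bd cs K C) (a : W → C) (i j : B) (l : ℕ) : Subgroup (Equiv.Perm C) :=
  X.Aut ⊓ ⨅ t ≤ l, MulAction.stabilizer _ (a (alt cs i j t))

omit [Sph cs] [Finite W] in
theorem mem_fixer {l : ℕ} {g : Equiv.Perm C} :
    g ∈ fixer X a i j l ↔ g ∈ X.Aut ∧ ∀ t ≤ l, g (a (alt cs i j t)) = a (alt cs i j t) := by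
  simp [fixer, Subgroup.mem_iInf]

theorem UZ_le (hi : i ∈ K) (hj : j ∈ K) (hij : i ≠ j) {n : ℤ} {l : ℕ} (h1 : n < M i j) (h2 : l ≤ n) :
    X.UZ a i j n ≤ fixer X a i j l := fun _ hg =>
  mem_fixer.2 ⟨hg.1, fun _ ht => fixU hi hj hij h1 (by omega) hg⟩

theorem half {X' : Bd cs K' C'} (hK : NoIso M K) (hK' : NoIso M K') (ha : X.IsApt K a) (ha' : X'.IsApt K' a')
    (hi : i ∈ K) (hj : j ∈ K) (hi' : i ∈ K') (hj' : j ∈ K') (hij : i ≠ j)
    {D : ℤ → Subgroup (Equiv.Perm C × Equiv.Perm C')}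
    (hD : ∀ l : ℤ, 0 ≤ l → l < M i j → IsGr (X.UZ a i j l) (X'.UZ a' i j l) (D l)) {n : ℕ} (hn : n ≤ M i j) (r : ℕ) :
    ∀ l : ℕ, l + r ≤ M i j → ∀ g ∈ UP D l r,
      g.1 (a (alt cs i j n)) = a (alt cs i j n) ↔ g.2 (a' (alt cs i j n)) = a' (alt cs i j n) := by
  have key : ∀ r l : ℕ, l + r ≤ M i j → ∀ g ∈ UP D l r, g ∈ (fixer X a i j l).prod (fixer X' a' i j l) :=
    fun r l h => UP_le r l fun t h1 h2 x hx => by
      have := (hD t (by omega) (by omega)).le x hx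
      exact ⟨UZ_le hi hj hij (by omega) h1 this.1, UZ_le hi' hj' hij (by omega) h1 this.2⟩
  induction r with
  | zero => intro l _ g hg; simp [mem_UP_zero.1 hg]
  | succ r ih =>
    intro l hl g hg
    rcases le_or_gt n l with h | h
    · have := key _ l hl g hg
      exact iff_of_true ((mem_fixer.1 this.1).2 n h) ((mem_fixer.1 this.2).2 n h)
    obtain ⟨u, hu, g, hg', rfl⟩ := mem_UP_succ.1 hg
    have h1 := key r (l + 1) (by omega) g hg'
    have h2 := hD l (by omega) (by omega)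
    have h3 := ih (l + 1) (by omega) g hg'
    have h4 := h2.one u hu
    constructor <;> intro e
    · have := free hK ha hi hj hij h hn (h2.le u hu).1 (mem_fixer.1 h1.1).1 (mem_fixer.1 h1.1).2 e
      rw [Prod.fst_mul, this, one_mul] at e
      rw [Prod.snd_mul, h4.1 this, one_mul, h3.1 e]
    · have := free hK' ha' hi' hj' hij h hn (h2.le u hu).2 (mem_fixer.1 h1.2).1 (mem_fixer.1 h1.2).2 e
      rw [Prod.snd_mul, this, one_mul] at e
      rw [Prod.fst_mul, h4.2 this, one_mul, h3.2 e]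

omit [Finite W] in
theorem trans1 (hX : X.Mouf) (ha : X.IsApt K a) (hi : i ∈ K) (hj : j ∈ K) (hij : i ≠ j)
    {H : Subgroup (Equiv.Perm C)} (hA : H ≤ X.Aut) (hU : ∀ l : ℤ, 0 ≤ l → l < M i j → X.UZ a i j l ≤ H)
    {n : ℕ} (hn : n ≤ M i j) : ∀ x, X.δ (a 1) x = alt cs i j n → ∃ h ∈ H, h (a (alt cs i j n)) = x := by
  induction n with
  | zero => exact fun x hx => ⟨1, one_mem _, X.eq_one.1 (by simpa using hx)⟩
  | succ n ih =>
    intro x hx
    rw [alt_snoc] at hx ⊢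
    obtain ⟨y, h1, h2⟩ := exists_pred hx (not_desc hij hn)
    obtain ⟨h, hh, rfl⟩ := ih (by omega) y h1
    obtain ⟨u, hu, e⟩ := hX _ (ha.sh (alt_memK hi hj n)) _ (typ_mem hi hj n) (h.symm x) (by
      rw [sh_apply, mul_one, ← hA hh, h.apply_symm_apply, h2])
    refine ⟨h * u, mul_mem hh (hU n (by omega) (by omega) (by rwa [UZ, cyc_alt])), ?_⟩
    rw [sh_apply] at e
    rw [Equiv.Perm.mul_apply, e, h.apply_symm_apply]

theorem trans2 (hX : X.Mouf) (ha : X.IsApt K a) (hi : i ∈ K) (hj : j ∈ K) (hij : i ≠ j)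
    {H : Subgroup (Equiv.Perm C)} (hA : H ≤ X.Aut) (hU : ∀ l : ℤ, 0 ≤ l → l < M i j → X.UZ a i j l ≤ H)
    {x : C} (hx : x ∈ X.Res {i, j} (a 1)) : ∃ h ∈ H, h (a (X.δ (a 1) x)) = x := by
  obtain ⟨n, hn, e | e⟩ := exists_alt cs hx <;> rw [e]
  · exact trans1 hX ha hi hj hij hA hU hn x e
  · refine trans1 hX ha hj hi hij.symm hA (fun l h1 h2 => ?_) (M.symmetric i j ▸ hn) x e
    rw [M.symmetric] at h2
    exact UZ_symm (X := X) hi hj hij l ▸ hU _ (by omega) (by omega)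

/-- `x` has the coordinates `p`, `q` in the digon through `c`. -/
structure Co (X : Bd cs K C) (i j : B) (c x p q : C) : Prop where
  p1 : p ∈ X.Res {i} c
  q1 : q ∈ X.Res {j} c
  p2 : x ∈ X.Res {j} p
  q2 : x ∈ X.Res {i} q

variable {c x y p q p' q' : C}

omit [Sph cs] [Finite W] in
theorem Co.symm (h : Co X i j c x p q) : Co X j i c x q p := ⟨h.q1, h.p1, h.q2, h.p2⟩

omit [Finite W] in
theorem eq_of_two (hij : i ≠ j) (h1 : x ∈ X.Res {i} p) (h2 : y ∈ X.Res {i} p) (h3 : x ∈ X.Res {j} q)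
    (h4 : y ∈ X.Res {j} q) : x = y := by_contra fun e =>
  hij (inj cs ((adj_of_mem h1 h2 e).symm.trans (adj_of_mem h3 h4 e)))

omit [Finite W] in
theorem Co.uniq (hij : i ≠ j) (h : Co X i j c x p q) (h' : Co X i j c y p q) : x = y :=
  eq_of_two hij h.q2 h'.q2 h.p2 h'.p2

omit [Finite W] in
theorem Co.fst (hij : i ≠ j) (h : Co X i j c x p q) (h' : Co X i j c y p' q') (e : y ∈ X.Res {j} x) : p = p' :=
  eq_of_two hij h.p1 h'.p1 (X.res_symm h.p2) (X.res_trans e (X.res_symm h'.p2))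

omit [Sph cs] [Finite W] in
theorem Co.mem (h : Co X i j c x p q) : x ∈ X.Res {i, j} c :=
  X.res_trans (res_mono (by simp) c h.p1) (res_mono (by simp) p h.p2)

omit [Finite W] in
theorem len_two (hM : M i j = 2) : cs.length (cs.simple i * cs.simple j) =
    cs.length (cs.simple i) + cs.length (cs.simple j) := by
  have hij : i ≠ j := by rintro rfl; simp at hM
  simpa [alt_succ] using length_alt cs hij hM.ge

theorem split_two (hM : M i j = 2) {w : W} (hw : w ∈ coxPar cs {i, j}) : ∃ u ∈ coxPar cs {i}, ∃ v ∈ coxPar cs {j},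
    w = u * v ∧ cs.length (u * v) = cs.length u + cs.length v := by
  have m : ∀ k, cs.simple k ∈ coxPar cs {k} := fun k => simple_mem_coxPar cs rfl
  obtain ⟨n, hn, e⟩ := exists_alt cs hw
  rw [hM] at hn
  interval_cases n <;> simp only [alt_succ, alt_zero, mul_one] at e <;> rcases e with rfl | rfl
  · exact ⟨1, one_mem _, 1, one_mem _, by simp, by simp⟩
  · exact ⟨1, one_mem _, 1, one_mem _, by simp, by simp⟩
  · exact ⟨_, m i, 1, one_mem _, by simp, by simp⟩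
  · exact ⟨1, one_mem _, _, m j, by simp, by simp⟩
  · exact ⟨_, m i, _, m j, rfl, len_two hM⟩
  · exact ⟨_, m i, _, m j, (comm_of_two cs hM).symm, len_two hM⟩

theorem ex_fst (hM : M i j = 2) (hx : x ∈ X.Res {i, j} c) : ∃ p ∈ X.Res {i} c, x ∈ X.Res {j} p := by
  obtain ⟨u, hu, v, hv, e, hl⟩ := split_two hM hx
  obtain ⟨p, rfl, rfl⟩ := exists_mid e hl
  exact ⟨p, hu, hv⟩

theorem ex_co (hM : M i j = 2) (hx : x ∈ X.Res {i, j} c) : ∃ p q, Co X i j c x p q := by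
  obtain ⟨p, h1, h2⟩ := ex_fst hM hx
  obtain ⟨q, h3, h4⟩ := ex_fst (M.symmetric i j ▸ hM) (Set.pair_comm i j ▸ hx)
  exact ⟨p, q, h1, h3, h2, h4⟩

theorem ex_pt (hM : M i j = 2) (hp : p ∈ X.Res {i} c) (hq : q ∈ X.Res {j} c) : ∃ x, Co X i j c x p q := by
  obtain ⟨x, h1, h2⟩ := ex_fst (M.symmetric i j ▸ hM) (X.res_trans (res_mono (L := {j, i}) (by simp) p
    (X.res_symm hp)) (res_mono (by simp) c hq))
  exact ⟨x, hp, hq, h1, X.res_symm h2⟩

omit [Sph cs] [Finite W] in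
theorem co_left (hx : x ∈ X.Res {i} c) : Co X i j c x x c :=
  ⟨hx, X.self_mem_res _ _, X.self_mem_res _ _, hx⟩

omit [Finite W] in
theorem co_apt (hM : M i j = 2) (ha : X.IsApt {i, j} a) {u v : W} (hu : u ∈ coxPar cs {i})
    (hv : v ∈ coxPar cs {j}) : Co X i j (a 1) (a (u * v)) (a u) (a v) := by
  have hu' : u ∈ coxPar cs {i, j} := coxPar_mono cs (by simp) hu
  have hv' : v ∈ coxPar cs {i, j} := coxPar_mono cs (by simp) hv
  have e : u * v = v * u := by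
    rcases (mem_par_single cs).1 hu with rfl | rfl <;> rcases (mem_par_single cs).1 hv with rfl | rfl <;>
      simp [comm_of_two cs hM]
  refine ⟨(ha.mono (by simp)).mem_res hu, (ha.mono (by simp)).mem_res hv, ?_, ?_⟩
  · rwa [Res, Set.mem_setOf_eq, ha _ hu' _ (mul_mem hu' hv'), inv_mul_cancel_left]
  · rwa [Res, Set.mem_setOf_eq, ha _ hv' _ (mul_mem hu' hv'), e, inv_mul_cancel_left]

theorem two_adj {X' : Bd cs K' C'} (hM : M i j = 2) {c' : C'} {φ ψ χ : C → C'} (hφ : X.Iso X' {i} c c' φ)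
    (h : ∀ x p q, Co X i j c x p q → Co X' i j c' (χ x) (φ p) (ψ q)) (hx : x ∈ X.Res {i, j} c)
    (hy : y ∈ X.Res {i, j} c) (e : X.δ x y = cs.simple i) : X'.δ (χ x) (χ y) = cs.simple i := by
  have hij : i ≠ j := by rintro rfl; simp at hM
  obtain ⟨p, q, h1⟩ := ex_co hM hx
  obtain ⟨p', q', h2⟩ := ex_co hM hy
  obtain rfl := h1.symm.fst hij.symm h2.symm (mem_res_single.2 (Or.inr e))
  refine adj_of_mem (h _ _ _ h1).q2 (h _ _ _ h2).q2 fun e' => adj_ne e ?_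
  have h3 := (h _ _ _ h1).fst hij (h _ _ _ h2) (e' ▸ X'.self_mem_res _ _)
  obtain rfl : p = p' := X.eq_one.1 (by rw [← hφ.iso _ h1.p1 _ h2.p1, h3, X'.δ_self])
  exact h1.uniq hij h2

end IsoG

open IsoG

/-- Isomorphic root group sequences give isomorphic polygons. -/
theorem isoA_of_graph {X' : Bd cs K' C'} (hX : X.Mouf) (hX' : X'.Mouf) (hK : NoIso M K)
    (hK' : NoIso M K') (ha : X.IsApt K a) (ha' : X'.IsApt K' a') (hi : i ∈ K) (hj : j ∈ K)
    (hi' : i ∈ K') (hj' : j ∈ K') (hij : i ≠ j) {D : ℤ → Subgroup (Equiv.Perm C × Equiv.Perm C')}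
    (hD : Graph (M i j) (X.UZ a i j) (X'.UZ a' i j) D) : ∃ φ, X.IsoA X' {i, j} a a' φ ∧
      ∀ x ∈ D 0, φ (x.1 (a (cs.simple i))) = x.2 (a' (cs.simple i)) := by
  obtain ⟨H, hH⟩ := exists_subgroup_UP D 0 (M i j) fun l s h1 h2 => hD.comm l s h1 (by omega)
  have hH' : ∀ g, g ∈ H ↔ g ∈ UP D 0 (M i j) := fun g => by rw [← hH]; rfl
  have hJ : ({i, j} : Set B) ⊆ K := Set.insert_subset hi (Set.singleton_subset_iff.2 hj)
  have hJ' : ({i, j} : Set B) ⊆ K' := Set.insert_subset hi' (Set.singleton_subset_iff.2 hj')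
  have dH : ∀ l : ℤ, 0 ≤ l → l < M i j → D l ≤ H := fun l h1 h2 g hg => (hH' g).2
    (mem_UP_of_mem D (s := l.toNat) (by omega) 0 g (mem_U_congr (by omega) hg))
  have A : ∀ g ∈ H, g ∈ (fixer X a i j 0).prod (fixer X' a' i j 0) := fun g hg =>
    UP_le _ 0 (fun t h1 h2 x hx => by
      have := (hD.gr t h1 (by omega)).le x hx
      exact ⟨UZ_le hi hj hij (by omega) h1 this.1, UZ_le hi' hj' hij (by omega) h1 this.2⟩) g ((hH' g).1 hg)
  have A1 := fun g hg => (mem_fixer.1 (A g hg).1).1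
  have A2 := fun g hg => (mem_fixer.1 (A g hg).2).1
  have B1 : ∀ g ∈ H, g.1 (a 1) = a 1 := fun g hg => by simpa using (mem_fixer.1 (A g hg).1).2 0 le_rfl
  have F : ∀ g ∈ H, ∀ w ∈ coxPar cs {i, j}, g.1 (a w) = a w ↔ g.2 (a' w) = a' w := fun g hg w hw => by
    obtain ⟨n, hn, rfl | rfl⟩ := exists_alt cs hw
    · exact half hK hK' ha ha' hi hj hi' hj' hij hD.gr hn _ 0 (by omega) g ((hH' g).1 hg)
    · have := UP_inv ((M i j : ℤ) - 1) _ _ ((hH' _).1 (inv_mem hg))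
      rw [inv_inv, show (M i j : ℤ) - 1 - 0 - M i j + 1 = (0 : ℕ) by simp] at this
      refine half hK hK' ha ha' hj hi hj' hi' hij.symm (fun l h1 h2 => ?_) (M.symmetric i j ▸ hn) _ 0
        (by rw [M.symmetric j]; omega) g this
      rw [M.symmetric] at h2
      rw [UZ_symm hi hj hij, UZ_symm hi' hj' hij]
      exact hD.gr _ (by omega) (by omega)
  have T : ∀ x, ∃ g : Equiv.Perm C × Equiv.Perm C', x ∈ X.Res {i, j} (a 1) →
      g ∈ H ∧ g.1 (a (X.δ (a 1) x)) = x := fun x => by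
    by_cases hx : x ∈ X.Res {i, j} (a 1)
    · obtain ⟨_, ⟨g, hg, rfl⟩, e⟩ := trans2 hX ha hi hj hij (H := H.map (MonoidHom.fst _ _))
        (by rintro _ ⟨g, hg, rfl⟩; exact A1 g hg)
        (fun l h1 h2 u hu => ((hD.gr l h1 h2).fst u hu).elim fun u' e => ⟨_, dH l h1 h2 e, rfl⟩) hx
      exact ⟨g, fun _ => ⟨hg, e⟩⟩
    · exact ⟨1, fun h => absurd h hx⟩
  choose γ hγ using T
  have d1 : ∀ g ∈ H, ∀ w ∈ coxPar cs {i, j}, X.δ (a 1) (g.1 (a w)) = w := fun g hg w hw =>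
    δ_fix ha (coxPar_mono cs hJ hw) (A1 g hg) (B1 g hg)
  have E : ∀ g ∈ H, ∀ g' ∈ H, ∀ w ∈ coxPar cs {i, j}, g.1 (a w) = g'.1 (a w) ↔ g.2 (a' w) = g'.2 (a' w) :=
    fun g hg g' hg' w hw => by
      simpa [Equiv.symm_apply_eq] using F _ (mul_mem (inv_mem hg') hg) w hw
  obtain ⟨φ, S⟩ : ∃ φ : C → C', ∀ g ∈ H, ∀ w ∈ coxPar cs {i, j}, φ (g.1 (a w)) = g.2 (a' w) :=
    ⟨fun x => (γ x).2 (a' (X.δ (a 1) x)), fun g hg w hw => by
      have := hγ (g.1 (a w)) (show X.δ _ _ ∈ _ by rwa [d1 g hg w hw])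
      beta_reduce
      rw [d1 g hg w hw] at this ⊢
      exact (E _ this.1 g hg w hw).1 this.2⟩
  have up : ∀ x ∈ X.Res {i, j} (a 1), ∀ y, ∀ l ∈ ({i, j} : Set B), ¬ cs.IsRightDescent (X.δ (a 1) x) l →
      X.δ x y = cs.simple l → X'.δ (φ x) (φ y) = cs.simple l := fun x hx y l hl hd e => by
    obtain ⟨hg, e1⟩ := hγ y (X.mem_res_of_adj hx hl e)
    rw [step_up _ e hd] at e1
    have e2 := pred_eq ha (X.mem _ _) (hJ hl) hd (A1 _ hg) (B1 _ hg) rfl (by rw [e1, e])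
    have s1 := S _ hg _ (mul_mem hx (simple_mem_coxPar cs hl))
    have s2 := S _ hg _ hx
    rw [e1] at s1
    rw [e2] at s2
    rw [s1, s2, A2 _ hg, δ_adj ha' (coxPar_mono cs hJ' hx) (hJ' hl)]
  refine ⟨φ, ⟨⟨S 1 (one_mem _) 1 (one_mem _), isoOn_of_adj fun x hx y hy l hl e => ?_, fun x' hx' => ?_⟩,
    S 1 (one_mem _)⟩, fun x hx => S x (dH 0 le_rfl (by exact_mod_cast M_pos cs i j) hx) _
      (simple_mem_coxPar cs (by simp))⟩
  · by_cases hd : cs.IsRightDescent (X.δ (a 1) x) l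
    swap
    · exact up x hx y l hl hd e
    have hd' := cs.isRightDescent_iff_not_isRightDescent_mul.1 hd
    rcases X.step (a 1) e with h1 | ⟨h1, -⟩
    · exact adj_symm (up y hy x l hl (h1 ▸ hd') (adj_symm e))
    obtain ⟨p, h2, h3⟩ := exists_pred (simple_mul_simple_cancel_right cs l).symm hd'
    have hp := X.mem_res_of_adj hx hl (adj_symm h3)
    have h4 : X.δ p y = cs.simple l := adj_trans h3 e fun e' => by
      rw [e', h1] at h2
      exact simple_ne_one cs l (left_eq_mul.1 h2)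
    refine adj_trans (adj_symm (up p hp x l hl (h2 ▸ hd') h3)) (up p hp y l hl (h2 ▸ hd') h4) fun e' => adj_ne e ?_
    obtain ⟨g1, e1⟩ := hγ x hx
    obtain ⟨g2, e2⟩ := hγ y hy
    have s1 := S _ g1 _ hx
    have s2 := S _ g2 _ hx
    rw [h1] at e2
    rw [e1] at s1
    rw [e2] at s2
    rw [← e1, (E _ g1 _ g2 _ hx).2 (by rw [← s1, ← s2, e']), e2]
  · obtain ⟨_, ⟨g, hg, rfl⟩, e⟩ := trans2 hX' ha' hi' hj' hij (H := H.map (MonoidHom.snd _ _))
      (by rintro _ ⟨g, hg, rfl⟩; exact A2 g hg)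
      (fun l h1 h2 u hu => ((hD.gr l h1 h2).snd u hu).elim fun u' e => ⟨_, dH l h1 h2 e, rfl⟩) hx'
    exact ⟨_, by rw [Res, Set.mem_setOf_eq, d1 g hg _ hx']; exact hx', (S g hg _ hx').trans e⟩

/-- Generalised digons. -/
theorem isoA_two {X' : Bd cs K' C'} (hi : i ∈ K) (hj : j ∈ K) (hi' : i ∈ K') (hj' : j ∈ K')
    (hM : M i j = 2) (ha : X.IsApt {i, j} a) (ha' : X'.IsApt {i, j} a') {φ ψ : C → C'}
    (hφ : X.IsoA X' {i} a a' φ) (hψ : X.IsoA X' {j} a a' ψ) : ∃ χ, X.IsoA X' {i, j} a a' χ ∧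
      Set.EqOn χ φ (X.Res {i} (a 1)) ∧ Set.EqOn χ ψ (X.Res {j} (a 1)) := by
  have hij : i ≠ j := by rintro rfl; simp at hM
  have T : ∀ x, ∃ z, ∀ p q, Co X i j (a 1) x p q → Co X' i j (a' 1) z (φ p) (ψ q) := fun x => by
    by_cases hx : ∃ p q, Co X i j (a 1) x p q
    · obtain ⟨p, q, h⟩ := hx
      obtain ⟨z, hz⟩ := ex_pt hM (hφ.1.mem h.p1) (hψ.1.mem h.q1)
      exact ⟨z, fun p' q' h' => h.fst hij h' (X.self_mem_res _ _) ▸
        h.symm.fst hij.symm h'.symm (X.self_mem_res _ _) ▸ hz⟩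
    · exact ⟨a' 1, fun p q h => absurd ⟨p, q, h⟩ hx⟩
  choose χ S using T
  have e1 : Set.EqOn χ φ (X.Res {i} (a 1)) := fun x hx =>
    (S x _ _ (co_left hx)).uniq hij (by rw [hψ.1.base]; exact co_left (hφ.1.mem hx))
  have e2 : Set.EqOn χ ψ (X.Res {j} (a 1)) := fun x hx =>
    (S x _ _ (co_left hx).symm).uniq hij (by rw [hφ.1.base]; exact (co_left (hψ.1.mem hx)).symm)
  refine ⟨χ, ⟨⟨(e1 (X.self_mem_res _ _)).trans hφ.1.base, isoOn_of_adj fun x hx y hy l hl e => ?_,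
    fun x' hx' => ?_⟩, fun w hw => ?_⟩, e1, e2⟩
  · rcases hl with rfl | rfl
    · exact two_adj hM hφ.1 S hx hy e
    · exact two_adj (M.symmetric i l ▸ hM) hψ.1 (fun x p q h => (S x q p h.symm).symm)
        (Set.pair_comm i l ▸ hx) (Set.pair_comm i l ▸ hy) e
  · obtain ⟨p', q', h⟩ := ex_co hM hx'
    obtain ⟨p, hp, rfl⟩ := hφ.1.surj p' h.p1
    obtain ⟨q, hq, rfl⟩ := hψ.1.surj q' h.q1
    obtain ⟨x, hx⟩ := ex_pt hM hp hq
    exact ⟨x, hx.mem, (S x p q hx).uniq hij h⟩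
  · obtain ⟨u, hu, v, hv, rfl, -⟩ := split_two hM hw
    exact (S _ _ _ (co_apt hM ha hu hv)).uniq hij (by rw [hφ.2 u hu, hψ.2 v hv]; exact co_apt hM ha' hu hv)

end Cfsg.Agent.Bld.Bd
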