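import Mathlib
import Cfsg.Agent.Bld.Alg

/-! The quadrangle of a building of type `B₃`: the basic identities in coordinates. -/

set_option autoImplicit false
set_option linter.unusedSectionVars false

namespace Cfsg.Agent.Bld

open scoped commutatorElement

variable {Γ : Type*} [Group Γ] {U : ℤ → Subgroup Γ} {K : Type*} [Field K]
  {x0 x2 : K → Γ} {n e : Γ} {act : K → Γ → Γ} {π : Γ → K} {σ : K ≃+* K}

namespace IsPar

variable {A : Subgroup Γ} {x : K → Γ} (p : IsPar A x)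
include p

theorem q2_zero : x 0 = 1 := by
  have := p.add 0 0
  rw [add_zero] at this
  exact left_eq_mul.1 this

theorem q2_neg (a : K) : x (-a) = (x a)⁻¹ := eq_inv_of_mul_eq_one_left (by rw [← p.add, neg_add_cancel, p.q2_zero])

theorem q2_mem (a : K) : x a ∈ A := (p.mem _).2 ⟨a, rfl⟩

theorem q2_card : Nat.card A = Nat.card K :=
  (Nat.card_congr (Equiv.ofBijective (fun a => (⟨x a, p.q2_mem a⟩ : A))
    ⟨fun _ _ e => p.inj (congrArg Subtype.val e), fun g => by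
      obtain ⟨a, ha⟩ := (p.mem g).1 g.2
      exact ⟨a, Subtype.ext ha⟩⟩)).symm

end IsPar

namespace IsPoly

variable (h : IsPoly 4 U)
include h

theorem q2_adj (k : ℤ) {a b : Γ} (ha : a ∈ U k) (hb : b ∈ U (k + 1)) : Commute a b :=
  commutatorElement_eq_one_iff_commute.1 (h.comm k 0 (by norm_num) a ha b (by simpa using hb))

theorem q2_two (k : ℤ) {a b : Γ} (ha : a ∈ U k) (hb : b ∈ U (k + 2)) : ⁅a, b⁆ ∈ U (k + 1) :=
  mem_UP_one.1 (h.comm k 1 (by norm_num) a ha b (by simpa [add_assoc] using hb))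

theorem q2_uniq {a b a' b' : Γ} (ha : a ∈ U 1) (hb : b ∈ U 2) (ha' : a' ∈ U 1) (hb' : b' ∈ U 2)
    (e : a * b = a' * b') : a = a' ∧ b = b' := by
  have h1 : a'⁻¹ * a = 1 := h.uniq 1 _ (mul_mem (inv_mem ha') ha) (b * b'⁻¹)
    (mem_UP_succ.2 ⟨_, mul_mem hb (inv_mem hb'), 1, mem_UP_two.2 ⟨1, one_mem _, 1, one_mem _, mul_one _⟩, mul_one _⟩)
    (by rw [mul_assoc, ← mul_assoc a, e]; group)
  obtain rfl : a' = a := inv_mul_eq_one.1 h1
  exact ⟨rfl, mul_left_cancel e⟩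

end IsPoly

/-- The central elements of `U 3`. -/
def qz (x0 x2 : K → Γ) (n : Γ) (a : K) : Γ := n⁻¹ * ⁅x0 1, x2 a⁆ * n

/-- The polar form. -/
def qf (π : Γ → K) (v u : Γ) : K := π (u * v) - π u - π v

namespace QC

variable (h : IsPoly 4 U) (c : QC U x0 x2 n e act π σ)
include c

theorem ph {u : Γ} (hu : u ∈ U 3) : n * u * n⁻¹ ∈ U 1 := (c.n_mem u).1 hu

theorem act_un (t : K) : act t 1 = 1 := by
  have := c.act_mul t 1 (one_mem _) 1 (one_mem _)
  rw [mul_one] at this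
  exact left_eq_mul.1 this

theorem act_inv (t : K) {u : Γ} (hu : u ∈ U 3) : act t u⁻¹ = (act t u)⁻¹ :=
  eq_inv_of_mul_eq_one_left (by rw [← c.act_mul t _ (inv_mem hu) _ hu, inv_mul_cancel, c.act_un])

theorem ph_z (a : K) : n * qz x0 x2 n a * n⁻¹ = ⁅x0 1, x2 a⁆ := by rw [qz]; group

theorem gam (a b : K) : ⁅x0 a, x2 b⁆ = n * qz x0 x2 n (σ a * b) * n⁻¹ := by rw [c.ph_z, c.c02]

theorem act_z (t a : K) : act t (qz x0 x2 n a) = qz x0 x2 n (t * σ t * a) := by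
  rw [qz, c.c02', c.c02, qz]; congr 4; rw [mul_one]; ring

include h

theorem z_mem (a : K) : qz x0 x2 n a ∈ U 3 := by
  rw [c.n_mem, c.ph_z]
  exact h.q2_two 0 (c.p0.q2_mem 1) (c.p2.q2_mem a)

theorem z_comm (a : K) {u : Γ} (hu : u ∈ U 3) : Commute (qz x0 x2 n a) u := by
  have h0 : Commute (x0 1) (n * u * n⁻¹) := h.q2_adj 0 (c.p0.q2_mem 1) (c.ph hu)
  have h2 : Commute (x2 a) (n * u * n⁻¹) := (h.q2_adj 1 (c.ph hu) (c.p2.q2_mem a)).symm
  have : Commute ⁅x0 1, x2 a⁆ (n * u * n⁻¹) := ((h0.mul_left h2).mul_left h0.inv_left).mul_left h2.inv_left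
  have k := this.eq
  rw [← c.ph_z, conj_mul, conj_mul] at k
  exact mul_left_cancel (mul_right_cancel k)

theorem z_add (a b : K) : qz x0 x2 n (a + b) = qz x0 x2 n a * qz x0 x2 n b := by
  have := (h.q2_adj 1 (c.ph (c.z_mem h b)) (c.p2.q2_mem a)).eq
  rw [c.ph_z] at this
  have k : ⁅x0 1, x2 (a + b)⁆ = ⁅x0 1, x2 a⁆ * (x2 a * ⁅x0 1, x2 b⁆) * (x2 a)⁻¹ := by
    rw [c.p2.add]; simp only [commutatorElement_def]; group
  rw [qz, k, ← this, qz, qz]; group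

theorem z_zero : qz x0 x2 n 0 = 1 := by rw [qz, c.p2.q2_zero]; simp

theorem z_neg (a : K) : qz x0 x2 n (-a) = (qz x0 x2 n a)⁻¹ :=
  eq_inv_of_mul_eq_one_left (by rw [← c.z_add h, neg_add_cancel, c.z_zero h])

theorem π_one : π 1 = 0 := by
  have := c.c03 1 1 (one_mem _)
  rw [c.act_un] at this
  simp only [commutatorElement_one_right, mul_one, mul_inv_cancel, one_mul] at this
  exact c.p2.inj (by rw [← this, c.p2.q2_zero])

theorem π_eq {u : Γ} (hu : u ∈ U 3) : π u = 0 ↔ u = 1 :=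
  ⟨fun k => by_contra fun k' => c.π_ne u hu k' k, fun k => k ▸ c.π_one h⟩

theorem act_zero {u : Γ} (hu : u ∈ U 3) : act 0 u = 1 := by
  have := c.c03 0 u hu
  rw [mul_zero, c.p0.q2_zero, c.p2.q2_zero] at this
  simpa [mul_inv_eq_iff_eq_mul] using this.symm

/-- E1. -/
theorem act_add (s t : K) {u : Γ} (hu : u ∈ U 3) :
    act (s + t) u = act t u * act s u * qz x0 x2 n (σ s * (π u * t)) := by
  have ht := c.ph (c.act_mem t u hu)
  have hs := c.ph (c.act_mem s u hu)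
  have hz := c.ph (c.z_mem h (σ s * (π u * t)))
  have k : ⁅x0 (s + t), u⁆ = x0 s * ⁅x0 t, u⁆ * (x0 s)⁻¹ * ⁅x0 s, u⁆ := by
    rw [c.p0.add]; simp only [commutatorElement_def]; group
  have k1 : x0 s * (n * act t u * n⁻¹ * x2 (π u * t)) * (x0 s)⁻¹ =
      n * act t u * n⁻¹ * (⁅x0 s, x2 (π u * t)⁆ * x2 (π u * t)) := by
    rw [← mul_assoc, (h.q2_adj 0 (c.p0.q2_mem s) ht).eq, commutatorElement_def]; group
  rw [c.c03 _ u hu, c.c03 _ u hu, c.c03 _ u hu, k1, c.gam] at k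
  have k2 : n * act t u * n⁻¹ * (n * qz x0 x2 n (σ s * (π u * t)) * n⁻¹ * x2 (π u * t)) *
      (n * act s u * n⁻¹ * x2 (π u * s)) =
      n * (act t u * act s u * qz x0 x2 n (σ s * (π u * t))) * n⁻¹ * x2 (π u * t + π u * s) := by
    rw [c.p2.add, mul_assoc (act t u), ← (c.z_comm h _ (c.act_mem s u hu)).eq]
    have := (h.q2_adj 1 hs (c.p2.q2_mem (π u * t))).eq
    calc _ = n * act t u * n⁻¹ * (n * qz x0 x2 n (σ s * (π u * t)) * n⁻¹) * (x2 (π u * t) * (n * act s u * n⁻¹)) *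
          x2 (π u * s) := by group
      _ = _ := by rw [← this]; group
  rw [k2] at k
  have := (h.q2_uniq (c.ph (c.act_mem _ u hu)) (c.p2.q2_mem _) (c.ph (mul_mem (mul_mem (c.act_mem t u hu)
    (c.act_mem s u hu)) (c.z_mem h _))) (c.p2.q2_mem _) k).1
  simpa using this

/-- E2. -/
theorem c13' {u v : Γ} (hu : u ∈ U 3) (hv : v ∈ U 3) : ⁅n * v * n⁻¹, u⁆ = x2 (-qf π v u) := by
  obtain ⟨b, hb⟩ := (c.p2.mem _).1 (h.q2_two 1 (c.ph hv) hu)
  have k : ⁅x0 1, u * v⁆ = ⁅x0 1, u⁆ * (u * ⁅x0 1, v⁆ * u⁻¹) := by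
    simp only [commutatorElement_def]; group
  rw [c.c03 _ u hu, c.c03 _ v hv, c.c03 _ _ (mul_mem hu hv), c.act_one u hu, c.act_one v hv,
    c.act_one _ (mul_mem hu hv), mul_one, mul_one, mul_one] at k
  have k1 : u * (n * v * n⁻¹ * x2 (π v)) * u⁻¹ = x2 (-b) * (n * v * n⁻¹) * x2 (π v) := by
    rw [c.p2.q2_neg, hb, mul_assoc u, mul_assoc _ (x2 _), (h.q2_adj 2 (c.p2.q2_mem (π v)) (inv_mem hu)).eq,
      commutatorElement_def]
    group
  have k2 : n * u * n⁻¹ * x2 (π u) * (x2 (-b) * (n * v * n⁻¹) * x2 (π v)) =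
      n * (u * v) * n⁻¹ * x2 (π u + -b + π v) := by
    rw [c.p2.add, c.p2.add]
    have := (h.q2_adj 1 (c.ph hv) (mul_mem (c.p2.q2_mem (π u)) (c.p2.q2_mem (-b)))).eq
    calc _ = n * u * n⁻¹ * (x2 (π u) * x2 (-b) * (n * v * n⁻¹)) * x2 (π v) := by group
      _ = _ := by rw [← this]; group
  rw [k1, k2] at k
  have := c.p2.inj (mul_left_cancel k)
  rw [← hb, qf, this]; congr 1; ring

theorem π_mul (u v : Γ) : π (u * v) = π u + π v + qf π v u := by rw [qf]; ring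

theorem f_act (t : K) {u v : Γ} (hu : u ∈ U 3) (hv : v ∈ U 3) : qf π (act t v) u = t * qf π v u := by
  have := c.c13 t _ u hu v hv (c.c13' h hu hv)
  rw [c.c13' h hu (c.act_mem t v hv)] at this
  linear_combination -c.p2.inj this

theorem f_mul_left {u v w : Γ} (hu : u ∈ U 3) (hv : v ∈ U 3) (hw : w ∈ U 3) :
    qf π (v * w) u = qf π v u + qf π w u := by
  have k : ⁅n * (v * w) * n⁻¹, u⁆ = n * v * n⁻¹ * ⁅n * w * n⁻¹, u⁆ * (n * v * n⁻¹)⁻¹ * ⁅n * v * n⁻¹, u⁆ := by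
    simp only [commutatorElement_def]; group
  rw [c.c13' h hu hv, c.c13' h hu hw, c.c13' h hu (mul_mem hv hw), (h.q2_adj 1 (c.ph hv) (c.p2.q2_mem _)).eq,
    mul_inv_cancel_right, ← c.p2.add] at k
  linear_combination -c.p2.inj k

theorem f_mul_right {u v w : Γ} (hu : u ∈ U 3) (hv : v ∈ U 3) (hw : w ∈ U 3) :
    qf π v (u * w) = qf π v u + qf π v w := by
  have k : ⁅n * v * n⁻¹, u * w⁆ = ⁅n * v * n⁻¹, u⁆ * (u * ⁅n * v * n⁻¹, w⁆ * u⁻¹) := by
    simp only [commutatorElement_def]; group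
  rw [c.c13' h hu hv, c.c13' h hw hv, c.c13' h (mul_mem hu hw) hv, ← (h.q2_adj 2 (c.p2.q2_mem _) hu).eq,
    mul_inv_cancel_right, ← c.p2.add] at k
  linear_combination -c.p2.inj k

theorem f_one_left (u : Γ) : qf π 1 u = 0 := by rw [qf, mul_one, c.π_one h]; ring

theorem f_one_right (u : Γ) : qf π u 1 = 0 := by rw [qf, one_mul, c.π_one h]; ring

theorem f_z_left (a : K) {u : Γ} (hu : u ∈ U 3) : qf π (qz x0 x2 n a) u = 0 := by
  have k := congrArg (qf π · u) (c.act_add h 1 a c.e_mem)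
  have m1 := c.act_mem a e c.e_mem
  have m2 := c.act_mem 1 e c.e_mem
  simp only [c.f_mul_left h hu (mul_mem m1 m2) (c.z_mem h _), c.f_mul_left h hu m1 m2, c.f_act h _ hu c.e_mem,
    map_one, c.π_e, one_mul] at k
  linear_combination -k

theorem f_z_right (a : K) {u : Γ} (hu : u ∈ U 3) : qf π u (qz x0 x2 n a) = 0 := by
  rw [← c.f_z_left h a hu, qf, qf, (c.z_comm h a hu).eq]; ring

theorem π_mul_z (a : K) {u : Γ} (hu : u ∈ U 3) : π (u * qz x0 x2 n a) = π u + π (qz x0 x2 n a) := by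
  rw [c.π_mul h, c.f_z_left h a hu, add_zero]

end QC

end Cfsg.Agent.Bld
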