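import Mathlib
import Cfsg.Agent.Bld.Poly
import Cfsg.Agent.Perm.AltRing

/-! Finite Moufang triangles are coordinatised by fields (for S1143). -/

set_option autoImplicit false

namespace Cfsg.Agent.Bld

universe u

open scoped commutatorElement

section Abs

/-- A finite nondegenerate biadditive map with the closure property comes from a field. -/
theorem exists_field_of_closure {P : Type u} {Q R : Type*} [Group P] [Group Q] [Group R] [Finite R]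
    (hR : ∀ a b : R, a * b = b * a) (μ : P → Q → R)
    (hl : ∀ p p' q, μ (p * p') q = μ p q * μ p' q) (hr : ∀ p q q', μ p (q * q') = μ p q * μ p q')
    (bl : ∀ p, p ≠ 1 → Function.Bijective (μ p))
    (br : ∀ q, q ≠ 1 → Function.Bijective (fun p => μ p q)) (p₀ : P) (h₀ : p₀ ≠ 1) (q₀ : Q)
    (hq₀ : q₀ ≠ 1) (hc : ∀ p p'', ∃ p', ∀ q q', μ p₀ q' = μ p'' q → μ p q' = μ p' q) :
    ∃ (K : Type u) (_ : Field K) (x0 : K ≃ P) (x1 : K ≃ R) (x2 : K ≃ Q),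
      (∀ a b, x0 (a + b) = x0 a * x0 b) ∧ (∀ a b, x1 (a + b) = x1 a * x1 b) ∧
      (∀ a b, x2 (a + b) = x2 a * x2 b) ∧ (∀ a b, μ (x0 a) (x2 b) = x1 (a * b)) ∧ x0 1 = p₀ := by
  have one_l : ∀ q, μ 1 q = 1 := fun q => by simpa using hl 1 1 q
  have one_r : ∀ p, μ p 1 = 1 := fun p => by simpa using hr p 1 1
  let lam : P ≃ R := Equiv.ofBijective _ (br q₀ hq₀)
  let rho : Q ≃ R := Equiv.ofBijective _ (bl p₀ h₀)
  have hlam0 : ∀ p, lam p = μ p q₀ := fun _ => rfl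
  have hlam : ∀ r, μ (lam.symm r) q₀ = r := lam.apply_symm_apply
  have hrho : ∀ r, μ p₀ (rho.symm r) = r := rho.apply_symm_apply
  have hlam' : ∀ p, lam.symm (μ p q₀) = p := lam.symm_apply_apply
  have hrho' : ∀ q, rho.symm (μ p₀ q) = q := rho.symm_apply_apply
  have lam_mul : ∀ r s, lam.symm (r * s) = lam.symm r * lam.symm s := fun r s => by
    rw [← hlam' (lam.symm r * lam.symm s), hl, hlam, hlam]
  have rho_mul : ∀ r s, rho.symm (r * s) = rho.symm r * rho.symm s := fun r s => by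
    rw [← hrho' (rho.symm r * rho.symm s), hr, hrho, hrho]
  have lam_one : lam.symm 1 = 1 := by rw [← hlam' 1, one_l]
  have rho_one : rho.symm 1 = 1 := by rw [← hrho' 1, one_r]
  have hP : ∀ a b : P, a * b = b * a := fun a b => lam.injective (by
    rw [hlam0, hlam0, hl, hl, hR])
  let _i : CommGroup P := { (inferInstance : Group P) with mul_comm := hP }
  let _j : NonAssocRing (Additive P) :=
    { (inferInstance : AddCommGroup (Additive P)) with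
      mul := fun x y => Additive.ofMul (lam.symm (μ x.toMul (rho.symm (μ y.toMul q₀))))
      one := Additive.ofMul p₀
      left_distrib := fun x y z => by
        change lam.symm (μ _ (rho.symm (μ (y.toMul * z.toMul) q₀))) = lam.symm _ * lam.symm _
        rw [hl, rho_mul, hr, lam_mul]
      right_distrib := fun x y z => by
        change lam.symm (μ (x.toMul * y.toMul) _) = lam.symm _ * lam.symm _
        rw [hl, lam_mul]
      zero_mul := fun x => by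
        change lam.symm (μ 1 _) = 1
        rw [one_l, lam_one]
      mul_zero := fun x => by
        change lam.symm (μ _ (rho.symm (μ 1 q₀))) = 1
        rw [one_l, rho_one, one_r, lam_one]
      one_mul := fun x => by
        change lam.symm (μ p₀ (rho.symm (μ x.toMul q₀))) = x.toMul
        rw [hrho, hlam']
      mul_one := fun x => by
        change lam.symm (μ x.toMul (rho.symm (μ p₀ q₀))) = x.toMul
        rw [hrho', hlam'] }
  have hmul : ∀ x y : Additive P,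
      (x * y).toMul = lam.symm (μ x.toMul (rho.symm (μ y.toMul q₀))) := fun _ _ => rfl
  let _k : Ring (Additive P) :=
    { _j with
      mul_assoc := fun x y z => by
        apply Additive.toMul.injective
        obtain ⟨p', hp'⟩ := hc x.toMul y.toMul
        simp only [hmul]
        rw [hp' q₀ _ (hrho _), hlam', hlam, hp' _ _ (hrho _)] }
  have hnz : NoZeroDivisors (Additive P) := ⟨fun {a b} e => by
    have e' : lam.symm (μ a.toMul (rho.symm (μ b.toMul q₀))) = 1 := e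
    by_cases ha : a.toMul = 1
    · exact Or.inl ha
    · right
      change b.toMul = 1
      have e1 : μ a.toMul (rho.symm (μ b.toMul q₀)) = μ a.toMul 1 := by
        rw [← hlam (μ a.toMul _), e', one_l, one_r]
      rw [← hlam' b.toMul, ← hrho (μ b.toMul q₀), (bl _ ha).1 e1, one_r, lam_one]⟩
  have : Nontrivial (Additive P) := ⟨⟨Additive.ofMul p₀, 0, h₀⟩⟩
  have : IsDomain (Additive P) := NoZeroDivisors.to_isDomain _
  have : Finite P := Finite.of_equiv _ lam.symm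
  have : Finite (Additive P) := inferInstanceAs (Finite P)
  refine ⟨Additive P, (Finite.isDomain_to_isField (Additive P)).toField, Additive.toMul,
    Additive.toMul.trans lam, (Additive.toMul.trans lam).trans rho.symm, fun _ _ => rfl,
    fun a b => hl _ _ _, fun a b => ?_, fun a b => ?_, rfl⟩
  · change rho.symm (μ (a.toMul * b.toMul) q₀) = rho.symm _ * rho.symm _
    rw [hl, rho_mul]; rfl
  · change μ a.toMul (rho.symm (μ b.toMul q₀)) = μ (lam.symm _) q₀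
    rw [hlam]

/-- An additive map of fields with Hua's property is multiplicative. -/
theorem map_mul_of_hua {K K' : Type*} [Field K] [Field K'] [Finite K] (β : K ≃+ K') (h1 : β 1 = 1)
    (h : ∀ a s, β (a ^ 2 * s) = β a ^ 2 * β s) (a b : K) : β (a * b) = β a * β b := by
  by_cases h2 : (2 : K') = 0
  · have h3 : (2 : K) = 0 := β.injective (by
      rw [← one_add_one_eq_two, map_add, h1, map_zero, one_add_one_eq_two, h2])
    have h4 : Function.Injective fun x : K => x ^ 2 := fun x y e => by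
      have e' : x ^ 2 = y ^ 2 := e
      have : (x - y) ^ 2 = 0 := by linear_combination e' + (y ^ 2 - x * y) * h3
      exact sub_eq_zero.1 (pow_eq_zero_iff two_ne_zero |>.1 this)
    obtain ⟨c, rfl⟩ := Finite.surjective_of_injective h4 a
    have := h c 1
    rw [mul_one, h1, mul_one] at this
    simp only [h, this]
  · have e1 := h (a + b) 1
    have e2 := h a 1
    have e3 := h b 1
    rw [mul_one, h1, mul_one] at e1 e2 e3
    rw [show (a + b) ^ 2 = a ^ 2 + a * b + a * b + b ^ 2 by ring] at e1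
    simp only [map_add, e2, e3] at e1
    exact mul_left_cancel₀ h2 (by linear_combination e1)

end Abs

section Gen

variable {Γ : Type*} [Group Γ] {U : ℤ → Subgroup Γ} {k : ℤ} {a b m : Γ}

theorem IsPoly.exists_ne {n : ℕ} (h : IsPoly n U) (k : ℤ) : ∃ z ∈ U k, z ≠ 1 := by
  by_contra! H
  exact h.nt k ((Subgroup.eq_bot_iff_forall _).2 H)

theorem IsPoly.isMu_rev (h : IsPoly 3 U) (c : ℤ) :
    IsMu (fun l => U (c - l)) 3 k a m ↔ IsMu U 3 (c - k) a m := by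
  have e1 : U (c - (k + (3 : ℕ))) = U (c - k + (3 : ℕ)) := by
    rw [← h.per (c - (k + (3 : ℕ)))]; congr 1; push_cast; ring
  have e2 : ∀ l, U (c - (2 * k + (3 : ℕ) - l)) = U (2 * (c - k) + (3 : ℕ) - (c - l)) := fun l => by
    rw [← h.per (c - (2 * k + (3 : ℕ) - l))]; congr 1; push_cast; ring
  simp only [IsMu, e1, e2]
  refine and_congr_right fun _ => ⟨fun H l b => ?_, fun H l b => H _ b⟩
  simpa using H (c - l) b

theorem IsPoly.rev (h : IsPoly 3 U) (c : ℤ) : IsPoly 3 (fun l => U (c - l)) where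
  per k := by rw [← h.per (c - (k + 2 * (3 : ℕ)))]; congr 1; ring
  nt k := h.nt _
  comm k r hr a ha b hb := by
    obtain rfl | rfl : r = 0 ∨ r = 1 := by omega
    · exact commutatorElement_eq_one_iff_mul_comm.2
        (h.comm0 (by omega) (by push_cast; ring) hb ha).symm
    · rw [mem_UP_one, ← commutatorElement_inv]
      exact inv_mem (h.comm1 (by omega) (by push_cast; ring) (by push_cast; ring) hb ha)
  uniq k a ha b hb e := by
    obtain ⟨b1, h1, b2, h2, rfl⟩ := mem_UP_two.1 hb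
    have e1 : b2⁻¹ * b1⁻¹ * a⁻¹ = 1 := by rw [← mul_inv_rev, ← mul_inv_rev, e, inv_one]
    have e2 := h.uniq3 (by omega) (by ring) (by ring) (inv_mem h2) (inv_mem h1) (inv_mem ha) e1
    rw [e2, one_mul] at e1
    have e3 := h.uniq2 (by omega) (by ring) (inv_mem h1) (inv_mem ha) e1
    rw [e3, one_mul] at e1
    exact inv_eq_one.1 e1
  mu k a ha h1 := (h.mu _ a ha h1).imp fun _ hm => (h.isMu_rev c).2 hm

theorem IsPoly.tri_mem (h : IsPoly 3 U) (ha : a ∈ U k) (hb : b ∈ U (k + 2)) : ⁅a, b⁆ ∈ U (k + 1) :=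
  h.comm1 (by omega) rfl rfl ha hb

theorem IsPoly.tri_surj (h : IsPoly 3 U) (ha : a ∈ U k) (h1 : a ≠ 1) {z : Γ} (hz : z ∈ U (k + 1)) :
    ∃ b ∈ U (k + 2), ⁅a, b⁆ = z := by
  obtain ⟨m, hm⟩ := h.mu k a ha h1
  have hb : m⁻¹ * z * m ∈ U (k + 2) := hm.conj_mem' (by push_cast; ring) hz
  exact ⟨_, hb, by rw [h.m4_three ha hb hm]; group⟩

theorem IsPoly.tri_surj' (h : IsPoly 3 U) (hb : b ∈ U (k + 2)) (h1 : b ≠ 1) {z : Γ}
    (hz : z ∈ U (k + 1)) : ∃ a ∈ U k, ⁅a, b⁆ = z := by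
  obtain ⟨m, hm⟩ := h.mu _ b hb h1
  have ha : m⁻¹ * z⁻¹ * m ∈ U k := hm.conj_mem' (l := k + 1 + 2 * (3 : ℕ)) (by push_cast; ring)
    ((h.per_mem rfl).2 (inv_mem hz))
  exact ⟨_, ha, by rw [h.m4_three' ha hb hm]; group⟩

theorem IsPoly.tri_inj (h : IsPoly 3 U) (ha : a ∈ U k) (h1 : a ≠ 1) (hb : b ∈ U (k + 2)) {b' : Γ}
    (hb' : b' ∈ U (k + 2)) (e : ⁅a, b⁆ = ⁅a, b'⁆) : b = b' := by
  obtain ⟨m, hm⟩ := h.mu k a ha h1
  simpa [h.m4_three ha hb hm, h.m4_three ha hb' hm] using e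

theorem IsPoly.tri_inj' (h : IsPoly 3 U) (hb : b ∈ U (k + 2)) (h1 : b ≠ 1) (ha : a ∈ U k) {a' : Γ}
    (ha' : a' ∈ U k) (e : ⁅a, b⁆ = ⁅a', b⁆) : a = a' := by
  obtain ⟨m, hm⟩ := h.mu _ b hb h1
  simpa [h.m4_three' ha hb hm, h.m4_three' ha' hb hm] using e

theorem IsPoly.tri_abel (h : IsPoly 3 U) (ha : a ∈ U k) (hb : b ∈ U k) : a * b = b * a := by
  obtain ⟨p, hp, h1⟩ := h.exists_ne (k - 1)
  obtain ⟨q, hq, rfl⟩ := h.tri_surj hp h1 (z := a) (by simpa using ha)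
  have e1 : Commute p b := h.comm0 (by omega) (by ring) hp hb
  have e2 : Commute q b := (h.comm0 (by omega) (by ring) hb hq).symm
  exact ((e1.mul_left e2).mul_left e1.inv_left).mul_left e2.inv_left

theorem IsPoly.tri_mul_left (h : IsPoly 3 U) (ha : a ∈ U k) {a' : Γ} (ha' : a' ∈ U k)
    (hb : b ∈ U (k + 2)) : ⁅a * a', b⁆ = ⁅a, b⁆ * ⁅a', b⁆ := by
  have e1 := h.comm0 (by omega) rfl ha (h.tri_mem ha' hb)
  rw [h.tri_abel (h.tri_mem ha hb) (h.tri_mem ha' hb)]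
  calc ⁅a * a', b⁆ = a * ⁅a', b⁆ * a⁻¹ * ⁅a, b⁆ := by simp only [commutatorElement_def]; group
    _ = _ := by rw [e1]; group

theorem IsPoly.tri_mul_right (h : IsPoly 3 U) (ha : a ∈ U k) (hb : b ∈ U (k + 2)) {b' : Γ}
    (hb' : b' ∈ U (k + 2)) : ⁅a, b * b'⁆ = ⁅a, b⁆ * ⁅a, b'⁆ := by
  have e1 := h.comm0 (by omega) (by ring) (h.tri_mem ha hb') hb
  calc ⁅a, b * b'⁆ = ⁅a, b⁆ * (b * ⁅a, b'⁆) * b⁻¹ := by simp only [commutatorElement_def]; group
    _ = _ := by rw [← e1]; group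

theorem IsPoly.mu_sq (h : IsPoly 3 U) (ha : a ∈ U k) (hb : b ∈ U (k + 2)) (hm : IsMu U 3 k a m) :
    m * ⁅a, b⁆ * m⁻¹ = b⁻¹ := by
  obtain ⟨x, hx, y, hy, e⟩ := hm.1
  have hr := h.tri_mem ha hb
  have hx' : x ∈ U (k + 1 + 2) := mem_U_congr (by push_cast; ring) hx
  have hmx : IsMu U 3 (k + 1 + 2) x m := by
    have := (h.mu_left ha hm hx hy e).1
    rwa [show k + ((3 : ℕ) : ℤ) = k + 1 + 2 by push_cast; ring] at this
  have h1 : b * y = y * b := h.comm0 (by omega) (by push_cast; ring) hb hy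
  have h2 : b * x = x * b := h.comm0 (by omega) (by push_cast; ring) hb hx
  have h5 : ⁅a, b⁆ * b = b * ⁅a, b⁆ := h.comm0 (by omega) (by ring) hr hb
  have h3 : y * b * y⁻¹ = b := by rw [← h1]; group
  have h4 : x * b * x⁻¹ = b := by rw [← h2]; group
  have key : ⁅a, b⁆ = x * ⁅a, b⁆ * x⁻¹ * b := by
    calc ⁅a, b⁆ = m * b * m⁻¹ := h.m4_three ha hb hm
      _ = x * a * (y * b * y⁻¹) * a⁻¹ * x⁻¹ := by rw [e]; group
      _ = x * ⁅a, b⁆ * x⁻¹ * (x * b * x⁻¹) := by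
        rw [h3]; simp only [commutatorElement_def]; group
      _ = _ := by rw [h4]
  have k2 : ⁅⁅a, b⁆, x⁆ = b := by
    calc ⁅⁅a, b⁆, x⁆ = ⁅a, b⁆ * b * (x * ⁅a, b⁆ * x⁻¹ * b)⁻¹ := by
          rw [commutatorElement_def ⁅a, b⁆]; group
      _ = _ := by rw [← key, h5]; group
  rw [← inv_inj, ← h.m4_three' hr hx' hmx, k2, inv_inv]

theorem IsPoly.mu_sq' (h : IsPoly 3 U) (ha : a ∈ U k) (hb : b ∈ U (k + 2))
    (hm : IsMu U 3 (k + 2) b m) : m * ⁅a, b⁆ * m⁻¹ = a := by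
  have := (h.rev (k + 2)).mu_sq (k := 0) (a := b) (b := a) (m := m) (by simpa using hb)
    (by simpa using ha) ((h.isMu_rev _).2 (by simpa using hm))
  rw [← inv_inj, ← this, ← commutatorElement_inv a b]
  group

/-- The commutator map of a triangle. -/
def IsPoly.cm (h : IsPoly 3 U) (k : ℤ) (p : U k) (q : U (k + 2)) : U (k + 1) :=
  ⟨⁅(p : Γ), (q : Γ)⁆, h.tri_mem p.2 q.2⟩

theorem IsPoly.cm_left (h : IsPoly 3 U) (p p' : U k) (q : U (k + 2)) :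
    h.cm k (p * p') q = h.cm k p q * h.cm k p' q := Subtype.ext (h.tri_mul_left p.2 p'.2 q.2)

theorem IsPoly.cm_right (h : IsPoly 3 U) (p : U k) (q q' : U (k + 2)) :
    h.cm k p (q * q') = h.cm k p q * h.cm k p q' := Subtype.ext (h.tri_mul_right p.2 q.2 q'.2)

theorem IsPoly.cm_bl (h : IsPoly 3 U) (p : U k) (hp : p ≠ 1) : Function.Bijective (h.cm k p) := by
  have h1 : (p : Γ) ≠ 1 := fun e => hp (Subtype.ext e)
  refine ⟨fun q q' e => Subtype.ext (h.tri_inj p.2 h1 q.2 q'.2 (congrArg Subtype.val e)),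
    fun z => ?_⟩
  obtain ⟨b, hb, e⟩ := h.tri_surj p.2 h1 z.2
  exact ⟨⟨b, hb⟩, Subtype.ext e⟩

theorem IsPoly.cm_br (h : IsPoly 3 U) (q : U (k + 2)) (hq : q ≠ 1) :
    Function.Bijective (fun p => h.cm k p q) := by
  have h1 : (q : Γ) ≠ 1 := fun e => hq (Subtype.ext e)
  refine ⟨fun p p' e => Subtype.ext (h.tri_inj' q.2 h1 p.2 p'.2 (congrArg Subtype.val e)),
    fun z => ?_⟩
  obtain ⟨b, hb, e⟩ := h.tri_surj' q.2 h1 z.2
  exact ⟨⟨b, hb⟩, Subtype.ext e⟩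

theorem IsPoly.tri_hua (h : IsPoly 3 U) (p p₀ : U k) (h₀ : p₀ ≠ 1) :
    ∃ p', ∀ q q', h.cm k p₀ q' = h.cm k p q → h.cm k p q' = h.cm k p' q := by
  have e2 : k + 1 + 1 = k + 2 := by ring
  have e3 : k + ((3 : ℕ) : ℤ) = k + 1 + 2 := by push_cast; ring
  have key : ∀ (p : U k) (b : U (k + 1 + 2)) (m : Γ), IsMu U 3 k p m →
      IsMu U 3 (k + 1 + 2) b m⁻¹ → ∀ q : U (k + 2), ⁅(h.cm k p q : Γ), (b : Γ)⁆⁻¹ = q := by
    intro p b m h1 h2 q
    rw [h.m4_three' (h.cm k p q).2 b.2 h2]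
    change (m⁻¹ * ⁅(p : Γ), (q : Γ)⁆ * m⁻¹⁻¹)⁻¹⁻¹ = q
    rw [h.m4_three p.2 q.2 h1]
    group
  refine Perm.Alt.hua (B := U (k + 1 + 2)) (h.cm k)
    (fun b r => ⟨⁅(r : Γ), (b : Γ)⁆⁻¹, inv_mem (mem_U_congr e2 (h.tri_mem r.2 b.2))⟩) h.cm_left
    h.cm_right (fun b b' r => Subtype.ext ?_) h.cm_bl (fun p hp => ?_) (fun b ⟨r, hr⟩ => ?_) p p₀ h₀
  · change ⁅(r : Γ), (b : Γ) * b'⁆⁻¹ = ⁅(r : Γ), (b : Γ)⁆⁻¹ * ⁅(r : Γ), (b' : Γ)⁆⁻¹
    rw [h.tri_mul_right r.2 b.2 b'.2, h.tri_abel (h.tri_mem r.2 b.2) (h.tri_mem r.2 b'.2),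
      mul_inv_rev]
  · obtain ⟨m, hm⟩ := h.mu k p p.2 fun e => hp (Subtype.ext e)
    obtain ⟨x, hx, y, hy, e⟩ := hm.1
    have := (h.mu_left p.2 hm hx hy e).2.inv
    rw [e3] at this hy
    exact ⟨⟨y⁻¹, inv_mem hy⟩, fun q => Subtype.ext (key p _ m hm this q)⟩
  · obtain ⟨m, hm⟩ := h.mu _ b b.2 fun e => hr (Subtype.ext (by simp [e]))
    obtain ⟨x, hx, y, hy, e⟩ := hm.1
    have := ((h.isMu_per (l := k) (by push_cast; ring)).1 (h.mu_left b.2 hm hx hy e).2).inv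
    replace hy : y ∈ U k := (h.per_mem (by push_cast; ring)).1 hy
    exact ⟨⟨y⁻¹, inv_mem hy⟩, fun q => Subtype.ext (key _ b m⁻¹ this (by rwa [inv_inv]) q)⟩

theorem IsPoly.tri_hua' (h : IsPoly 3 U) (q q₀ : U (k + 2)) (h₀ : q₀ ≠ 1) :
    ∃ q', ∀ p p', h.cm k p' q₀ = h.cm k p q → h.cm k p' q = h.cm k p q' := by
  obtain ⟨q', hq'⟩ := (h.rev (k + 2)).tri_hua (k := 0) ⟨q, by simp⟩ ⟨q₀, by simp⟩
    fun e => h₀ (Subtype.ext (Subtype.ext_iff.1 e :))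
  refine ⟨⟨q', by simpa using q'.2⟩, fun p p' e => Subtype.ext ?_⟩
  have := congrArg Subtype.val (hq' ⟨p, by simp⟩ ⟨p', by simp⟩ (Subtype.ext (by
    change ⁅(q₀ : Γ), (p' : Γ)⁆ = ⁅(q : Γ), (p : Γ)⁆
    rw [← commutatorElement_inv, ← commutatorElement_inv (p : Γ)]
    exact congrArg (·⁻¹) (congrArg Subtype.val e))))
  change ⁅(p' : Γ), (q : Γ)⁆ = ⁅(p : Γ), (q' : Γ)⁆
  rw [← commutatorElement_inv, ← commutatorElement_inv (q' : Γ)]
  exact congrArg (·⁻¹) this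

namespace IsPar

variable {K : Type*} [Field K] {A : Subgroup Γ} {x : K → Γ}

theorem zero (h : IsPar A x) : x 0 = 1 := by simpa using h.add 0 0

theorem neg (h : IsPar A x) (a : K) : x (-a) = (x a)⁻¹ :=
  eq_inv_of_mul_eq_one_left (by rw [← h.add, neg_add_cancel, h.zero])

theorem apply_mem (h : IsPar A x) (a : K) : x a ∈ A := (h.mem _).2 ⟨a, rfl⟩

theorem eq_one (h : IsPar A x) {a : K} : x a = 1 ↔ a = 0 := by rw [← h.zero, h.inj.eq_iff]

theorem card (h : IsPar A x) : Nat.card A = Nat.card K :=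
  (Nat.card_congr (Equiv.ofBijective (fun a => (⟨x a, h.apply_mem a⟩ : A))
    ⟨fun _ _ e => h.inj (congrArg Subtype.val e),
      fun g => ((h.mem g).1 g.2).imp fun _ e => Subtype.ext e⟩)).symm

theorem of_equiv (y : K ≃ A) (h : ∀ a b, y (a + b) = y a * y b) : IsPar A fun a => (y a : Γ) :=
  ⟨fun a b => by rw [h]; rfl, fun _ _ e => y.injective (Subtype.ext e), fun g =>
    ⟨fun hg => ⟨y.symm ⟨g, hg⟩, by simp⟩, fun ⟨a, e⟩ => e ▸ (y a).2⟩⟩

variable {Γ' K' : Type*} [Group Γ'] [Field K'] {A' : Subgroup Γ'} {x' : K' → Γ'}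

/-- The graph of the isomorphism given by an additive map of the parameters. -/
def gr (h : IsPar A x) (h' : IsPar A' x') (β : K ≃+ K') : Subgroup (Γ × Γ') where
  carrier := {z | ∃ a, z = (x a, x' (β a))}
  one_mem' := ⟨0, by rw [map_zero, h.zero, h'.zero]; rfl⟩
  mul_mem' := by
    rintro _ _ ⟨a, rfl⟩ ⟨b, rfl⟩
    exact ⟨a + b, by rw [map_add, h.add, h'.add]; rfl⟩
  inv_mem' := by
    rintro _ ⟨a, rfl⟩
    exact ⟨-a, by rw [map_neg, h.neg, h'.neg]; rfl⟩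

theorem mem_gr (h : IsPar A x) (h' : IsPar A' x') (β : K ≃+ K') {z : Γ × Γ'} :
    z ∈ h.gr h' β ↔ ∃ a, z = (x a, x' (β a)) := Iff.rfl

theorem isGr (h : IsPar A x) (h' : IsPar A' x') (β : K ≃+ K') : IsGr A A' (h.gr h' β) where
  le := by
    rintro _ ⟨a, rfl⟩
    exact ⟨h.apply_mem _, h'.apply_mem _⟩
  fst g hg := by
    obtain ⟨a, rfl⟩ := (h.mem g).1 hg
    exact ⟨_, a, rfl⟩
  snd g hg := by
    obtain ⟨a, rfl⟩ := (h'.mem g).1 hg
    exact ⟨_, β.symm a, by rw [β.apply_symm_apply]⟩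
  one := by
    rintro _ ⟨a, rfl⟩
    rw [h.eq_one, h'.eq_one, β.map_eq_zero_iff]

end IsPar

theorem TriC.hua {K : Type*} [Field K] {x0 x1 x2 : K → Γ} (c : TriC U x0 x1 x2) {t : K}
    (ht : t ≠ 0) {m₁ : Γ} (hm : IsMu U 3 0 (x0 t) m) (hm₁ : IsMu U 3 0 (x0 1) m₁) (s : K) :
    m * m₁⁻¹ * x0 s * (m * m₁⁻¹)⁻¹ = x0 (t ^ 2 * s) := by
  obtain ⟨a1, a2⟩ := c.mu0 t m ht hm
  obtain ⟨b1, b2⟩ := c.mu0 1 m₁ one_ne_zero hm₁
  have h0 : m * (m₁⁻¹ * x0 s * m₁) * m⁻¹ ∈ U 0 :=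
    hm.conj_mem (l := 3) (by norm_num) (hm₁.conj_mem' (by norm_num) (c.p0.apply_mem s))
  obtain ⟨s', hs'⟩ := (c.p0.mem _).1 h0
  have h1 : m * m₁⁻¹ * x1 s * (m * m₁⁻¹)⁻¹ = x1 (t * s) := by
    rw [← a1, ← one_mul s, ← b1, one_mul]; group
  have h2 : m * m₁⁻¹ * x2 1 * (m * m₁⁻¹)⁻¹ = x2 t⁻¹ := by
    have e1 : x2 1 = m₁ * x1 (-1) * m₁⁻¹ := by rw [b2]; simp
    have e2 : x2 t⁻¹ = m * x1 (-1) * m⁻¹ := by rw [a2]; simp
    rw [e1, e2]; group
  have h3 : m * m₁⁻¹ * x0 s * (m * m₁⁻¹)⁻¹ = x0 s' := by rw [hs']; group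
  have h4 : x1 (s' * t⁻¹) = x1 (t * s) := by
    rw [← c.comm, ← h1, ← h2, ← h3, ← mul_one s, ← c.comm, mul_one]
    simp only [commutatorElement_def]; group
  rw [h3, ← mul_inv_cancel_right₀ (inv_ne_zero ht) s', c.p1.inj h4]
  congr 1
  field_simp

theorem TriC.graph {Γ' K K' : Type*} [Group Γ'] [Field K] [Field K'] {U' : ℤ → Subgroup Γ'}
    {x0 x1 x2 : K → Γ} {y0 y1 y2 : K' → Γ'} (h : IsPoly 3 U) (h' : IsPoly 3 U')
    (c : TriC U x0 x1 x2) (c' : TriC U' y0 y1 y2) (β : K ≃+ K')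
    (hβ : ∀ a b, β (a * b) = β a * β b) : ∃ D, Graph 3 U U' D ∧ D 0 = c.p0.gr c'.p0 β := by
  let D : ℤ → Subgroup (Γ × Γ') := fun l =>
    if l = 0 then c.p0.gr c'.p0 β else if l = 1 then c.p1.gr c'.p1 β else c.p2.gr c'.p2 β
  have hg : ∀ l : ℤ, 0 ≤ l → l < (3 : ℕ) → IsGr (U l) (U' l) (D l) := fun l h0 h3 => by
    obtain rfl | rfl | rfl : l = 0 ∨ l = 1 ∨ l = 2 := by omega
    · exact c.p0.isGr c'.p0 β
    · exact c.p1.isGr c'.p1 β
    · exact c.p2.isGr c'.p2 β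
  refine ⟨D, ⟨hg, fun l r h0 h3 z hz w hw => ?_⟩, rfl⟩
  obtain rfl | rfl : r = 0 ∨ r = 1 := by omega
  · have h1 := (hg l h0 (by omega)).le z hz
    have h2 := (hg _ (by omega) h3).le w hw
    exact commutatorElement_eq_one_iff_mul_comm.2 (Prod.ext
      (h.comm0 (by omega) (by simp) h1.1 h2.1) (h'.comm0 (by omega) (by simp) h1.2 h2.2))
  · obtain rfl : l = 0 := by omega
    obtain ⟨a, rfl⟩ : z ∈ c.p0.gr c'.p0 β := hz
    obtain ⟨b, rfl⟩ : w ∈ c.p2.gr c'.p2 β := hw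
    rw [mem_UP_one]
    exact ⟨a * b, by rw [hβ, ← c.comm, ← c'.comm]; rfl⟩

end Gen

variable {Γ : Type u} {Γ' : Type*} [Group Γ] [Group Γ'] [Finite Γ] [Finite Γ']
  {U : ℤ → Subgroup Γ} {U' : ℤ → Subgroup Γ'}

/-- Finite Moufang triangles are coordinatised by fields. -/
theorem IsPoly.tri_coord (h : IsPoly 3 U) {e : Γ} (he : e ∈ U 0) (h1 : e ≠ 1) :
    ∃ (K : Type u) (_ : Field K) (_ : Finite K) (x0 x1 x2 : K → Γ), TriC U x0 x1 x2 ∧ x0 1 = e := by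
  obtain ⟨q, hq, hq1⟩ := h.exists_ne (0 + 2)
  have hR : ∀ a b : U (0 + 1), a * b = b * a := fun a b => Subtype.ext (h.tri_abel a.2 b.2)
  have h0 : (⟨e, he⟩ : U 0) ≠ 1 := fun e1 => h1 (congrArg Subtype.val e1)
  obtain ⟨K, _, x0, x1, x2, a0, a1, a2, hc, h01⟩ := exists_field_of_closure hR (h.cm 0) h.cm_left
    h.cm_right h.cm_bl h.cm_br ⟨e, he⟩ h0 ⟨q, hq⟩ (fun e1 => hq1 (congrArg Subtype.val e1))
    (Perm.Alt.az_closure hR (h.cm 0) h.cm_left h.cm_right h.cm_bl h.cm_br h.tri_hua h.tri_hua' _ h0)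
  have hc' : ∀ a b, ⁅(x0 a : Γ), (x2 b : Γ)⁆ = x1 (a * b) := fun a b =>
    congrArg Subtype.val (hc a b)
  have p0 := IsPar.of_equiv x0 a0
  have p1 := IsPar.of_equiv x1 a1
  have p2 := IsPar.of_equiv x2 a2
  refine ⟨K, inferInstance, Finite.of_equiv _ x0.symm, _, _, _,
    ⟨p0, p1, p2, hc', fun t m ht hm => ⟨fun b => ?_, fun c => ?_⟩,
      fun t m ht hm => ⟨fun a => ?_, fun c => ?_⟩⟩, congrArg Subtype.val h01⟩
  · rw [← hc', h.m4_three (x0 t).2 (x2 b).2 hm]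
  · rw [neg_mul, p2.neg, ← h.mu_sq (x0 t).2 (x2 _).2 hm, hc', mul_inv_cancel_left₀ ht]
  · rw [neg_mul, p1.neg, mul_comm t, ← hc', h.m4_three' (x0 a).2 (x2 t).2 hm, inv_inv]
  · rw [← h.mu_sq' (x0 _).2 (x2 t).2 hm, hc', mul_comm t⁻¹, inv_mul_cancel_right₀ ht]

theorem IsPoly.tri_par (h : IsPoly 3 U) : IsPrimePow (Nat.card (U 0)) := by
  obtain ⟨e, he, h1⟩ := h.exists_ne 0
  obtain ⟨K, _, _, x0, x1, x2, c, -⟩ := h.tri_coord he h1
  have := Fintype.ofFinite K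
  rw [c.p0.card, Nat.card_eq_fintype_card]
  exact FiniteField.isPrimePow_card K

theorem IsPoly.tri_iso (h : IsPoly 3 U) (h' : IsPoly 3 U') (hc : Nat.card (U 0) = Nat.card (U' 0)) :
    ∃ D, Graph 3 U U' D := by
  obtain ⟨e, he, h1⟩ := h.exists_ne 0
  obtain ⟨K, _, _, x0, x1, x2, c, -⟩ := h.tri_coord he h1
  obtain ⟨e', he', h1'⟩ := h'.exists_ne 0
  obtain ⟨K', _, _, y0, y1, y2, c', -⟩ := h'.tri_coord he' h1'
  have := Fintype.ofFinite K
  have := Fintype.ofFinite K'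
  rw [c.p0.card, c'.p0.card, Nat.card_eq_fintype_card, Nat.card_eq_fintype_card] at hc
  let β := FiniteField.ringEquivOfCardEq hc
  obtain ⟨D, hD, -⟩ := c.graph h h' c' β.toAddEquiv β.map_mul
  exact ⟨D, hD⟩

theorem IsPoly.tri_ext (h : IsPoly 3 U) (h' : IsPoly 3 U') {E : Subgroup (Γ × Γ')}
    (hE : IsGr (U 0) (U' 0) E) (hh : Hua 3 U U' E) : ∃ D, Graph 3 U U' D ∧ D 0 = E := by
  obtain ⟨e, he, h1⟩ := h.exists_ne 0
  obtain ⟨e', hee⟩ := hE.fst e he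
  obtain ⟨K, _, _, x0, x1, x2, c, rfl⟩ := h.tri_coord he h1
  obtain ⟨K', _, _, y0, y1, y2, c', rfl⟩ := h'.tri_coord (hE.le _ hee).2
    fun e1 => h1 ((hE.one _ hee).2 e1)
  have u1 : ∀ g a b, (g, y0 a) ∈ E → (g, y0 b) ∈ E → a = b := fun g a b ha hb =>
    c'.p0.inj (mul_inv_eq_one.1 ((hE.one _ (mul_mem ha (inv_mem hb))).1 (mul_inv_cancel g)))
  have u2 : ∀ g a b, (x0 a, g) ∈ E → (x0 b, g) ∈ E → a = b := fun g a b ha hb =>
    c.p0.inj (mul_inv_eq_one.1 ((hE.one _ (mul_mem ha (inv_mem hb))).2 (mul_inv_cancel g)))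
  have ex : ∀ a, ∃ b, (x0 a, y0 b) ∈ E := fun a => by
    obtain ⟨g, hg⟩ := hE.fst _ (c.p0.apply_mem a)
    obtain ⟨b, rfl⟩ := (c'.p0.mem g).1 (hE.le _ hg).2
    exact ⟨b, hg⟩
  choose f hf using ex
  have hadd : ∀ a b, f (a + b) = f a + f b := fun a b => u1 _ _ _ (hf _) (by
    rw [c.p0.add, c'.p0.add]; exact mul_mem (hf a) (hf b))
  have hbij : Function.Bijective f := ⟨fun a b e => u2 _ _ _ (hf a) (e ▸ hf b), fun b => by
    obtain ⟨g, hg⟩ := hE.snd _ (c'.p0.apply_mem b)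
    obtain ⟨a, rfl⟩ := (c.p0.mem g).1 (hE.le _ hg).1
    exact ⟨a, u1 _ _ _ (hf a) hg⟩⟩
  let β : K ≃+ K' := { Equiv.ofBijective f hbij with map_add' := hadd }
  have hβ : ∀ a, β a = f a := fun _ => rfl
  have hβ1 : β 1 = 1 := u1 _ _ _ (hf 1) hee
  have hsq : ∀ a s, β (a ^ 2 * s) = β a ^ 2 * β s := fun a s => by
    by_cases ha : a = 0
    · simp [ha]
    have ha' : f a ≠ 0 := fun e1 => ha (β.map_eq_zero_iff.1 e1)
    obtain ⟨m, hm⟩ := h.mu 0 _ (c.p0.apply_mem a) (c.p0.eq_one.not.2 ha)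
    obtain ⟨m', hm'⟩ := h'.mu 0 _ (c'.p0.apply_mem (f a)) (c'.p0.eq_one.not.2 ha')
    obtain ⟨m₁, hm₁⟩ := h.mu 0 _ (c.p0.apply_mem 1) h1
    obtain ⟨m₁', hm₁'⟩ := h'.mu 0 _ (c'.p0.apply_mem 1) (c'.p0.eq_one.not.2 one_ne_zero)
    have := hh _ (hf a) _ hee _ (hf s) (m, m') (m₁, m₁')
      (fun e1 => ha (c.p0.eq_one.1 (congrArg Prod.fst e1))) (fun e1 => h1 (congrArg Prod.fst e1))
      hm hm' hm₁ hm₁'
    refine u1 _ _ _ (hf _) ?_
    rw [← c.hua ha hm hm₁, hβ, hβ, ← c'.hua ha' hm' hm₁']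
    exact this
  obtain ⟨D, hD, e0⟩ := c.graph h h' c' β (map_mul_of_hua β hβ1 hsq)
  refine ⟨D, hD, e0.trans (Subgroup.ext fun z => ⟨?_, fun hz => ?_⟩)⟩
  · rintro ⟨a, rfl⟩
    exact hf a
  · obtain ⟨a, ha⟩ := (c.p0.mem _).1 (hE.le z hz).1
    obtain ⟨b, hb⟩ := (c'.p0.mem _).1 (hE.le z hz).2
    have hz' : (x0 a, y0 b) ∈ E := by rwa [ha, hb]
    exact ⟨a, Prod.ext ha.symm (hb.symm.trans (congrArg y0 (u1 _ _ _ hz' (hf a))))⟩

end Cfsg.Agent.Bld
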