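import Mathlib
import Cfsg.Agent.Bld.Tri
import Cfsg.Agent.Bld.Quad2A

/-! Coordinates for the quadrangle of a finite Moufang building of type `B₃`. -/

set_option autoImplicit false

namespace Cfsg.Agent.Bld

open scoped commutatorElement

universe u

section
variable {Γ : Type*} [Group Γ] {T U : ℤ → Subgroup Γ} {K : Type*} [Field K] {x0 N g : K → Γ}

/-- The data extracted from the triangle. -/
structure QPre (U : ℤ → Subgroup Γ) (x0 N g : K → Γ) : Prop where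
  quad : IsPoly 4 U
  p0 : IsPar (U 0) x0
  mu : ∀ t, t ≠ 0 → IsMu U 4 0 (x0 t) (N t)
  g0 : ∀ t, t ≠ 0 → ∀ a, g t * x0 a * (g t)⁻¹ = x0 (t * a)
  g3 : ∀ t, t ≠ 0 → ∀ u, u ∈ U 3 ∨ u ∈ U 7 → Commute (g t) u
  gN : ∀ t, t ≠ 0 → ∀ a, a ≠ 0 → g t * N a * (g t)⁻¹ = N (t * a)
  h1 : ∀ t, t ≠ 0 → ∀ s, N t * (N 1)⁻¹ * x0 s * (N t * (N 1)⁻¹)⁻¹ = x0 (t ^ 2 * s)
  h2 : ∀ t, t ≠ 0 → ∀ s, (N 1)⁻¹ * N t * x0 (t ^ 2 * s) * ((N 1)⁻¹ * N t)⁻¹ = x0 s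

theorem B3.qpre (h : B3 T U) {y1 y2 : K → Γ} (c : TriC T x0 y1 y2) : ∃ N g, QPre U x0 N g := by
  have p0 : IsPar (U 0) x0 := h.e0 ▸ c.p0
  choose! N hN hN' using fun (t : K) (ht : t ≠ 0) => h.mu (x0 t) (p0.apply_mem t) (mt p0.eq_one.1 ht)
  choose! M hM using fun (t : K) (ht : t ≠ 0) => h.tri.mu 2 (y2 t) (c.p2.apply_mem t) (mt c.p2.eq_one.1 ht)
  have cm : ∀ t, t ≠ 0 → ∀ u, u ∈ U 3 ∨ u ∈ U 7 → Commute (M t) u := fun t ht u hu => by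
    obtain ⟨x, hx, y, hy, e⟩ := (hM t ht).1
    rw [e]
    exact ((h.comm x (Or.inr hx) u hu).mul_left (h.comm _ (Or.inl (c.p2.apply_mem t)) u hu)).mul_left
      (h.comm y (Or.inr hy) u hu)
  have g0 : ∀ t, t ≠ 0 → ∀ a, M 1 * (M t)⁻¹ * x0 a * (M 1 * (M t)⁻¹)⁻¹ = x0 (t * a) := fun t ht a => by
    have e1 := (c.mu2 t _ ht (hM t ht)).2 (t * a)
    have e2 := (c.mu2 1 _ one_ne_zero (hM 1 one_ne_zero)).2 (t * a)
    rw [inv_mul_cancel_left₀ ht] at e1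
    rw [inv_one, one_mul] at e2
    rw [← e1, ← e2]; group
  have inv : ∀ t, t ≠ 0 → IsMu T 3 0 (x0 (-t)) (N t)⁻¹ := fun t ht => c.p0.neg t ▸ (hN t ht).inv
  refine ⟨N, fun t => M 1 * (M t)⁻¹, h.quad, p0, hN', g0, fun t ht u hu =>
    (cm 1 one_ne_zero u hu).mul_left (cm t ht u hu).inv_left, fun t ht a ha => ?_,
    fun t ht s => c.hua ht (hN t ht) (hN 1 one_ne_zero) s, fun t ht s => ?_⟩
  · have := (hN a ha).conj (g := M 1 * (M t)⁻¹) fun l b => by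
      rw [(hM t ht).inv.2 l b, (hM 1 one_ne_zero).2, sub_sub_cancel]
      simp [mul_assoc]
    rw [g0 t ht] at this
    exact h.tri.mu_unique (Or.inl rfl) (c.p0.apply_mem _) (mt c.p0.eq_one.1 (mul_ne_zero ht ha)) this
      (hN _ (mul_ne_zero ht ha))
  · have e1 := c.hua (neg_ne_zero.2 ht) (inv t ht) (hN 1 one_ne_zero) s
    have e2 := c.hua (neg_ne_zero.2 one_ne_zero) (inv 1 one_ne_zero) (hN 1 one_ne_zero) s
    rw [neg_sq] at e1 e2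
    rw [one_pow, one_mul] at e2
    rw [← e1]
    conv_rhs => rw [← e2]
    simp [mul_assoc]

theorem q1_conj (g a b : Γ) : g * ⁅a, b⁆ * g⁻¹ = ⁅g * a * g⁻¹, g * b * g⁻¹⁆ := by
  simp only [commutatorElement_def]; group

theorem q1_sigma [Finite K] (ν : K → K) (h1 : ∀ a b, ν (a + b) = ν a + ν b) (h2 : ∃ a, ν a = 1)
    (h3 : ∀ t, ∃ s, ∀ a, ν (t * a) = s * ν a) : ∃ σ : K ≃+* K, ∀ t a, ν (t * a) = σ t * ν a := by
  obtain ⟨a0, ha⟩ := h2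
  have k : ∀ t a, ν (t * a) = ν (t * a0) * ν a := fun t a => by
    obtain ⟨s, hs⟩ := h3 t
    rw [hs, hs, ha, mul_one]
  let f : K →+* K := RingHom.mk' ⟨⟨fun t => ν (t * a0), by simp [ha]⟩, fun s t => by simp only [mul_assoc, k s (t * a0)]⟩
    fun s t => by simp [add_mul, h1]
  exact ⟨RingEquiv.ofBijective f (Finite.injective_iff_bijective.1 f.injective), k⟩

theorem QPre.exists_qc [Finite K] (q : QPre U x0 N g) {e : Γ} (he : e ∈ U 3) (e1 : e ≠ 1)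
    (h2 : ¬ Cm (U 0) (U 2) → ∃ a ∈ U 0, ∃ c ∈ U 2, ⁅a, c⁆ = N 1 * e * (N 1)⁻¹) :
    ∃ x2 act π σ, QC U x0 x2 (N 1) e act π σ := by
  classical
  have h := q.quad
  have p0 := q.p0
  obtain ⟨m, hm⟩ := h.mu 3 e he e1
  obtain ⟨n, hn1⟩ : ∃ n, n = N 1 := ⟨_, rfl⟩
  have hn : IsMu U 4 0 (x0 1) n := hn1 ▸ q.mu 1 one_ne_zero
  have q1 := q.h1
  have q2 := q.h2
  rw [← hn1] at h2 q1 q2 ⊢
  have gm : ∀ t, t ≠ 0 → Commute (g t) m := fun t ht => by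
    obtain ⟨x, hx, y, hy, e'⟩ := hm.1
    rw [e']
    exact ((q.g3 t ht x (Or.inr hx)).mul_right (q.g3 t ht e (Or.inl he))).mul_right (q.g3 t ht y (Or.inr hy))
  have g3 : ∀ t, t ≠ 0 → ∀ u ∈ U 3, g t * u * (g t)⁻¹ = u := fun t ht u hu => by
    rw [(q.g3 t ht u (Or.inl hu)).eq, mul_inv_cancel_right]
  have gc : ∀ t, t ≠ 0 → ∀ u, g t * (m * u * m⁻¹) * (g t)⁻¹ = m * (g t * u * (g t)⁻¹) * m⁻¹ := fun t ht u => by
    calc _ = g t * m * u * (g t * m)⁻¹ := by group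
      _ = _ := by rw [(gm t ht).eq]; group
  obtain ⟨x2, hx2⟩ : ∃ x2 : K → Γ, ∀ a, x2 a = m * x0 (-a) * m⁻¹ := ⟨_, fun _ => rfl⟩
  have m02 : ∀ b, b ∈ U 0 ↔ m * b * m⁻¹ ∈ U 2 := fun b => (hm.2 0 b).trans (h.per_mem (by norm_num))
  have m20 : ∀ b, b ∈ U 2 ↔ m * b * m⁻¹ ∈ U 0 := fun b => (hm.2 2 b).trans (h.per_mem (by norm_num))
  have p2 : IsPar (U 2) x2 := by
    refine ⟨fun a b => by rw [hx2, hx2, hx2, neg_add, p0.add, conj_mul], fun a b k => ?_, fun b => ⟨fun hb => ?_, ?_⟩⟩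
    · rw [hx2, hx2] at k
      exact neg_injective (p0.inj (mul_left_cancel (mul_right_cancel k)))
    · obtain ⟨a, ha⟩ := (p0.mem (m⁻¹ * b * m)).1 ((m02 _).2 (by simpa [mul_assoc] using hb))
      exact ⟨-a, by rw [hx2, neg_neg, ha]; group⟩
    · rintro ⟨a, rfl⟩
      rw [hx2]; exact (m02 _).1 (p0.apply_mem _)
  have g2 : ∀ t, t ≠ 0 → ∀ a, g t * x2 a * (g t)⁻¹ = x2 (t * a) := fun t ht a => by
    rw [hx2, hx2, gc t ht, q.g0 t ht, mul_neg]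
  have n31 : ∀ u, u ∈ U 3 ↔ n * u * n⁻¹ ∈ U 1 := fun u => hn.2 3 u
  choose! π hπ using fun (u : Γ) (hu : u ∈ U 3) => show ∃ p, ⁅x0 1, u⁆ = n * u * n⁻¹ * x2 p by
    obtain ⟨c, hc, d, hd, k⟩ := h.comm2 (by omega) rfl rfl rfl (p0.apply_mem 1) hu
    obtain ⟨p, rfl⟩ := (p2.mem d).1 hd
    exact ⟨p, by rw [← h.m4_four_left (p0.apply_mem 1) hu hn hc hd k, k]⟩
  have π1 : π 1 = 0 := p2.eq_one.1 (by simpa using (hπ 1 (one_mem _)).symm)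
  have πm : ∀ u ∈ U 3, ∀ m', IsMu U 4 3 u m' → x2 (π u) = (m' * x0 1 * m'⁻¹)⁻¹ := fun u hu m' hm' =>
    h.m4_four_right (k := 0) (p0.apply_mem 1) hu hm' ((n31 u).1 hu) (p2.apply_mem _) (hπ u hu).symm
  have πe : π e = 1 := p2.inj (by rw [πm e he m hm, hx2, p0.neg]; group)
  obtain ⟨act, a0, a1⟩ : ∃ act : K → Γ → Γ, (∀ u, act 0 u = 1) ∧
      ∀ t, t ≠ 0 → ∀ u, act t u = n⁻¹ * N t * u * (n⁻¹ * N t)⁻¹ :=
    ⟨fun t u => if t = 0 then 1 else n⁻¹ * N t * u * (n⁻¹ * N t)⁻¹, fun u => if_pos rfl, fun t ht u => if_neg ht⟩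
  have au : ∀ t, act t 1 = 1 := fun t => by
    by_cases ht : t = 0
    · rw [ht, a0]
    · rw [a1 t ht]; group
  have hN : ∀ t, t ≠ 0 → ∀ l, ∀ b ∈ U l, n⁻¹ * N t * b * (n⁻¹ * N t)⁻¹ ∈ U l := fun t ht l b hb => by
    have := hn.conj_mem' (l' := l) rfl ((q.mu t ht).conj_mem rfl hb)
    simpa [mul_assoc] using this
  have hN' : ∀ t, t ≠ 0 → ∀ l, ∀ b ∈ U l, N t * n⁻¹ * b * (N t * n⁻¹)⁻¹ ∈ U l := fun t ht l b hb => by
    have := (q.mu t ht).conj_mem (l' := l) (sub_sub_cancel _ _) (hn.conj_mem' (sub_sub_cancel _ _) hb)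
    simpa [mul_assoc] using this
  have am : ∀ t, ∀ u ∈ U 3, act t u ∈ U 3 := fun t u hu => by
    by_cases ht : t = 0
    · rw [ht, a0]; exact one_mem _
    · rw [a1 t ht]; exact hN t ht 3 u hu
  have gN : ∀ t, t ≠ 0 → ∀ s, s ≠ 0 → ∀ u ∈ U 3,
      g t * (N s * u * (N s)⁻¹) * (g t)⁻¹ = N (t * s) * u * (N (t * s))⁻¹ := fun t ht s hs u hu => by
    rw [← q.gN t ht s hs]
    conv_rhs => rw [← g3 t ht u hu]
    group
  have ga : ∀ t, t ≠ 0 → ∀ u ∈ U 3, n * act t u * n⁻¹ = g t * (n * u * n⁻¹) * (g t)⁻¹ := fun t ht u hu => by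
    rw [a1 t ht, hn1, gN t ht 1 one_ne_zero u hu, mul_one]; group
  have c03 : ∀ a, ∀ u ∈ U 3, ⁅x0 a, u⁆ = n * act a u * n⁻¹ * x2 (π u * a) := fun a u hu => by
    by_cases ha : a = 0
    · rw [ha, a0, mul_zero, p0.zero, p2.zero]; simp
    · have := q1_conj (g a) (x0 1) u
      rw [q.g0 a ha, g3 a ha u hu, mul_one, hπ u hu] at this
      rw [← this, ga a ha u hu, mul_comm (π u), ← g2 a ha]; group
  -- conjugating `c03` by an element normalising the root groups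
  have cc : ∀ k a a' u, u ∈ U 3 → k * u * k⁻¹ ∈ U 3 → k * x0 a * k⁻¹ = x0 a' → (∀ b ∈ U 1, k * b * k⁻¹ ∈ U 1) →
      (∀ b ∈ U 2, k * b * k⁻¹ ∈ U 2) → k * x2 (π u * a) * k⁻¹ = x2 (π (k * u * k⁻¹) * a') :=
    fun k a a' u hu hu' ha k1 k2 => by
      have := q1_conj k (x0 a) u
      rw [ha, c03 a u hu, c03 a' _ hu', ← conj_mul] at this
      exact (h.q2_uniq (k1 _ ((n31 _).1 (am a u hu))) (k2 _ (p2.apply_mem _)) ((n31 _).1 (am a' _ hu'))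
        (p2.apply_mem _) this).2
  have ht2 : ∀ t, t ≠ 0 → ∀ u ∈ U 3, ∀ s, n⁻¹ * N t * x2 (π u * (t ^ 2 * s)) * (n⁻¹ * N t)⁻¹ = x2 (π (act t u) * s) :=
    fun t ht u hu s => by
      rw [a1 t ht]; exact cc _ _ _ u hu (hN t ht 3 u hu) (q2 t ht s) (hN t ht 1) (hN t ht 2)
  -- the automorphism `σ`
  have n22 : ∀ b, b ∈ U 2 ↔ n * b * n⁻¹ ∈ U 2 := fun u => hn.2 2 u
  choose ν hν using fun a => (p2.mem _).1 ((n22 _).1 (p2.apply_mem a))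
  have gn : ∀ t, t ≠ 0 → n * g t * n⁻¹ = g t * (N t⁻¹ * n⁻¹) := fun t ht => by
    have := q.gN t ht t⁻¹ (inv_ne_zero ht)
    rw [mul_inv_cancel₀ ht, ← hn1] at this
    conv_lhs => rw [← this]
    rw [← this]; group
  have k0 : ∀ t, t ≠ 0 → ∀ a, n * g t * n⁻¹ * x0 (t * a) * (n * g t * n⁻¹)⁻¹ = x0 a := fun t ht a => by
    have := q.g0 t ht (t⁻¹ ^ 2 * (t * a))
    rw [← q1 t⁻¹ (inv_ne_zero ht), show t * (t⁻¹ ^ 2 * (t * a)) = a by field_simp] at this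
    rw [gn t ht, ← this]; group
  have k1 : ∀ t, t ≠ 0 → ∀ b ∈ U 1, n * g t * n⁻¹ * b * (n * g t * n⁻¹)⁻¹ = b := fun t ht b hb => by
    have := g3 t ht (n⁻¹ * b * n) ((n31 _).2 (by simpa [mul_assoc] using hb))
    calc _ = n * (g t * (n⁻¹ * b * n) * (g t)⁻¹) * n⁻¹ := by group
      _ = _ := by rw [this]; group
  have k2 : ∀ t, t ≠ 0 → ∀ a, n * g t * n⁻¹ * x2 (ν a) * (n * g t * n⁻¹)⁻¹ = x2 (ν (t * a)) := fun t ht a => by
    rw [hν, hν, ← g2 t ht]; group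
  have νs : ∀ b, ∃ a, ν a = b := fun b => by
    obtain ⟨a, ha⟩ := (p2.mem (n⁻¹ * x2 b * n)).1 ((n22 _).2 (by simpa [mul_assoc] using p2.apply_mem b))
    exact ⟨a, p2.inj (by rw [hν, ha]; group)⟩
  have νa : ∀ a b, ν (a + b) = ν a + ν b := fun a b => p2.inj (by rw [p2.add, hν, hν, hν, p2.add, conj_mul])
  obtain ⟨σ, hσ⟩ := q1_sigma ν νa (νs 1) fun t => by
    by_cases ht : t = 0
    · exact ⟨0, fun a => by rw [ht, zero_mul, zero_mul]; simpa using νa 0 0⟩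
    have k3 : n * g t * n⁻¹ * e * (n * g t * n⁻¹)⁻¹ ∈ U 3 := by
      have := hN' t⁻¹ (inv_ne_zero ht) 3 e he
      rw [← g3 t ht _ this] at this
      rw [gn t ht]; simpa [mul_assoc] using this
    refine ⟨π (n * g t * n⁻¹ * e * (n * g t * n⁻¹)⁻¹) * t⁻¹, fun a => p2.inj ?_⟩
    have := cc _ _ _ e he k3 (k0 t ht (t⁻¹ * ν a)) (fun b hb => by rwa [k1 t ht b hb]) fun b hb => by
      obtain ⟨b, rfl⟩ := (p2.mem b).1 hb
      obtain ⟨b, rfl⟩ := νs b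
      rw [k2 t ht]; exact p2.apply_mem _
    rw [πe, one_mul, mul_inv_cancel_left₀ ht, k2 t ht] at this
    rw [this, mul_assoc (π _)]
  have m02' : ∀ a b, ⁅x0 a, x2 b⁆ ∈ U 1 := fun a b => h.q2_two 0 (p0.apply_mem a) (p2.apply_mem b)
  have c02 : ∀ a b, ⁅x0 a, x2 b⁆ = ⁅x0 1, x2 (σ a * b)⁆ := fun a b => by
    by_cases ha : a = 0
    · rw [ha, map_zero, zero_mul, p0.zero, p2.zero]; simp
    obtain ⟨b, rfl⟩ := νs b
    rw [← k1 a ha _ (m02' a _), q1_conj, k2 a ha, hσ, ← k0 a ha 1, mul_one]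
  refine ⟨x2, act, π, σ, p0, p2, n31, am, fun t u _ v _ => ?_, fun s t u hu => ?_, fun u _ => ?_, c03,
    fun t b u hu v hv k => ?_, c02, fun t a b => ?_, fun u hu u1 k => ?_, fun t u hu => ?_, he, πe, fun hc t => ?_,
    fun hc => ⟨fun a => ?_, ?_⟩⟩
  · by_cases ht : t = 0
    · rw [ht, a0, a0, a0, mul_one]
    · rw [a1 t ht, a1 t ht, a1 t ht, conj_mul]
  · by_cases hs : s = 0
    · rw [hs, zero_mul, a0, a0]
    by_cases ht : t = 0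
    · rw [ht, mul_zero, a0, au]
    have := ga s hs _ (am t u hu)
    rw [show n * act t u * n⁻¹ = N t * u * (N t)⁻¹ by rw [a1 t ht]; group, gN s hs t ht u hu] at this
    rw [a1 _ (mul_ne_zero hs ht), mul_inv_rev, mul_assoc n⁻¹, mul_assoc n⁻¹, ← mul_assoc (N _ * u), ← this]; group
  · rw [a1 1 one_ne_zero, ← hn1]; group
  · by_cases ht : t = 0
    · rw [ht, a0, zero_mul, p2.zero]; simp
    · rw [ga t ht v hv, ← g2 t ht, ← k, q1_conj, g3 t ht u hu]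
  · by_cases ht : t = 0
    · rw [ht, a0, zero_mul, zero_mul, p2.zero]; simp
    · have := ga t ht (n⁻¹ * ⁅x0 a, x2 b⁆ * n) ((n31 _).2 (by simpa [mul_assoc] using m02' a b))
      rw [← q.g0 t ht, ← g2 t ht, ← q1_conj, show ⁅x0 a, x2 b⁆ = n * (n⁻¹ * ⁅x0 a, x2 b⁆ * n) * n⁻¹ by group, ← this]
      group
  · obtain ⟨m', hm'⟩ := h.mu 3 u hu u1
    have := πm u hu m' hm'
    rw [k, p2.zero, eq_comm, inv_eq_one, conj_eq_one_iff, p0.eq_one] at this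
    exact one_ne_zero this
  · by_cases ht : t = 0
    · rw [ht, a0, a0, π1, zero_mul]
    have := ht2 t ht e he (π u)
    rw [πe, one_mul, ← mul_one (t ^ 2), mul_comm _ (π u), ht2 t ht u hu, mul_one] at this
    exact p2.inj this
  · by_cases ht : t = 0
    · rw [ht, a0, π1]; simp
    have c4 : ∀ x ∈ U 4, ∀ b ∈ U 2, Commute x b := fun x hx b hb => by
      have := (hc _ (hn.conj_mem (l' := 0) (by norm_num) hx) _ ((n22 b).1 hb)).eq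
      rw [conj_mul, conj_mul] at this
      exact mul_left_cancel (mul_right_cancel this)
    have cN : ∀ t, t ≠ 0 → ∀ b ∈ U 2, Commute (N t) b := fun t ht b hb => by
      obtain ⟨x, hx, y, hy, e'⟩ := (q.mu t ht).1
      rw [e']
      exact ((c4 x hx b hb).mul_left (hc _ (p0.apply_mem t) b hb)).mul_left (c4 y hy b hb)
    have := ht2 t ht e he 1
    rw [hn1, ((cN 1 one_ne_zero _ (p2.apply_mem _)).inv_left.mul_left (cN t ht _ (p2.apply_mem _))).eq,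
      mul_inv_cancel_right, πe, one_mul, mul_one, mul_one] at this
    exact (p2.inj this).symm
  · obtain ⟨k, hk⟩ := (p0.mem _).1 ((m20 _).1 (p2.apply_mem 1))
    have k4 : k ≠ 0 := fun k4 => by
      rw [k4, p0.zero, eq_comm, conj_eq_one_iff, p2.eq_one] at hk
      exact one_ne_zero hk
    have k5 : ∀ b, m * x2 b * m⁻¹ = x0 (b * k) := fun b => by
      by_cases hb : b = 0
      · rw [hb, zero_mul, p0.zero, p2.zero]; group
      · rw [← q.g0 b hb, hk, gc b hb, g2 b hb, mul_one]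
    have k6 : ∀ a b, m * ⁅x0 a, x2 b⁆ * m⁻¹ = ⁅x0 1, x2 (σ (b * k) * -a)⁆⁻¹ := fun a b => by
      rw [q1_conj, k5, ← c02, commutatorElement_inv, hx2, neg_neg]
    have ad : ∀ a b, ⁅x0 1, x2 (a + b)⁆ = ⁅x0 1, x2 a⁆ * ⁅x0 1, x2 b⁆ := fun a b => by
      have : ⁅x0 1, x2 (a + b)⁆ = ⁅x0 1, x2 a⁆ * (x2 a * ⁅x0 1, x2 b⁆) * (x2 a)⁻¹ := by
        rw [p2.add]; simp only [commutatorElement_def]; group
      rw [this, ← (h.q2_adj 1 (m02' 1 b) (p2.apply_mem a)).eq]; group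
    by_contra k7
    refine hc fun x hx y hy => ?_
    obtain ⟨x, rfl⟩ := (p0.mem x).1 hx
    obtain ⟨y, rfl⟩ := (p2.mem y).1 hy
    obtain ⟨b, hb⟩ := σ.surjective (σ x * y * (σ k * (σ (σ a) - a))⁻¹)
    have e2 := k6 a b
    rw [c02, k6, inv_inj, show σ (b * k) * -a = σ (σ a * b * k) * -1 + σ x * y by
      have := sub_ne_zero.2 k7
      have := (map_ne_zero σ).2 k4
      simp only [map_mul, hb]; field_simp; ring, ad, left_eq_mul, ← c02] at e2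
    exact commutatorElement_eq_one_iff_commute.1 e2
  · obtain ⟨a, ha, c, hc', k⟩ := h2 hc
    obtain ⟨a, rfl⟩ := (p0.mem a).1 ha
    obtain ⟨c, rfl⟩ := (p2.mem c).1 hc'
    exact ⟨_, (c02 a c).symm.trans k⟩

end

/-- Coordinates for the quadrangle of a finite Moufang building of type `B₃`. -/
theorem B3.exists_qc {Γ : Type u} [Group Γ] [Finite Γ] {T U : ℤ → Subgroup Γ} (h : B3 T U) :
    ∃ (K : Type u) (_ : Field K) (_ : Finite K) (x0 x2 : K → Γ) (n e : Γ) (act : K → Γ → Γ)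
      (π : Γ → K) (σ : K ≃+* K), QC U x0 x2 n e act π σ := by
  obtain ⟨z, hz, z1⟩ := h.tri.exists_ne 0
  obtain ⟨K, _, _, x0, y1, y2, c, -⟩ := h.tri.tri_coord hz z1
  obtain ⟨N, g, q⟩ := h.qpre c
  obtain ⟨e, he, e1, h2⟩ : ∃ e ∈ U 3, e ≠ 1 ∧
      (¬ Cm (U 0) (U 2) → ∃ a ∈ U 0, ∃ c ∈ U 2, ⁅a, c⁆ = N 1 * e * (N 1)⁻¹) := by
    by_cases hc : Cm (U 0) (U 2)
    · obtain ⟨e, he, e1⟩ := h.quad.exists_ne 3
      exact ⟨e, he, e1, fun k => absurd hc k⟩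
    · obtain ⟨a, ha, c, hc', k⟩ : ∃ a ∈ U 0, ∃ c ∈ U 2, ¬ Commute a c := by simpa [Cm] using hc
      refine ⟨(N 1)⁻¹ * ⁅a, c⁆ * N 1, (q.mu 1 one_ne_zero).conj_mem' (by norm_num) (h.quad.q2_two 0 ha hc'),
        fun k' => k (commutatorElement_eq_one_iff_commute.1 ?_), fun _ => ⟨a, ha, c, hc', by group⟩⟩
      calc _ = N 1 * ((N 1)⁻¹ * ⁅a, c⁆ * N 1) * (N 1)⁻¹ := by group
        _ = 1 := by rw [k']; group
  obtain ⟨x2, act, π, σ, k⟩ := q.exists_qc he e1 h2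
  exact ⟨K, inferInstance, inferInstance, x0, x2, _, e, act, π, σ, k⟩

end Cfsg.Agent.Bld
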