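import Mathlib
import Cfsg.Agent.Bld.Quad2A
import Cfsg.Agent.Cl.QuadClassify
import Cfsg.Agent.Cl.UField

/-! The quadrangle of a building of type `B₃`: the two kinds. -/

set_option autoImplicit false
set_option linter.unusedSectionVars false

namespace Cfsg.Agent.Bld

open scoped commutatorElement

variable {Γ : Type*} [Group Γ] {U : ℤ → Subgroup Γ} {K : Type*} [Field K] [Finite K]
  {x0 x2 : K → Γ} {n e : Γ} {act : K → Γ → Γ} {π : Γ → K} {σ : K ≃+* K}

namespace QC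

section One

variable (h : IsPoly 4 U) (c : QC U x0 x2 n e act π σ) (hc : Cm (U 0) (U 2))
include h c hc

theorem i_z (a : K) : qz x0 x2 n a = 1 := by
  rw [qz, commutatorElement_eq_one_iff_commute.2 (hc _ (c.p0.q2_mem 1) _ (c.p2.q2_mem a))]; group

theorem i_add (s t : K) {u : Γ} (hu : u ∈ U 3) : act (s + t) u = act s u * act t u := by
  rw [add_comm, c.act_add h t s hu, c.i_z h hc, mul_one]

theorem i_neg (t : K) {u : Γ} (hu : u ∈ U 3) : act (-t) u = (act t u)⁻¹ :=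
  eq_inv_of_mul_eq_one_left (by rw [← c.i_add h hc _ _ hu, neg_add_cancel, c.act_zero h hu])

theorem i_comm {u v : Γ} (hu : u ∈ U 3) (hv : v ∈ U 3) : u * v = v * u := by
  have := c.act_mul (-1) u hu v hv
  rw [c.i_neg h hc _ hu, c.i_neg h hc _ hv, c.i_neg h hc _ (mul_mem hu hv), c.act_one _ hu, c.act_one _ hv,
    c.act_one _ (mul_mem hu hv), ← mul_inv_rev] at this
  exact inv_injective this

theorem i_π (t : K) {u : Γ} (hu : u ∈ U 3) : π (act t u) = t ^ 2 * π u := by rw [c.π_act t u hu, c.one hc]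

theorem i_f (s t : K) {u v : Γ} (hu : u ∈ U 3) (hv : v ∈ U 3) : qf π (act t v) (act s u) = s * t * qf π v u := by
  have sw : ∀ {u v : Γ}, u ∈ U 3 → v ∈ U 3 → qf π v u = qf π u v := fun hu hv => by
    rw [qf, qf, c.i_comm h hc hu hv]; ring
  rw [c.f_act h t (c.act_mem s u hu) hv, sw (c.act_mem s u hu) hv, c.f_act h s hv hu, sw hv hu]; ring

theorem i_self {u : Γ} (hu : u ∈ U 3) : qf π u u = 2 * π u := by
  have := c.i_π h hc (1 + 1) hu
  rw [c.i_add h hc _ _ hu, c.act_one u hu] at this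
  rw [qf, this]; ring

theorem i_two (s t : K) {w : Γ} (hw : w ∈ U 3) :
    π (act s e * act t w) = s ^ 2 + qf π w e * s * t + π w * t ^ 2 := by
  rw [c.π_mul h, c.i_π h hc s c.e_mem, c.i_π h hc t hw, c.i_f h hc s t c.e_mem hw, c.π_e]; ring

theorem i_mul (s t s' t' : K) {w : Γ} (hw : w ∈ U 3) :
    act s e * act t w * (act s' e * act t' w) = act (s + s') e * act (t + t') w := by
  rw [c.i_add h hc _ _ hw, c.i_add h hc _ _ c.e_mem, mul_assoc, ← mul_assoc (act t w),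
    c.i_comm h hc (c.act_mem t w hw) (c.act_mem s' e c.e_mem)]
  group

theorem i_inv (s t : K) {w : Γ} (hw : w ∈ U 3) : (act s e * act t w)⁻¹ = act (-s) e * act (-t) w :=
  inv_eq_of_mul_eq_one_right (by
    rw [c.i_mul h hc _ _ _ _ hw, add_neg_cancel, add_neg_cancel, c.act_zero h hw, c.act_zero h c.e_mem, mul_one])

theorem i_act (r s t : K) {w : Γ} (hw : w ∈ U 3) : act r (act s e * act t w) = act (r * s) e * act (r * t) w := by
  rw [c.act_mul r _ (c.act_mem s e c.e_mem) _ (c.act_mem t w hw), c.act_act _ _ _ c.e_mem, c.act_act _ _ _ hw]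

/-- `U 3` is an anisotropic space of dimension one or two. -/
theorem i_span : ∃ w ∈ U 3, (∀ u ∈ U 3, ∃ s t, u = act s e * act t w) ∧
    ((w = 1 ∧ Nat.card (U 3) = Nat.card K) ∨
      ((∀ t, t ^ 2 + qf π w e * t + π w ≠ 0) ∧ Nat.card (U 3) = Nat.card K ^ 2)) := by
  by_cases k : ∀ u ∈ U 3, ∃ s, u = act s e
  · refine ⟨1, one_mem _, fun u hu => ?_, Or.inl ⟨rfl, (Nat.card_congr (Equiv.ofBijective
      (fun s => (⟨act s e, c.act_mem s e c.e_mem⟩ : U 3)) ⟨fun s t e' => ?_, fun u => ?_⟩)).symm⟩⟩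
    · obtain ⟨s, hs⟩ := k u hu
      exact ⟨s, 0, by rw [c.act_un, mul_one, hs]⟩
    · have e1 : act (s + -t) e = 1 := by
        rw [c.i_add h hc _ _ c.e_mem, c.i_neg h hc _ c.e_mem, mul_inv_eq_one]; exact congrArg Subtype.val e'
      have := c.one hc (s + -t)
      rw [e1, c.π_one h] at this
      exact sub_eq_zero.1 (by rw [sub_eq_add_neg]; exact pow_eq_zero_iff two_ne_zero |>.1 this.symm)
    · obtain ⟨s, hs⟩ := k u u.2
      exact ⟨s, Subtype.ext hs.symm⟩
  push Not at k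
  obtain ⟨w, hw, k⟩ := k
  have an : ∀ t, t ^ 2 + qf π w e * t + π w ≠ 0 := fun t e' => by
    have := (c.π_eq h (mul_mem (c.act_mem t e c.e_mem) (c.act_mem 1 w hw))).1 (by
      rw [c.i_two h hc t 1 hw, ← e']; ring)
    rw [c.act_one w hw] at this
    exact k (-t) (by rw [c.i_neg h hc _ c.e_mem]; exact eq_inv_of_mul_eq_one_right this)
  have an' : ∀ s t, act s e * act t w = 1 → s = 0 ∧ t = 0 := fun s t e' =>
    (Cl.quad_aniso_iff _ _).2 an s t (by rw [← c.i_two h hc s t hw, e', c.π_one h])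
  have sp : ∀ u ∈ U 3, ∃ s t, u = act s e * act t w := fun u hu => by
    obtain ⟨x, y, z, hne, h0⟩ := Cl.quad_ternary_zero 1 (π w) (π u) (qf π w e) (qf π u e) (qf π u w)
    have m1 := c.act_mem x e c.e_mem
    have m2 := c.act_mem y w hw
    have m3 := c.act_mem z u hu
    have e1 := (c.π_eq h (mul_mem (mul_mem m1 m2) m3)).1 (by
      rw [c.π_mul h, c.i_two h hc x y hw, c.i_π h hc z hu, c.f_mul_right h m1 m3 m2, c.i_f h hc _ _ c.e_mem hu,
        c.i_f h hc _ _ hw hu, ← h0]; ring)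
    by_cases z0 : z = 0
    · rw [z0, c.act_zero h hu, mul_one] at e1
      exact absurd ⟨(an' x y e1).1, (an' x y e1).2, z0⟩ hne
    · refine ⟨z⁻¹ * -x, z⁻¹ * -y, ?_⟩
      rw [← c.i_act h hc _ _ _ hw, ← c.i_inv h hc _ _ hw, ← eq_inv_of_mul_eq_one_right e1, c.act_act _ _ _ hu,
        inv_mul_cancel₀ z0, c.act_one u hu]
  refine ⟨w, hw, sp, Or.inr ⟨an, ?_⟩⟩
  rw [pow_two, ← Nat.card_prod]
  refine (Nat.card_congr (Equiv.ofBijective (fun x : K × K => (⟨act x.1 e * act x.2 w,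
    mul_mem (c.act_mem _ e c.e_mem) (c.act_mem _ w hw)⟩ : U 3)) ⟨fun x y e' => ?_, fun u => ?_⟩)).symm
  · have := an' (x.1 + -y.1) (x.2 + -y.2) (by
      rw [← c.i_mul h hc _ _ _ _ hw, ← c.i_inv h hc _ _ hw, mul_inv_eq_one]; exact congrArg Subtype.val e')
    exact Prod.ext (add_neg_eq_zero.1 this.1) (add_neg_eq_zero.1 this.2)
  · obtain ⟨s, t, hs⟩ := sp u u.2
    exact ⟨(s, t), Subtype.ext hs.symm⟩

end One

section Two

variable (h : IsPoly 4 U) (c : QC U x0 x2 n e act π σ) (hc : ¬ Cm (U 0) (U 2))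
include h c hc

theorem j_σ (a : K) : σ (σ a) = a := (c.two hc).1 a

theorem j_e : ∃ a, qz x0 x2 n a = e := by
  obtain ⟨a, ha⟩ := (c.two hc).2
  exact ⟨a, by rw [qz, ha]; group⟩

theorem j_key (s t a : K) : π (qz x0 x2 n (σ s * (π (qz x0 x2 n a) * t))) =
    (π (act (s + t) e) - π (act s e) - π (act t e)) * π (qz x0 x2 n a) := by
  have hz := c.z_mem h a
  have := congrArg π (c.act_add h s t hz)
  rw [c.π_mul_z h _ (mul_mem (c.act_mem t _ hz) (c.act_mem s _ hz)), c.π_act _ _ hz, c.act_z s,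
    c.π_mul_z h _ (c.act_mem t _ hz), ← c.act_z s, c.π_act t _ hz, c.π_act s _ hz] at this
  linear_combination -this

theorem j_ω (t : K) : π (act t e) = t * σ t := by
  obtain ⟨a, ha⟩ := c.j_e h hc
  have k1 : ∀ b d, π (qz x0 x2 n (π (qz x0 x2 n b) * d)) = π (qz x0 x2 n d) * π (qz x0 x2 n b) := fun b d => by
    have e1 := c.j_key h hc 1 d b
    have e2 := c.j_key h hc 1 d a
    rw [ha, c.π_e, map_one, one_mul, one_mul, mul_one] at e2
    rw [map_one, one_mul, ← e2] at e1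
    exact e1
  by_contra k
  have k2 : ∀ d, π (qz x0 x2 n ((t * σ t - π (act t e)) * d)) = 0 := fun d => by
    have e1 := k1 (t * σ t * a) d
    rw [← c.act_z, ha] at e1
    rw [sub_mul, sub_eq_add_neg, c.z_add h, c.π_mul_z h _ (c.z_mem h _), ← c.act_z, c.π_act _ _ (c.z_mem h d)]
    have e2 := c.π_mul_z h (-(π (act t e) * d)) (c.z_mem h (π (act t e) * d))
    rw [← c.z_add h, add_neg_cancel, c.z_zero h, c.π_one h, e1] at e2
    linear_combination -e2
  have := k2 ((t * σ t - π (act t e))⁻¹ * a)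
  rw [mul_inv_cancel_left₀ (sub_ne_zero.2 (Ne.symm k)), ha, c.π_e] at this
  exact one_ne_zero this

theorem j_τ (d : K) : π (qz x0 x2 n d) = d + σ d := by
  obtain ⟨a, ha⟩ := c.j_e h hc
  have e2 := c.j_key h hc 1 d a
  rw [ha, c.π_e, map_one, one_mul, one_mul, mul_one, c.j_ω h hc, c.j_ω h hc, c.j_ω h hc, map_add, map_one] at e2
  rw [e2]; ring

theorem j_tr : ∃ a, a + σ a = 1 := by
  obtain ⟨a, ha⟩ := c.j_e h hc
  exact ⟨a, by rw [← c.j_τ h hc, ha, c.π_e]⟩

theorem j_π (t : K) {u : Γ} (hu : u ∈ U 3) : π (act t u) = t * σ t * π u := by rw [c.π_act t u hu, c.j_ω h hc]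

theorem j_f (t : K) {u v : Γ} (hu : u ∈ U 3) (hv : v ∈ U 3) : qf π v (act t u) = σ t * qf π v u := by
  by_cases t0 : t = 0
  · rw [t0, c.act_zero h hu, c.f_one_right h, map_zero, zero_mul]
  have := c.j_π h hc t (mul_mem hu hv)
  rw [c.act_mul t u hu v hv, c.π_mul h, c.π_mul h, c.j_π h hc t hu, c.j_π h hc t hv,
    c.f_act h t (c.act_mem t u hu) hv] at this
  exact mul_left_cancel₀ t0 (by linear_combination this)

theorem j_self {u : Γ} (hu : u ∈ U 3) : qf π u u = π u - σ (π u) := by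
  have := congrArg π (c.act_add h 1 1 hu)
  rw [c.j_π h hc _ hu, c.act_one u hu, c.π_mul_z h _ (mul_mem hu hu), c.π_mul h, c.j_τ h hc, map_add, map_one,
    one_mul, mul_one] at this
  linear_combination -this

theorem j_skew {u v : Γ} (hu : u ∈ U 3) (hv : v ∈ U 3) : qf π u v = -σ (qf π v u) := by
  have := c.j_self h hc (mul_mem hu hv)
  rw [c.f_mul_left h (mul_mem hu hv) hu hv, c.f_mul_right h hu hu hv, c.f_mul_right h hu hv hv, c.j_self h hc hu,
    c.j_self h hc hv, c.π_mul h, map_add, map_add] at this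
  linear_combination this

theorem j_mem {u : Γ} (hu : u ∈ U 3) (k : σ (π u) = π u) : ∃ a, u = qz x0 x2 n a := by
  obtain ⟨a, ha⟩ := c.j_tr h hc
  have := (c.π_eq h (mul_mem hu (c.z_mem h (-(π u * a))))).1 (by
    rw [c.π_mul_z h _ hu, c.j_τ h hc, map_neg, map_mul, k]; linear_combination -π u * ha)
  exact ⟨π u * a, by rw [c.z_neg h] at this; exact mul_inv_eq_one.1 this⟩

theorem j_two (t a : K) {w : Γ} (hw : w ∈ U 3) : π (act t w * qz x0 x2 n a) = t * σ t * π w + (a + σ a) := by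
  rw [c.π_mul_z h _ (c.act_mem t w hw), c.j_π h hc t hw, c.j_τ h hc]

omit hc in
theorem j_mul (t a s b : K) {w : Γ} (hw : w ∈ U 3) : act t w * qz x0 x2 n a * (act s w * qz x0 x2 n b) =
    act (s + t) w * qz x0 x2 n (a + b - σ s * (π w * t)) := by
  rw [c.act_add h s t hw, mul_assoc (act t w * act s w), ← c.z_add h, add_sub_cancel, c.z_add h, mul_assoc (act t w),
    ← mul_assoc (qz x0 x2 n a), (c.z_comm h a (c.act_mem s w hw)).eq]
  group

omit hc in
theorem j_act (r t a : K) {w : Γ} (hw : w ∈ U 3) :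
    act r (act t w * qz x0 x2 n a) = act (r * t) w * qz x0 x2 n (r * σ r * a) := by
  rw [c.act_mul r _ (c.act_mem t w hw) _ (c.z_mem h a), c.act_act _ _ _ hw, c.act_z]

theorem j_cardV : Nat.card {u // ∃ a, u = qz x0 x2 n a} = Nat.card {a : K // σ a = a} := by
  refine Nat.card_congr (Equiv.ofBijective (fun u => ⟨π u.1, ?_⟩) ⟨?_, ?_⟩)
  · obtain ⟨_, a, rfl⟩ := u
    rw [c.j_τ h hc, map_add, c.j_σ h hc, add_comm]
  · rintro ⟨_, a, rfl⟩ ⟨_, b, rfl⟩ e'
    have e1 : π (qz x0 x2 n a) = π (qz x0 x2 n b) := congrArg Subtype.val e'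
    have := (c.π_eq h (c.z_mem h (a + -b))).1 (by
      rw [c.j_τ h hc] at e1 ⊢; rw [c.j_τ h hc] at e1; rw [map_add, map_neg]; linear_combination e1)
    rw [c.z_add h, c.z_neg h, mul_inv_eq_one] at this
    exact Subtype.ext this
  · rintro ⟨p, hp⟩
    obtain ⟨a, ha⟩ := c.j_tr h hc
    exact ⟨⟨_, p * a, rfl⟩, Subtype.ext (by
      change π _ = p
      rw [c.j_τ h hc, map_mul, hp]; linear_combination p * ha)⟩

/-- `U 3` modulo the centre is an anisotropic skew-hermitian space of dimension at most one. -/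
theorem j_span : ∃ w ∈ U 3, (∀ u ∈ U 3, ∃ t a, u = act t w * qz x0 x2 n a) ∧
    ((w = 1 ∧ Nat.card (U 3) = Nat.card {a : K // σ a = a}) ∨
      (σ (π w) ≠ π w ∧ Nat.card (U 3) = Nat.card K * Nat.card {a : K // σ a = a})) := by
  by_cases k : ∀ u ∈ U 3, σ (π u) = π u
  · refine ⟨1, one_mem _, fun u hu => ?_, Or.inl ⟨rfl, ?_⟩⟩
    · obtain ⟨a, ha⟩ := c.j_mem h hc hu (k u hu)
      exact ⟨0, a, by rw [c.act_un, one_mul, ha]⟩
    · rw [← c.j_cardV h hc]
      exact Nat.card_congr (Equiv.subtypeEquivRight fun u =>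
        ⟨fun hu => c.j_mem h hc hu (k u hu), fun ⟨a, ha⟩ => ha ▸ c.z_mem h a⟩)
  push Not at k
  obtain ⟨w, hw, k⟩ := k
  have f0 : qf π w w ≠ 0 := by rw [c.j_self h hc hw]; exact sub_ne_zero.2 k.symm
  have inv : Cl.UInvol (σ : K →+* K) := ⟨c.j_σ h hc, _, k⟩
  have sp : ∀ u ∈ U 3, ∃ t a, u = act t w * qz x0 x2 n a := fun u hu => by
    set l := qf π u w / qf π w w
    have m1 := mul_mem (inv_mem (c.act_mem l w hw)) hu
    have e1 : qf π ((act l w)⁻¹ * u) w = 0 := by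
      have := c.f_mul_left h hw (c.act_mem l w hw) m1
      rw [mul_inv_cancel_left, c.f_act h l hw hw, div_mul_cancel₀ _ f0] at this
      linear_combination -this
    set v := (act l w)⁻¹ * u with hv
    suffices σ (π v) = π v by
      obtain ⟨a, ha⟩ := c.j_mem h hc m1 this
      exact ⟨l, a, by rw [← ha, hv, mul_inv_cancel_left]⟩
    by_contra k'
    obtain ⟨t, ht⟩ := inv.exists_norm_eq (a := -(qf π v v / qf π w w)) (by
      change σ _ = _
      rw [c.j_self h hc hw, c.j_self h hc m1, map_neg, map_div₀, map_sub, map_sub, c.j_σ h hc, c.j_σ h hc,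
        ← neg_sub (π v), ← neg_sub (π w), neg_div_neg_eq])
    have ht' : t * σ t * qf π w w = -qf π v v := by rw [show σ t = (σ : K →+* K) t from rfl, ht]; field_simp
    have m2 := c.act_mem t w hw
    have e2 : qf π w v = 0 := by rw [c.j_skew h hc hw m1, e1, map_zero, neg_zero]
    obtain ⟨a, ha⟩ := c.j_mem h hc (mul_mem m2 m1) (by
      have := c.j_self h hc (mul_mem m2 m1)
      rw [c.f_mul_left h (mul_mem m2 m1) m2 m1, c.f_mul_right h m2 m2 m1, c.f_mul_right h m2 m1 m1,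
        c.f_act h t m2 hw, c.j_f h hc t hw hw, c.f_act h t m1 hw, c.j_f h hc t hw m1, e1, e2] at this
      linear_combination this - ht')
    have e3 := c.f_z_left h a hw
    rw [← ha, c.f_mul_left h hw m2 m1, c.f_act h t hw hw, e1, add_zero, mul_eq_zero] at e3
    rw [e3.resolve_right f0, zero_mul, zero_mul, c.j_self h hc m1] at ht'
    exact k' (by linear_combination -ht')
  refine ⟨w, hw, sp, Or.inr ⟨k, ?_⟩⟩
  rw [← c.j_cardV h hc, ← Nat.card_prod]
  refine (Nat.card_congr (Equiv.ofBijective (fun x : K × {u // ∃ a, u = qz x0 x2 n a} => (⟨act x.1 w * x.2,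
    mul_mem (c.act_mem _ w hw) (x.2.2.choose_spec ▸ c.z_mem h _)⟩ : U 3)) ⟨?_, fun u => ?_⟩)).symm
  · rintro ⟨t, _, a, rfl⟩ ⟨s, _, b, rfl⟩ e'
    have e1 : act t w * qz x0 x2 n a = act s w * qz x0 x2 n b := congrArg Subtype.val e'
    have e2 := congrArg (qf π · w) e1
    simp only [c.f_mul_left h hw (c.act_mem _ w hw) (c.z_mem h _), c.f_z_left h _ hw, add_zero, c.f_act h _ hw hw] at e2
    obtain rfl := mul_right_cancel₀ f0 e2
    exact Prod.ext rfl (Subtype.ext (mul_left_cancel e1))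
  · obtain ⟨t, a, hs⟩ := sp u u.2
    exact ⟨(t, ⟨_, a, rfl⟩), Subtype.ext hs.symm⟩

/-- The automorphism `σ`. -/
theorem j_cases : ((∀ a, σ a = a) ∧ Nat.card {a : K // σ a = a} = Nat.card K) ∨
    ∃ r, Cl.UField (σ : K →+* K) r ∧ Nat.card {a : K // σ a = a} = r := by
  by_cases k : ∀ a, σ a = a
  · exact Or.inl ⟨k, Nat.card_congr (Equiv.subtypeUnivEquiv k)⟩
  · obtain ⟨r, hr⟩ := (⟨c.j_σ h hc, not_forall.1 k⟩ : Cl.UInvol (σ : K →+* K)).exists_uField
    exact Or.inr ⟨r, hr, hr.card_fixed⟩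

end Two

end QC

end Cfsg.Agent.Bld
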