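import Mathlib
import Cfsg.Agent.Bld.Quad2B

/-! The quadrangle of a finite building of type `B₃` is determined by its parameters. -/

set_option autoImplicit false
set_option linter.unusedSectionVars false

namespace Cfsg.Agent.Bld

open scoped commutatorElement

variable {Γ Γ' : Type*} [Group Γ] [Group Γ'] [Finite Γ] [Finite Γ']
  {U : ℤ → Subgroup Γ} {U' : ℤ → Subgroup Γ'} {K K' : Type*} [Field K] [Field K'] [Finite K]
  [Finite K'] {x0 x2 : K → Γ} {n e : Γ} {act : K → Γ → Γ} {π : Γ → K} {σ : K ≃+* K}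
  {x0' x2' : K' → Γ'} {n' e' : Γ'} {act' : K' → Γ' → Γ'} {π' : Γ' → K'} {σ' : K' ≃+* K'}

theorem QC.qpar (h : IsPoly 4 U) (c : QC U x0 x2 n e act π σ) :
    QPar (Nat.card (U 0)) (Nat.card (U 3)) (Cm (U 0) (U 2)) (Cm (U 1) (U 3)) := by
  rw [c.p0.q2_card]
  refine ⟨?_, ?_⟩
  · have := Fintype.ofFinite K
    rw [Nat.card_eq_fintype_card]; exact Fintype.isPrimePow_card_of_field
  by_cases hc : Cm (U 0) (U 2)
  · obtain ⟨w, -, -, k⟩ := c.i_span h hc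
    exact Or.inl ⟨hc, k.imp And.right And.right⟩
  obtain ⟨w, hw, sp, k⟩ := c.j_span h hc
  rcases c.j_cases h hc with ⟨k1, k2⟩ | ⟨r, k1, k2⟩
  · obtain ⟨rfl, k4⟩ := k.resolve_right fun k => k.1 (k1 _)
    refine Or.inr (Or.inl ⟨hc, k4.trans k2, ?_, fun b hb u hu => ?_⟩)
    · have := Fintype.ofFinite K
      obtain ⟨a, ha⟩ := c.j_tr h hc
      rw [Nat.card_eq_fintype_card, ← Nat.not_even_iff_odd, Nat.even_iff, ← FiniteField.even_card_iff_char_two]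
      intro k3
      have : (2 : K) = 0 := by simpa [k3] using ringChar.Nat.cast_ringChar (R := K)
      exact one_ne_zero (α := K) (by rw [k1] at ha; linear_combination -ha + a * this)
    · have hv : n⁻¹ * b * n ∈ U 3 := (c.n_mem _).2 (by simpa [mul_assoc] using hb)
      obtain ⟨t, a, ha⟩ := sp _ hv
      have := c.c13' h hu hv
      rw [c.act_un, one_mul] at ha
      rw [ha, c.f_z_left h a hu, neg_zero, c.p2.q2_zero, ← ha] at this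
      exact commutatorElement_eq_one_iff_commute.1 (by simpa [mul_assoc] using this)
  · refine Or.inr (Or.inr ⟨hc, r, k1.isPrimePow, k1.card, k.imp (fun k => k.2.trans k2) fun k => ?_⟩)
    rw [k.2, k2, k1.card]; ring

theorem q2_gr_of_card {A : Subgroup Γ} {A' : Subgroup Γ'} {E : Subgroup (Γ × Γ')} (hc : Nat.card A = Nat.card A')
    (le : ∀ x ∈ E, x.1 ∈ A ∧ x.2 ∈ A') (fst : ∀ a ∈ A, ∃ a', (a, a') ∈ E) (one : ∀ x ∈ E, x.1 = 1 ↔ x.2 = 1) :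
    IsGr A A' E := by
  refine ⟨le, fst, fun a' ha' => ?_, one⟩
  choose f hf using fst
  have : Function.Bijective (fun a : A => (⟨f a a.2, (le _ (hf a a.2)).2⟩ : A')) :=
    (Nat.bijective_iff_injective_and_card _).2 ⟨fun a b k => Subtype.ext (mul_inv_eq_one.1
      ((one _ (mul_mem (hf a a.2) (inv_mem (hf b b.2)))).2 (mul_inv_eq_one.2 (congrArg Subtype.val k)))), hc⟩
  obtain ⟨a, ha⟩ := this.2 ⟨a', ha'⟩
  exact ⟨a, by rw [← show f a a.2 = a' from congrArg Subtype.val ha]; exact hf a a.2⟩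

theorem q2_par {A : Subgroup Γ} {A' : Subgroup Γ'} {x : K → Γ} {x' : K' → Γ'} (p : IsPar A x) (p' : IsPar A' x')
    (τ : K ≃+* K') : ∃ D, IsGr A A' D ∧ ∀ y, y ∈ D ↔ ∃ a, y = (x a, x' (τ a)) := by
  refine ⟨⟨⟨⟨{y | ∃ a, y = (x a, x' (τ a))}, ?_⟩, 0, ?_⟩, ?_⟩, ⟨?_, fun g hg => ?_, fun g hg => ?_, ?_⟩, fun _ => Iff.rfl⟩
  · rintro _ _ ⟨a, rfl⟩ ⟨b, rfl⟩
    exact ⟨a + b, by rw [map_add, p.add, p'.add]; rfl⟩
  · rw [map_zero, p.q2_zero, p'.q2_zero]; rfl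
  · rintro _ ⟨a, rfl⟩
    exact ⟨-a, by rw [map_neg, p.q2_neg, p'.q2_neg]; rfl⟩
  · rintro _ ⟨a, rfl⟩
    exact ⟨p.q2_mem a, p'.q2_mem _⟩
  · obtain ⟨a, rfl⟩ := (p.mem g).1 hg
    exact ⟨_, a, rfl⟩
  · obtain ⟨a, rfl⟩ := (p'.mem g).1 hg
    exact ⟨x (τ.symm a), τ.symm a, by rw [τ.apply_symm_apply]⟩
  · rintro _ ⟨a, rfl⟩
    rw [← p.q2_zero, ← p'.q2_zero, p.inj.eq_iff, p'.inj.eq_iff, map_eq_zero]

theorem QC.q2_graph (h : IsPoly 4 U) (h' : IsPoly 4 U') (c : QC U x0 x2 n e act π σ)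
    (c' : QC U' x0' x2' n' e' act' π' σ') (τ : K ≃+* K') {E : Subgroup (Γ × Γ')} (h3 : Nat.card (U 3) = Nat.card (U' 3))
    (le : ∀ x ∈ E, x.1 ∈ U 3 ∧ x.2 ∈ U' 3) (fst : ∀ a ∈ U 3, ∃ a', (a, a') ∈ E)
    (hπ : ∀ x ∈ E, π' x.2 = τ (π x.1)) (ha : ∀ t, ∀ x ∈ E, (act t x.1, act' (τ t) x.2) ∈ E)
    (hz : ∀ a b, (qz x0 x2 n (σ a * b), qz x0' x2' n' (σ' (τ a) * τ b)) ∈ E) : ∃ D, Graph 4 U U' D := by
  have hE : IsGr (U 3) (U' 3) E := q2_gr_of_card h3 le fst fun x hx => by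
    rw [← c.π_eq h (le x hx).1, ← c'.π_eq h' (le x hx).2, hπ x hx, map_eq_zero]
  obtain ⟨D0, g0, m0⟩ := q2_par c.p0 c'.p0 τ
  obtain ⟨D2, g2, m2⟩ := q2_par c.p2 c'.p2 τ
  obtain ⟨D1, m1⟩ : ∃ D1 : Subgroup (Γ × Γ'), ∀ y, y ∈ D1 ↔ ∃ x ∈ E, y = (n * x.1 * n⁻¹, n' * x.2 * n'⁻¹) :=
    ⟨E.map (MulAut.conj (n, n')).toMonoidHom, fun y => by
      rw [Subgroup.mem_map]; exact exists_congr fun x => and_congr_right fun _ => eq_comm⟩
  have g1 : IsGr (U 1) (U' 1) D1 := by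
    refine ⟨fun y hy => ?_, fun g hg => ?_, fun g hg => ?_, fun y hy => ?_⟩
    · obtain ⟨x, hx, rfl⟩ := (m1 y).1 hy
      exact ⟨c.ph (le x hx).1, c'.ph (le x hx).2⟩
    · obtain ⟨g', hg'⟩ := fst (n⁻¹ * g * n) ((c.n_mem _).2 (by simpa [mul_assoc] using hg))
      exact ⟨_, (m1 _).2 ⟨_, hg', Prod.ext (by simp [mul_assoc]) rfl⟩⟩
    · obtain ⟨g', hg'⟩ := hE.snd (n'⁻¹ * g * n') ((c'.n_mem _).2 (by simpa [mul_assoc] using hg))
      exact ⟨_, (m1 _).2 ⟨_, hg', Prod.ext rfl (by simp [mul_assoc])⟩⟩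
    · obtain ⟨x, hx, rfl⟩ := (m1 y).1 hy
      simpa [mul_inv_eq_iff_eq_mul] using hE.one x hx
  let D : ℤ → Subgroup (Γ × Γ') := fun k => if k = 0 then D0 else if k = 1 then D1 else if k = 2 then D2 else E
  have gr : ∀ k : ℤ, 0 ≤ k → k < (4 : ℕ) → IsGr (U k) (U' k) (D k) := fun k k0 k4 => by
    obtain rfl | rfl | rfl | rfl : k = 0 ∨ k = 1 ∨ k = 2 ∨ k = 3 := by omega
    exacts [g0, g1, g2, hE]
  refine ⟨D, gr, fun k r k0 k4 x hx y hy => ?_⟩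
  obtain rfl | ⟨rfl, rfl⟩ | ⟨rfl, rfl⟩ | ⟨rfl, rfl⟩ : r = 0 ∨ (k = 0 ∧ r = 1) ∨ (k = 1 ∧ r = 1) ∨ (k = 0 ∧ r = 2) := by
    omega
  · have e1 := (gr k k0 (by omega)).le x hx
    have e2 := (gr _ (by omega) k4).le y hy
    simp only [Nat.cast_zero, add_zero] at e2
    exact Prod.ext (commutatorElement_eq_one_iff_commute.2 (h.q2_adj k e1.1 e2.1))
      (commutatorElement_eq_one_iff_commute.2 (h'.q2_adj k e1.2 e2.2))
  · obtain ⟨a, rfl⟩ := (m0 x).1 hx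
    obtain ⟨b, rfl⟩ := (m2 y).1 hy
    exact mem_UP_one.2 ((m1 _).2 ⟨_, hz a b, Prod.ext (c.gam a b) (c'.gam _ _)⟩)
  · obtain ⟨v, hv, rfl⟩ := (m1 x).1 hx
    have hy' : y ∈ E := hy
    refine mem_UP_one.2 ((m2 _).2 ⟨-qf π v.1 y.1, Prod.ext (c.c13' h (le y hy').1 (le v hv).1) ?_⟩)
    have := hπ _ (mul_mem hy' hv)
    rw [Prod.fst_mul, Prod.snd_mul] at this
    rw [map_neg, qf, map_sub, map_sub, ← this, ← hπ y hy', ← hπ v hv]
    exact c'.c13' h' (le y hy').2 (le v hv).2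
  · obtain ⟨a, rfl⟩ := (m0 x).1 hx
    have hy' : y ∈ E := hy
    refine mem_UP_two.2 ⟨_, (m1 _).2 ⟨_, ha a y hy', rfl⟩, _, (m2 _).2 ⟨π y.1 * a, rfl⟩,
      Prod.ext (c.c03 a _ (le y hy').1).symm ?_⟩
    rw [map_mul, ← hπ y hy']
    exact (c'.c03 _ _ (le y hy').2).symm

theorem QC.q2_one (h : IsPoly 4 U) (h' : IsPoly 4 U') (c : QC U x0 x2 n e act π σ)
    (c' : QC U' x0' x2' n' e' act' π' σ') (τ : K ≃+* K') (h3 : Nat.card (U 3) = Nat.card (U' 3))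
    (hc : Cm (U 0) (U 2)) (hc' : Cm (U' 0) (U' 2)) {w : Γ} {w' : Γ'} (hw : w ∈ U 3) (hw' : w' ∈ U' 3)
    (sp : ∀ u ∈ U 3, ∃ s t, u = act s e * act t w) (h1 : qf π' w' e' = τ (qf π w e)) (h2 : π' w' = τ (π w)) :
    ∃ D, Graph 4 U U' D := by
  let E : Subgroup (Γ × Γ') := ⟨⟨⟨{y | ∃ s t, y = (act s e * act t w, act' (τ s) e' * act' (τ t) w')}, by
    rintro _ _ ⟨s, t, rfl⟩ ⟨s', t', rfl⟩
    exact ⟨s + s', t + t', by rw [map_add, map_add, ← c.i_mul h hc _ _ _ _ hw, ← c'.i_mul h' hc' _ _ _ _ hw']; rfl⟩⟩,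
    0, 0, by rw [map_zero, c.act_zero h hw, c.act_zero h c.e_mem, c'.act_zero h' hw', c'.act_zero h' c'.e_mem,
      mul_one, mul_one]; rfl⟩, by
    rintro _ ⟨s, t, rfl⟩
    exact ⟨-s, -t, by rw [map_neg, map_neg, ← c.i_inv h hc _ _ hw, ← c'.i_inv h' hc' _ _ hw']; rfl⟩⟩
  refine c.q2_graph h h' c' τ (E := E) h3 ?_ (fun u hu => ?_) ?_ ?_ fun a b => ?_
  · rintro _ ⟨s, t, rfl⟩
    exact ⟨mul_mem (c.act_mem _ _ c.e_mem) (c.act_mem _ _ hw), mul_mem (c'.act_mem _ _ c'.e_mem) (c'.act_mem _ _ hw')⟩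
  · obtain ⟨s, t, rfl⟩ := sp u hu
    exact ⟨_, s, t, rfl⟩
  · rintro _ ⟨s, t, rfl⟩
    simp only [c.i_two h hc _ _ hw, c'.i_two h' hc' _ _ hw', h1, h2, map_add, map_mul, map_pow]
  · rintro r _ ⟨s, t, rfl⟩
    exact ⟨r * s, r * t, by simp only [c.i_act h hc _ _ _ hw, c'.i_act h' hc' _ _ _ hw', map_mul]⟩
  · rw [c.i_z h hc, c'.i_z h' hc']; exact one_mem E

theorem QC.q2_two (h : IsPoly 4 U) (h' : IsPoly 4 U') (c : QC U x0 x2 n e act π σ)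
    (c' : QC U' x0' x2' n' e' act' π' σ') (τ : K ≃+* K') (h3 : Nat.card (U 3) = Nat.card (U' 3))
    (hc : ¬ Cm (U 0) (U 2)) (hc' : ¬ Cm (U' 0) (U' 2)) {w : Γ} {w' : Γ'} (hw : w ∈ U 3) (hw' : w' ∈ U' 3)
    (sp : ∀ u ∈ U 3, ∃ t a, u = act t w * qz x0 x2 n a) (h1 : ∀ a, σ' (τ a) = τ (σ a)) (h2 : π' w' = τ (π w)) :
    ∃ D, Graph 4 U U' D := by
  have inv : ∀ t a, (act t w * qz x0 x2 n a)⁻¹ = act (-t) w * qz x0 x2 n (-a - σ t * (π w * t)) := fun t a =>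
    inv_eq_of_mul_eq_one_right (by
      rw [c.j_mul h _ _ _ _ hw, neg_add_cancel, c.act_zero h hw, one_mul, ← c.z_zero h, map_neg]; congr 1; ring)
  have inv' : ∀ t a, (act' t w' * qz x0' x2' n' a)⁻¹ = act' (-t) w' * qz x0' x2' n' (-a - σ' t * (π' w' * t)) :=
    fun t a => inv_eq_of_mul_eq_one_right (by
      rw [c'.j_mul h' _ _ _ _ hw', neg_add_cancel, c'.act_zero h' hw', one_mul, ← c'.z_zero h', map_neg]; congr 1; ring)
  let E : Subgroup (Γ × Γ') := ⟨⟨⟨{y | ∃ t a, y = (act t w * qz x0 x2 n a, act' (τ t) w' * qz x0' x2' n' (τ a))}, by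
    rintro _ _ ⟨t, a, rfl⟩ ⟨s, b, rfl⟩
    exact ⟨s + t, a + b - σ s * (π w * t), by
      rw [map_sub, map_add, map_add, map_mul, map_mul, ← h1, ← h2, ← c.j_mul h _ _ _ _ hw, ← c'.j_mul h' _ _ _ _ hw']; rfl⟩⟩,
    0, 0, by rw [map_zero, c.act_zero h hw, c.z_zero h, c'.act_zero h' hw', c'.z_zero h', mul_one, mul_one]; rfl⟩, by
    rintro _ ⟨t, a, rfl⟩
    exact ⟨-t, -a - σ t * (π w * t), by
      rw [map_sub, map_neg, map_neg, map_mul, map_mul, ← h1, ← h2, ← inv, ← inv']; rfl⟩⟩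
  refine c.q2_graph h h' c' τ (E := E) h3 ?_ (fun u hu => ?_) ?_ ?_ fun a b => ?_
  · rintro _ ⟨t, a, rfl⟩
    exact ⟨mul_mem (c.act_mem _ _ hw) (c.z_mem h _), mul_mem (c'.act_mem _ _ hw') (c'.z_mem h' _)⟩
  · obtain ⟨s, t, rfl⟩ := sp u hu
    exact ⟨_, s, t, rfl⟩
  · rintro _ ⟨s, t, rfl⟩
    simp only [c.j_two h hc _ _ hw, c'.j_two h' hc' _ _ hw', h1, h2, map_add, map_mul]
  · rintro r _ ⟨s, t, rfl⟩
    exact ⟨r * s, r * σ r * t, by simp only [c.j_act h _ _ _ hw, c'.j_act h' _ _ _ hw', map_mul, h1]⟩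
  · exact ⟨0, σ a * b, by rw [map_zero, c.act_zero h hw, c'.act_zero h' hw', one_mul, one_mul, map_mul, h1]⟩

theorem QC.graph (h : IsPoly 4 U) (h' : IsPoly 4 U') (c : QC U x0 x2 n e act π σ)
    (c' : QC U' x0' x2' n' e' act' π' σ') (h0 : Nat.card (U 0) = Nat.card (U' 0))
    (h3 : Nat.card (U 3) = Nat.card (U' 3)) (hk : Cm (U 0) (U 2) ↔ Cm (U' 0) (U' 2)) :
    ∃ D, Graph 4 U U' D := by
  rw [c.p0.q2_card, c'.p0.q2_card] at h0
  have := Fintype.ofFinite K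
  have := Fintype.ofFinite K'
  have τ : K ≃+* K' := FiniteField.ringEquivOfCardEq (by rw [← Nat.card_eq_fintype_card, h0, Nat.card_eq_fintype_card])
  have q2 : 1 < Nat.card K' := Finite.one_lt_card
  by_cases hc : Cm (U 0) (U 2)
  · have hc' := hk.1 hc
    obtain ⟨w, hw, sp, k⟩ := c.i_span h hc
    obtain ⟨w', hw', -, k'⟩ := c'.i_span h' hc'
    rcases k with ⟨rfl, -⟩ | ⟨k1, k2⟩
    · exact c.q2_one h h' c' τ h3 hc hc' hw (one_mem _) sp (by rw [c.f_one_left h, c'.f_one_left h', map_zero])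
        (by rw [c.π_one h, c'.π_one h', map_zero])
    obtain ⟨k3, -⟩ := k'.resolve_left fun k' => by rw [h3, k'.2, h0] at k2; nlinarith
    obtain ⟨s, t, e1, e2⟩ := Cl.quad_aniso_solve k3 (a' := τ (qf π w e)) (b' := τ (π w)) fun t k => k1 (τ.symm t)
      (τ.injective (by rw [map_add, map_add, map_mul, map_pow, τ.apply_symm_apply, k, map_zero]))
    have m1 := c'.act_mem s _ c'.e_mem
    have m2 := c'.act_mem t _ hw'
    refine c.q2_one h h' c' τ h3 hc hc' hw (mul_mem m1 m2) sp ?_ (by rw [c'.i_two h' hc' _ _ hw', ← e2])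
    rw [c'.f_mul_left h' c'.e_mem m1 m2, c'.f_act h' _ c'.e_mem c'.e_mem, c'.f_act h' _ c'.e_mem hw',
      c'.i_self h' hc' c'.e_mem, c'.π_e, ← e1]
    ring
  have hc' := mt hk.2 hc
  obtain ⟨w, hw, sp, k⟩ := c.j_span h hc
  obtain ⟨w', hw', -, k'⟩ := c'.j_span h' hc'
  have key : (∀ a, σ' (τ a) = τ (σ a)) ∧ Nat.card {a : K // σ a = a} = Nat.card {a : K' // σ' a = a} := by
    have pw : ∀ r : ℕ, 2 ≤ r → r ^ 2 ≠ r ∧ r ^ 2 ≠ r ^ 2 * r := fun r hr => ⟨by nlinarith, by nlinarith [pow_pos (by omega : 0 < r) 2]⟩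
    rcases c.j_cases h hc with ⟨k1, k2⟩ | ⟨r, k1, k2⟩ <;> rcases c'.j_cases h' hc' with ⟨k1', k2'⟩ | ⟨r', k1', k2'⟩
    · exact ⟨fun a => by rw [k1, k1'], by rw [k2, k2', h0]⟩
    · have := (k.resolve_right fun k => k.1 (k1 _)).2
      rw [k2, h0, h3, k1'.card] at this
      rw [this, k2', k1'.card] at k'
      exact (k'.elim (fun k' => (pw _ k1'.two_le).1 k'.2) fun k' => (pw _ k1'.two_le).2 k'.2).elim
    · have := (k'.resolve_right fun k => k.1 (k1' _)).2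
      rw [k2', ← h0, ← h3, k1.card] at this
      rw [this, k2, k1.card] at k
      exact (k.elim (fun k => (pw _ k1.two_le).1 k.2) fun k => (pw _ k1.two_le).2 k.2).elim
    · obtain rfl : r = r' := Nat.pow_left_injective two_ne_zero (k1.card.symm.trans (h0.trans k1'.card))
      exact ⟨fun a => (k1'.pow _).trans (by rw [← map_pow]; exact congrArg τ (k1.pow a).symm), by rw [k2, k2']⟩
  rcases k with ⟨rfl, -⟩ | ⟨k1, k2⟩
  · exact c.q2_two h h' c' τ h3 hc hc' hw (one_mem _) sp key.1 (by rw [c.π_one h, c'.π_one h', map_zero])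
  obtain ⟨k3, -⟩ := k'.resolve_left fun k' => by
    rw [h3, k'.2, h0, key.2] at k2
    have : 0 < Nat.card {a : K' // σ' a = a} := Nat.card_pos_iff.2 ⟨⟨0, map_zero _⟩, inferInstance⟩
    nlinarith
  have inv : Cl.UInvol (σ' : K' →+* K') := ⟨c'.j_σ h' hc', _, k3⟩
  have d0 : π' w' - σ' (π' w') ≠ 0 := sub_ne_zero.2 k3.symm
  obtain ⟨t, ht⟩ := inv.exists_norm_eq (a := (τ (π w) - σ' (τ (π w))) / (π' w' - σ' (π' w'))) (by
    change σ' _ = _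
    rw [map_div₀, map_sub, map_sub, c'.j_σ h' hc', c'.j_σ h' hc', ← neg_sub (π' w'), ← neg_sub (τ (π w)), neg_div_neg_eq])
  have ht' : t * σ' t * (π' w' - σ' (π' w')) = τ (π w) - σ' (τ (π w)) := by
    rw [show σ' t = (σ' : K' →+* K') t from rfl, ht]; field_simp
  obtain ⟨a, ha⟩ := inv.exists_trace_eq (a := τ (π w) - t * σ' t * π' w') (by
    change σ' _ = _
    rw [map_sub, map_mul, map_mul, c'.j_σ h' hc']; linear_combination ht')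
  exact c.q2_two h h' c' τ h3 hc hc' hw (mul_mem (c'.act_mem t _ hw') (c'.z_mem h' a)) sp key.1 (by
    rw [c'.j_two h' hc' _ _ hw', show σ' a = (σ' : K' →+* K') a from rfl, ha]; ring)

end Cfsg.Agent.Bld
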