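import Mathlib
import Cfsg.Agent.Bld.IsoG
import Cfsg.Agent.Bld.Quad1
import Cfsg.Agent.Bld.Quad2

/-! Triangles and quadrangles of Moufang buildings; extension over a simple edge. -/

set_option autoImplicit false
set_option linter.unusedSectionVars false

namespace Cfsg.Agent.Bld.Bd

open Cfsg.Agent.Chev CoxeterSystem

variable {B W : Type*} [Group W] {M : CoxeterMatrix B} {cs : CoxeterSystem M W} [Sph cs] [Finite W]
  {K K' J L : Set B} {C C' : Type*} {X : Bd cs K C} {i j k : B} {a b : W → C} {a' : W → C'}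

namespace Edge

variable {X' : Bd cs K' C'} {φ : C → C'}

theorem ne_of {n : ℕ} (h : M i j = n) (hn : n ≠ 1) : i ≠ j := by
  rintro rfl
  exact hn (h.symm.trans (M.diagonal i))

theorem inj (h : X.IsoA X' J a a' φ) {x y : C} (hx : x ∈ X.Res J (a 1)) (hy : y ∈ X.Res J (a 1))
    (e : φ x = φ y) : x = y :=
  X.eq_one.1 (by rw [← h.1.iso x hx y hy, e, X'.δ_self])

theorem exists_symm (h : X.IsoA X' J a a' φ) (ha : X.IsApt J a) :
    ∃ ψ, X'.IsoA X J a' a ψ ∧ (∀ x ∈ X.Res J (a 1), ψ (φ x) = x) ∧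
      ∀ y ∈ X'.Res J (a' 1), φ (ψ y) = y := by
  have h1 : ∀ y, ∃ x, y ∈ X'.Res J (a' 1) → x ∈ X.Res J (a 1) ∧ φ x = y := fun y => by
    by_cases hy : y ∈ X'.Res J (a' 1)
    · obtain ⟨x, hx⟩ := h.1.surj y hy
      exact ⟨x, fun _ => hx⟩
    · exact ⟨a 1, fun h => absurd h hy⟩
  choose ψ hψ using h1
  have h2 : ∀ x ∈ X.Res J (a 1), ψ (φ x) = x := fun x hx =>
    inj h (hψ _ (h.1.mem hx)).1 hx (hψ _ (h.1.mem hx)).2
  have h3 : ∀ w ∈ coxPar cs J, ψ (a' w) = a w := fun w hw => by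
    rw [← h.2 w hw, h2 _ (ha.mem_res hw)]
  refine ⟨ψ, ⟨⟨h3 1 (one_mem _), fun x hx y hy => ?_, fun x hx => ⟨φ x, h.1.mem hx, h2 x hx⟩⟩, h3⟩,
    h2, fun y hy => (hψ y hy).2⟩
  rw [← h.1.iso _ (hψ x hx).1 _ (hψ y hy).1, (hψ x hx).2, (hψ y hy).2]

theorem isoA_sh (h : X.IsoA X' J a a' φ) (ha : X.IsApt J a) {w : W} (hw : w ∈ coxPar cs J) :
    X.IsoA X' J (sh a w) (sh a' w) φ := by
  refine ⟨?_, fun v hv => h.2 _ (mul_mem hw hv)⟩
  have := h.1.rebase (ha.mem_res hw)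
  rw [h.2 w hw] at this
  simpa using this

/-- Root elations are transported along an isomorphism of residues. -/
theorem lift (hX' : X'.Mouf) (hJ : J ⊆ K) (hJ' : J ⊆ K') (ha : X.IsApt K a) (ha' : X'.IsApt K' a')
    (hi : i ∈ J) (hj : j ∈ J) (hM : 3 ≤ M j i) (h : X.IsoA X' J a a' φ) {g : Equiv.Perm C}
    (hg : g ∈ X.U a j) : ∃ g' ∈ X'.U a' j, ∀ x ∈ X.Res J (a 1), φ (g x) = g' (φ x) := by
  obtain ⟨ψ, h1, h2, h3⟩ := exists_symm h (ha.mono hJ)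
  have hm : ∀ x ∈ X.Res J (a 1), g x ∈ X.Res J (a 1) := fun x hx =>
    aut_mem_res hg.1 (X.self_mem_res J _) (U_fix hg) hx
  have he := elt_of_mem_U hJ hg
  obtain ⟨g', h4, h5⟩ := hX'.elt_lift hJ' ha' hj hi hM (g := fun y => φ (g (ψ y)))
    ⟨fun x hx y hy => by
      rw [h.1.iso _ (hm _ (h1.1.mem hx)) _ (hm _ (h1.1.mem hy)), hg.1, h1.1.iso x hx y hy],
    fun v hv hd => ⟨by simp only [h1.2 v hv, (he.2 v hv hd).1, h.2 v hv], fun t ht hd' y hy => by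
      have hv' := (ha'.mono hJ').mem_res hv
      have hy' := X'.res_trans hv' (res_mono (Set.singleton_subset_iff.2 ht) _ hy)
      have := h1.1.iso.mem_res hv' hy' hy
      rw [h1.2 v hv] at this
      simp only [(he.2 v hv hd).2 t ht hd' _ this, h3 y hy']⟩⟩
  exact ⟨g', h4, fun x hx => by rw [← h5 (h.1.mem hx)]; simp only [h2 x hx]⟩

/-- The pairs of permutations which are compatible with `φ` on `P`. -/
def Cp (P : Set C) (φ : C → C') : Subgroup (Equiv.Perm C × Equiv.Perm C') where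
  carrier := {g | (∀ p, p ∈ P ↔ g.1 p ∈ P) ∧ ∀ p ∈ P, φ (g.1 p) = g.2 (φ p)}
  one_mem' := ⟨fun _ => Iff.rfl, fun _ _ => rfl⟩
  mul_mem' := fun {g h} hg hh => ⟨fun p => (hh.1 p).trans (hg.1 _), fun p hp =>
    (hg.2 _ ((hh.1 p).1 hp)).trans (congrArg g.2 (hh.2 p hp))⟩
  inv_mem' := fun {g} hg => ⟨fun p => by simpa using (hg.1 (g.1⁻¹ p)).symm, fun p hp => by
    have := hg.2 (g.1⁻¹ p) ((hg.1 _).2 (by simpa using hp))
    simp only [Equiv.Perm.coe_inv, Equiv.apply_symm_apply] at this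
    simp [this]⟩

theorem mem_Cp {c d : C} {g : Equiv.Perm C} {g' : Equiv.Perm C'} (hg : g ∈ X.Aut)
    (hd : d ∈ X.Res J c) (e : g d = d) (h : ∀ p ∈ X.Res J c, φ (g p) = g' (φ p)) :
    (g, g') ∈ Cp (X.Res J c) φ :=
  ⟨fun _ => ⟨aut_mem_res hg hd e, fun hp => by
    simpa using aut_mem_res (inv_mem hg) hd (Equiv.Perm.inv_eq_iff_eq.2 e.symm) hp⟩, h⟩

end Edge

open Edge

variable [Finite C] [Finite C'] {X' : Bd cs K C'}

theorem Mouf.tri_par (hX : X.Mouf) (hK : NoIso M K) (ha : X.IsApt K a) (hi : i ∈ K) (hj : j ∈ K)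
    (h : M i j = 3) : IsPrimePow (X.par i (a 1)) := by
  have h1 := hX.isPoly hK ha hi hj (ne_of h (by norm_num))
  rw [h] at h1
  have := h1.tri_par
  rwa [UZ_zero, hX.card_U hK ha hi] at this

theorem Mouf.tri_iso (hX : X.Mouf) (hX' : X'.Mouf) (hK : NoIso M K) (ha : X.IsApt K a)
    (ha' : X'.IsApt K a') (hi : i ∈ K) (hj : j ∈ K) (h : M i j = 3)
    (hp : X.par i (a 1) = X'.par i (a' 1)) : ∃ φ, X.IsoA X' {i, j} a a' φ := by
  have hij := ne_of h (by norm_num)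
  have h1 := hX.isPoly hK ha hi hj hij
  have h2 := hX'.isPoly hK ha' hi hj hij
  rw [h] at h1 h2
  obtain ⟨D, hD⟩ := h1.tri_iso h2 (by
    rw [UZ_zero, UZ_zero, hX.card_U hK ha hi, hX'.card_U hK ha' hi, hp])
  obtain ⟨φ, h3, -⟩ := isoA_of_graph hX hX' hK hK ha ha' hi hj hi hj hij (h.symm ▸ hD)
  exact ⟨φ, h3⟩

/-- Extension of an isomorphism of the residues of type `{i, j}` over a simple edge `{j, k}`. -/
theorem Mouf.tri_ext (hX : X.Mouf) (hX' : X'.Mouf) (hK : NoIso M K) (ha : X.IsApt K a)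
    (ha' : X'.IsApt K a') (hi : i ∈ K) (hj : j ∈ K) (hk : k ∈ K) (h1 : 3 ≤ M j i) (h2 : M j k = 3)
    {φ : C → C'} (hφ : X.IsoA X' {i, j} a a' φ) :
    ∃ ψ, X.IsoA X' {j, k} a a' ψ ∧ Set.EqOn ψ φ (X.Res {j} (a 1)) := by
  have hjk := ne_of h2 (by norm_num)
  have p1 := hX.isPoly hK ha hj hk hjk
  have p2 := hX'.isPoly hK ha' hj hk hjk
  rw [h2] at p1 p2
  have hJ : ({i, j} : Set B) ⊆ K := Set.pair_subset hi hj
  have hi' : i ∈ ({i, j} : Set B) := Set.mem_insert _ _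
  have hj' : j ∈ ({i, j} : Set B) := Set.mem_insert_of_mem _ rfl
  have hs : cs.simple j ∈ coxPar cs {i, j} := simple_mem_coxPar cs hj'
  have hsK : cs.simple j ∈ coxPar cs K := simple_mem_coxPar cs hj
  have hP : X.Res {j} (a 1) ⊆ X.Res {i, j} (a 1) := res_mono (Set.singleton_subset_iff.2 hj') _
  have m1 : a 1 ∈ X.Res {j} (a 1) := X.self_mem_res _ _
  have m2 : a (cs.simple j) ∈ X.Res {j} (a 1) := mem_res_single.2 (Or.inr (ha.δ_one hsK))
  set E := Cp (X.Res {j} (a 1)) φ ⊓ (X.U a j).prod (X'.U a' j) with hEdef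
  have fst : ∀ g ∈ X.U a j, ∃ g', (g, g') ∈ E := fun g hg => by
    obtain ⟨g', h3, h4⟩ := lift hX' hJ hJ ha ha' hi' hj' h1 hφ hg
    exact ⟨g', mem_Cp hg.1 m1 (U_fix hg) fun p hp => h4 p (hP hp), hg, h3⟩
  have hE : IsGr (X.UZ a j k 0) (X'.UZ a' j k 0) E := by
    rw [UZ_zero, UZ_zero]
    refine ⟨fun x hx => hx.2, fst, fun g' hg' => ?_, fun x hx => ⟨fun e => ?_, fun e => ?_⟩⟩
    · obtain ⟨ψ, h3, h4, h5⟩ := exists_symm hφ (ha.mono hJ)
      obtain ⟨g, h6, h7⟩ := lift hX hJ hJ ha' ha hi' hj' h1 h3 hg'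
      refine ⟨g, mem_Cp h6.1 m1 (U_fix h6) fun p hp => ?_, h6, hg'⟩
      have h8 := hφ.1.mem (hP hp)
      rw [← h5 _ (aut_mem_res hg'.1 (X'.self_mem_res _ _) (U_fix hg') h8), h7 _ h8, h4 p (hP hp)]
    · refine U_free hK ha' hj hx.2.2 ?_
      rw [← hφ.2 _ hs, ← hx.1.2 _ m2, e, Equiv.Perm.one_apply]
    · refine U_free hK ha hj hx.2.1 (Edge.inj hφ (hP ((hx.1.1 _).1 m2)) (hP m2) ?_)
      rw [hx.1.2 _ m2, e, Equiv.Perm.one_apply]
  have mu : ∀ x ∈ E, ∀ m : Equiv.Perm C × Equiv.Perm C', x ≠ 1 → IsMu (X.UZ a j k) 3 0 x.1 m.1 →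
      IsMu (X'.UZ a' j k) 3 0 x.2 m.2 → m ∈ Cp (X.Res {j} (a 1)) φ := fun x hx m x1 q1 q2 => by
    have n1 : x.1 ≠ 1 := fun e => x1 (Prod.ext e ((hE.one x hx).1 e))
    have n2 : x.2 ≠ 1 := fun e => n1 ((hE.one x hx).2 e)
    obtain ⟨u, hu, v, hv, e⟩ := hX.exists_refl hK ha hj hx.2.1 n1
    have hφ' := isoA_sh hφ (ha.mono hJ) hs
    have eR : X.Res {i, j} (sh a (cs.simple j) 1) = X.Res {i, j} (a 1) := by
      rw [sh_apply, mul_one, res_eq (hP m2)]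
    have cp : ∀ u ∈ X.U (sh a (cs.simple j)) j, ∃ u' ∈ X'.U (sh a' (cs.simple j)) j,
        (u, u') ∈ Cp (X.Res {j} (a 1)) φ := fun u hu => by
      obtain ⟨u', h3, h4⟩ := lift hX' hJ hJ (ha.sh hsK) (ha'.sh hsK) hi' hj' h1 hφ' hu
      exact ⟨u', h3, mem_Cp hu.1 m2 (by simpa using U_fix hu) fun p hp => h4 p (eR ▸ hP hp)⟩
    obtain ⟨u', hu', c1⟩ := cp u hu
    obtain ⟨v', hv', c2⟩ := cp v hv
    have c3 := mul_mem (mul_mem c1 hx.1) c2
    have e' := refl_of_swap ha' hj hx.2.2 hu' hv' (by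
      have := c3.2 _ m1
      rw [hφ.1.base] at this
      refine this.symm.trans ?_
      rw [← hφ.2 _ hs]
      exact congrArg φ ((e 1 (one_mem _)).trans (by rw [mul_one]))) (by
      have := c3.2 _ m2
      rw [hφ.2 _ hs] at this
      refine this.symm.trans ?_
      rw [← hφ.1.base]
      exact congrArg φ ((e _ hsK).trans (by rw [simple_mul_simple_self])))
    have r1 := isMu_of_refl hj hk hjk hx.2.1 hu hv e
    have r2 := isMu_of_refl hj hk hjk hx.2.2 hu' hv' e'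
    rw [h2] at r1 r2
    have : m = (u, u') * x * (v, v') := Prod.ext
      (p1.mu_unique (Or.inl rfl) (hE.le x hx).1 n1 q1 r1)
      (p2.mu_unique (Or.inl rfl) (hE.le x hx).2 n2 q2 r2)
    exact this ▸ c3
  obtain ⟨D, hD, e0⟩ := p1.tri_ext p2 hE fun x hx y hy z hz m m₁ x1 y1 q1 q2 q3 q4 => by
    have h3 := mul_mem (mu x hx m x1 q1 q2) (inv_mem (mu y hy m₁ y1 q3 q4))
    refine Subgroup.mem_inf.2 ⟨mul_mem (mul_mem h3 (Subgroup.mem_inf.1 hz).1) (inv_mem h3), ?_, ?_⟩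
    · have := q1.conj_mem (l' := 0) (by norm_num) (q3.conj_mem' (l' := 3) (by norm_num) (hE.le z hz).1)
      rw [UZ_zero] at this
      simpa [mul_assoc] using this
    · have := q2.conj_mem (l' := 0) (by norm_num) (q4.conj_mem' (l' := 3) (by norm_num) (hE.le z hz).2)
      rw [UZ_zero] at this
      simpa [mul_assoc] using this
  obtain ⟨ψ, h3, h4⟩ := isoA_of_graph hX hX' hK hK ha ha' hj hk hj hk hjk (h2.symm ▸ hD)
  refine ⟨ψ, h3, fun p hp => ?_⟩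
  rcases mem_res_single.1 hp with rfl | h5
  · rw [h3.1.base, hφ.1.base]
  · obtain ⟨g, hg, rfl⟩ := hX a ha j hj p h5
    obtain ⟨g', h6⟩ := fst g hg
    exact (h4 (g, g') (e0 ▸ h6)).trans ((h6.1.2 _ m2).trans (by rw [hφ.2 _ hs])).symm

theorem Mouf.quad_par (hX : X.Mouf) (hK : NoIso M K) (ha : X.IsApt K a) (hi : i ∈ K) (hj : j ∈ K)
    (hk : k ∈ K) (h1 : M i j = 3) (h2 : M j k = 4) (h3 : M i k = 2) :
    QPar (X.par j (a 1)) (X.par k (a 1)) (X.Kind j k a) (X.Kind k j a) := by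
  have hjk := ne_of h2 (by norm_num)
  have h2' : M k j = 4 := (M.symmetric k j).trans h2
  have hb := hX.b3 hK ha hi hj hk h1 h2 h3
  obtain ⟨F, _, _, x0, x2, n, e, act, π, σ, c⟩ := hb.exists_qc
  have h4 := c.qpar hb.quad
  have e3 : X.UZ a j k 3 = X.U a k := by
    have := UZ_pred (X := X) (a := a) hj hk hjk
    rwa [h2] at this
  have e1 : X.UZ a k j 2 = X.UZ a j k 1 := by
    rw [UZ_symm hj hk hjk, h2]; rfl
  rw [hX.kind_iff hK ha hj hk h2, hX.kind_iff hK ha hk hj h2', ← hX.card_U hK ha hj,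
    ← hX.card_U hK ha hk, e1, UZ_zero (i := k), ← e3, ← UZ_zero (j := k),
    show Cm (X.UZ a j k 3) (X.UZ a j k 1) = Cm (X.UZ a j k 1) (X.UZ a j k 3) from
      propext ⟨fun h x hx y hy => (h y hy x hx).symm, fun h x hx y hy => (h y hy x hx).symm⟩]
  exact h4

theorem Mouf.quad_iso (hX : X.Mouf) (hX' : X'.Mouf) (hK : NoIso M K) (ha : X.IsApt K a)
    (ha' : X'.IsApt K a') (hi : i ∈ K) (hj : j ∈ K) (hk : k ∈ K) (h1 : M i j = 3) (h2 : M j k = 4)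
    (h3 : M i k = 2) (hp : X.par j (a 1) = X'.par j (a' 1)) (hq : X.par k (a 1) = X'.par k (a' 1))
    (hh : X.Kind j k a ↔ X'.Kind j k a') : ∃ φ, X.IsoA X' {j, k} a a' φ := by
  have hjk := ne_of h2 (by norm_num)
  have hb := hX.b3 hK ha hi hj hk h1 h2 h3
  have hb' := hX'.b3 hK ha' hi hj hk h1 h2 h3
  obtain ⟨F, _, _, x0, x2, n, e, act, π, σ, c⟩ := hb.exists_qc
  obtain ⟨F', _, _, x0', x2', n', e', act', π', σ', c'⟩ := hb'.exists_qc
  have e3 : X.UZ a j k 3 = X.U a k := by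
    have := UZ_pred (X := X) (a := a) hj hk hjk
    rwa [h2] at this
  have e3' : X'.UZ a' j k 3 = X'.U a' k := by
    have := UZ_pred (X := X') (a := a') hj hk hjk
    rwa [h2] at this
  obtain ⟨D, hD⟩ := QC.graph hb.quad hb'.quad c c'
    (by rw [UZ_zero, UZ_zero, hX.card_U hK ha hj, hX'.card_U hK ha' hj, hp])
    (by rw [e3, e3', hX.card_U hK ha hk, hX'.card_U hK ha' hk, hq])
    (by rw [← hX.kind_iff hK ha hj hk h2, ← hX'.kind_iff hK ha' hj hk h2, hh])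
  obtain ⟨φ, h4, -⟩ := isoA_of_graph hX hX' hK hK ha ha' hj hk hj hk hjk (h2.symm ▸ hD)
  exact ⟨φ, h4⟩

end Cfsg.Agent.Bld.Bd
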