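import Mathlib
import Cfsg.Prelude.Def_Classification2
import Cfsg.Agent.Chev.LieBN

/-! The data of the known groups of Lie type (for S1143). -/

set_option autoImplicit false

namespace Cfsg.Agent.Bld

open Cfsg.Agent.Chev

/-- The conclusion of S1143. -/
def LieP (G : Type*) [Group G] : Prop :=
  Cfsg.IsPSL G ∨ Cfsg.IsPSp G ∨ Cfsg.IsPSU G ∨ Cfsg.IsPOmegaOdd G ∨ Cfsg.IsPOmegaPlus G ∨
    Cfsg.IsPOmegaMinus G ∨ Cfsg.IsExceptionalLieType G

/-- `X` has a root datum with Coxeter matrix `M` whose simple root groups have orders `q`. -/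
def KD {B : Type} (M : CoxeterMatrix B) (q : B → ℕ) (X : Type) [Group X] : Prop :=
  ∃ (Φ : Type) (_ : Finite Φ) (R : RootBN X Φ B) (p : ℕ), p.Prime ∧ R.G = ⊤ ∧ R.Lie p ∧
    (∀ i j, orderOf (R.w (R.s i) * R.w (R.s j)) = M i j) ∧
      ∀ i, Nat.card (R.X (R.simple i)) = q i

/-- `X` is a finite simple group of Lie type with data `M`, `q`. -/
def Kn {B : Type} (M : CoxeterMatrix B) (q : B → ℕ) (X : Type) [Group X] : Prop :=
  Finite X ∧ IsSimpleGroup X ∧ LieP X ∧ KD M q X

/-- The parameters of a building of type `Bₙ`. -/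
def qB (n a b : ℕ) : Fin n → ℕ := fun i => if (i : ℕ) + 1 = n then b else a

end Cfsg.Agent.Bld
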