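import Mathlib
import Cfsg.Agent.Bld.KD
import Cfsg.Agent.Bld.Types
import Cfsg.Agent.Chev.IvComb
import Cfsg.Agent.Cl.EichClass
import Cfsg.Agent.Cl.EichSL
import Cfsg.Agent.Cl.QuadClassify
import Cfsg.Agent.S0249
import Cfsg.Agent.S0270
import Cfsg.Agent.S0283
import Cfsg.Agent.S0295
import Cfsg.Agent.S0296
import Cfsg.Agent.S0297
import Cfsg.Agent.S0821

/-! The root data of the classical simple groups, with their Coxeter matrices (for S1143). -/

set_option autoImplicit false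

namespace Cfsg.Agent.Bld

namespace KC

open Cfsg Cfsg.Agent.Ch Cfsg.Agent.Ch.BakForm Cfsg.Agent.Chev Cfsg.Agent.Cl Cfsg.Agent.Cl.EB
  Module QuadraticMap

section Abstract

variable {G : Type*} [Group G] {Φ I : Type*} [Finite Φ] {R : RootBN G Φ I} {a b : I}

omit [Finite Φ] in
theorem mul_ne_one (h : a ≠ b) : R.w (R.s a) * R.w (R.s b) ≠ 1 := fun e => by
  have h1 : R.w (R.s a) = R.w (R.s b) := by
    rw [← mul_one (R.w (R.s a)), ← Iv.σ_σ' (R := R) b, ← mul_assoc, e, one_mul]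
  have h2 := Iv.pos_σ (R := R) h
  rw [h1, R.w_s_simple, R.pos_neg] at h2
  exact h2 (R.pos_simple b)

omit [Finite Φ] in
theorem sq_eq_one_iff : (R.w (R.s a) * R.w (R.s b)) ^ 2 = 1 ↔
    R.w (R.s a) * R.w (R.s b) = R.w (R.s b) * R.w (R.s a) := by
  rw [pow_two, ← eq_inv_iff_mul_eq_one, _root_.mul_inv_rev, inv_eq_of_mul_eq_one_right (Iv.σ_σ' a),
    inv_eq_of_mul_eq_one_right (Iv.σ_σ' b)]

theorem ord2 (h : a ≠ b) (h' : R.w (R.s a) (R.simple b) = R.simple b) :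
    orderOf (R.w (R.s a) * R.w (R.s b)) = 2 :=
  orderOf_eq_prime (sq_eq_one_iff.2 (RootBN.comm_of_w_s_simple h')) (mul_ne_one h)

theorem ord3 (h : a ≠ b) (h' : R.w (R.s b) (R.simple a) = R.w (R.s a) (R.simple b)) :
    orderOf (R.w (R.s a) * R.w (R.s b)) = 3 := by
  have : Fact (Nat.Prime 3) := ⟨Nat.prime_three⟩
  refine orderOf_eq_prime ?_ (mul_ne_one h)
  have := Iv.w_mul_s (mul_mem (R.s_mem a) (R.s_mem b))
    ((RootBN.w_mul_apply (R.s_mem a) (R.s_mem b) _).trans (Iv.σ_eq_iff.2 h'))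
  rw [R.w_mul (R.s_mem a) (R.s_mem b)] at this
  rw [show (R.w (R.s a) * R.w (R.s b)) ^ 3 = R.w (R.s a) * R.w (R.s b) * R.w (R.s a) *
    (R.w (R.s b) * (R.w (R.s a) * R.w (R.s b))) by simp only [pow_succ, pow_zero,
    one_mul, mul_assoc], this]
  simp only [mul_assoc, Iv.σ_σ, Iv.σ_σ']

theorem ord4 (h : a ≠ b) (h0 : R.w (R.s a) (R.simple b) ≠ R.simple b)
    (h' : R.w (R.s b) (R.w (R.s a) (R.simple b)) = R.w (R.s a) (R.simple b)) :
    orderOf (R.w (R.s a) * R.w (R.s b)) = 4 := by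
  refine orderOf_eq_prime_pow (p := 2) (n := 1)
    (fun e => h0 ((comm_iff_fix h).1 (sq_eq_one_iff.1 e))) ?_
  have h1 := mul_mem (R.s_mem a) (R.s_mem b)
  have h2 : R.w (R.s a * R.s b * R.s a) = R.w (R.s a) * R.w (R.s b) * R.w (R.s a) := by
    rw [R.w_mul h1 (R.s_mem a), R.w_mul (R.s_mem a) (R.s_mem b)]
  have := Iv.w_mul_s (mul_mem h1 (R.s_mem a)) (a := b) (b := b)
    (by rw [h2]; exact Iv.σ_eq_iff.2 h')
  rw [h2] at this
  rw [show (R.w (R.s a) * R.w (R.s b)) ^ 2 ^ (1 + 1) =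
    R.w (R.s a) * R.w (R.s b) * R.w (R.s a) * R.w (R.s b) *
      (R.w (R.s a) * R.w (R.s b) * R.w (R.s a) * R.w (R.s b)) by
    simp only [show 2 ^ (1 + 1) = 4 from rfl, pow_succ, pow_zero, one_mul, mul_assoc]]
  nth_rw 1 [this]
  simp only [mul_assoc, Iv.σ_σ, Iv.σ_σ']

end Abstract

/-- Root data with prescribed Coxeter numbers and orders of simple root groups. -/
def KL (p : ℕ) (G : Type*) [Group G] (Φ : Type) {B : Type} (M : B → B → ℕ) (q : B → ℕ) : Prop :=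
  ∃ R : RootBN G Φ B, R.G = ⊤ ∧ R.Lie p ∧
    (∀ i j, orderOf (R.w (R.s i) * R.w (R.s j)) = M i j) ∧ ∀ i, Nat.card (R.X (R.simple i)) = q i

section Transfer

variable {p : ℕ} [hp : Fact p.Prime] {G G' : Type*} [Group G] [Finite G] [Group G'] {Φ B : Type}
  [Finite Φ] {M : B → B → ℕ} {q : B → ℕ}

theorem KL.map (h : KL p G Φ M q) (π : G →* G') (h1 : Function.Surjective π)
    (h2 : π.ker ≤ Subgroup.center G) : KL p G' Φ M q := by
  obtain ⟨R, hG, hL, h3, h4⟩ := h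
  have hπ : (π.comp R.G.subtype).ker ≤ Subgroup.center R.G := fun x hx =>
    Subgroup.mem_center_iff.2 fun y => Subtype.ext (Subgroup.mem_center_iff.1 (h2 hx) y)
  refine ⟨RootBN.map hπ, ?_, hL.map hπ, fun i j => ?_, fun i => ?_⟩
  · rw [RootBN.map_G, MonoidHom.range_eq_top]
    exact h1.comp fun g => ⟨⟨g, hG.ge trivial⟩, rfl⟩
  · simp only [RootBN.map_w_s, h3]
  · rw [RootBN.card_map_X, RootBN.map_simple, h4]

theorem KL.of_mulEquiv (h : KL p G Φ M q) (e : G ≃* G') : KL p G' Φ M q :=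
  h.map e.toMonoidHom e.surjective (by
    rw [(MonoidHom.ker_eq_bot_iff _).2 e.injective]; exact bot_le)

theorem KL.quot (h : KL p G Φ M q) : KL p (G ⧸ Subgroup.center G) Φ M q :=
  h.map (QuotientGroup.mk' _) (QuotientGroup.mk'_surjective _) (QuotientGroup.ker_mk' _).le

theorem KL.kd {X : Type} [Group X] (h : KL p X Φ M q) {M' : CoxeterMatrix B} {q' : B → ℕ}
    (h1 : ∀ i j, M i j = M' i j) (h2 : ∀ i, q i = q' i) : KD M' q' X := by
  obtain ⟨R, hG, hL, h3, h4⟩ := h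
  exact ⟨Φ, inferInstance, R, p, hp.out, hG, hL, fun i j => (h3 i j).trans (h1 i j),
    fun i => (h4 i).trans (h2 i)⟩

end Transfer

variable {m : ℕ}

open Classical in
/-- The Coxeter numbers of the diagrams of types `BC` and `D`. -/
noncomputable def mat (D : Prop) (i j : Fin m) : ℕ :=
  if i = j then 1 else if ¬ Adj D i j then 2 else
    if ¬ D ∧ ((i : ℕ) + 1 = m ∨ (j : ℕ) + 1 = m) then 4 else 3

theorem mat_false (i j : Fin m) : mat False i j = CoxeterMatrix.B m i j := by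
  have := i.2
  have := j.2
  change _ = Matrix.of _ i j
  simp only [mat, adj_false, Matrix.of_apply, not_false_iff, true_and, Fin.ext_iff]
  split_ifs <;> omega

theorem mat_true (i j : Fin m) : mat True i j = MD m i j := by
  change _ = Matrix.of _ i j
  simp only [mat, Adj, Matrix.of_apply, not_true, false_and, if_false, true_and, ne_eq, ite_not]

theorem act_braid {D : Prop} (hm : D → m ≠ 1) {i j : Fin m} (h : Adj D i j)
    (h' : ¬ (¬ D ∧ ((i : ℕ) + 1 = m ∨ (j : ℕ) + 1 = m))) :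
    act (sf hm j) (sr hm i) = act (sf hm i) (sr hm j) := by
  have := i.2
  have := j.2
  have h1 := ht_sp_sq hm i
  have h2 := ht_sp_sq hm j
  simp only [sr, sf, act_mk, mk_eq_mk, rf_apply, eq_iff_ht, ht_rfF, Adj] at h ⊢
  generalize ht (sp D i) = x, ht (sq i) = y, ht (sp D j) = z, ht (sq j) = w at *
  obtain ⟨h, rfl, rfl, rfl⟩ | ⟨h, rfl, rfl, rfl⟩ | ⟨rfl, rfl, rfl, rfl⟩ | ⟨rfl, rfl, rfl, rfl⟩ :
      3 ≤ x ∧ y = 1 - x ∧ z = x - 1 ∧ w = 2 - x ∨ 3 ≤ z ∧ w = 1 - z ∧ x = z - 1 ∧ y = 2 - z ∨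
        x = 3 ∧ y = -2 ∧ z = 2 ∧ w = 1 ∨ x = 2 ∧ y = 1 ∧ z = 3 ∧ w = -2 := by
    by_cases d : D
    · simp only [d, true_and, not_true, false_and, or_false] at h h1 h2
      rcases h1 with ⟨h1, rfl, rfl⟩ | ⟨h1, rfl, rfl⟩ <;>
        rcases h2 with ⟨h2, rfl, rfl⟩ | ⟨h2, rfl, rfl⟩ <;> rcases h with h | h | h | h <;>
          first
          | exact Or.inl (by omega)
          | exact Or.inr (Or.inl (by omega))
          | exact Or.inr (Or.inr (by omega))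
    · simp only [d, false_and, not_false_iff, and_true, or_false, true_and, false_or] at h h' h1 h2
      rcases h1 with ⟨h1, rfl, rfl⟩ | ⟨h1, rfl, rfl⟩ <;>
        rcases h2 with ⟨h2, rfl, rfl⟩ | ⟨h2, rfl, rfl⟩ <;> rcases h with h | h <;>
          first
          | exact Or.inl (by omega)
          | exact Or.inr (Or.inl (by omega))
  · refine Or.inl ⟨?_, ?_⟩ <;> split_ifs <;> omega
  · refine Or.inl ⟨?_, ?_⟩ <;> split_ifs <;> omega
  all_goals decide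

theorem act_four {D : Prop} (hm : D → m ≠ 1) {i j : Fin m} (h : Adj D i j)
    (h' : ¬ D ∧ ((i : ℕ) + 1 = m ∨ (j : ℕ) + 1 = m)) :
    act (sf hm j) (act (sf hm i) (sr hm j)) = act (sf hm i) (sr hm j) := by
  have := i.2
  have := j.2
  have h1 := ht_sp_sq hm i
  have h2 := ht_sp_sq hm j
  obtain ⟨d, h'⟩ := h'
  simp only [sr, sf, act_mk, mk_eq_mk, rf_apply, eq_iff_ht, ht_rfF, Adj] at h ⊢
  generalize ht (sp D i) = x, ht (sq i) = y, ht (sp D j) = z, ht (sq j) = w at *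
  simp only [d, false_and, not_false_iff, and_true, or_false, true_and, false_or] at h h1 h2
  obtain ⟨rfl, rfl, rfl, rfl⟩ | ⟨rfl, rfl, rfl, rfl⟩ :
      x = 2 ∧ y = -1 ∧ z = 1 ∧ w = 1 ∨ x = 1 ∧ y = 1 ∧ z = 2 ∧ w = -1 := by omega
  all_goals decide

open Classical in
/-- The strengthened form of `ClLie`. -/
def CL (p : ℕ) (G : Type*) [Group G] (D : Prop) (m a b : ℕ) : Prop :=
  KL p G (Rt D m) (mat (m := m) D) fun i => if ¬ D ∧ (i : ℕ) + 1 = m then b else a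

variable {K : Type*} [Field K] {p : ℕ} [hp : Fact p.Prime] [CharP K p]

section General

variable {V : Type*} [AddCommGroup V] [Module K V] [FiniteDimensional K V]

theorem cl_EG {F : BakForm K V} {f : F.Frame (Fin m)} [Finite F.EG] (hD : IsD f → 3 ≤ m)
    (hH : ∀ h ∈ HH f, h ^ p = 1 → h = 1) :
    CL p F.EG (IsD f) m (Nat.card K) (Nat.card f.V0 * Nat.card F.Λ) := by
  have hm : IsD f → m ≠ 1 := fun d => by have := hD d; omega
  refine ⟨rootBN hm, rfl, rootBN_lie hm hD hH, fun i j => ?_, card_Xr_sr hm⟩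
  unfold mat
  split_ifs with h1 h2 h3
  · rw [h1, Iv.σ_σ', orderOf_one]
  · refine ord4 h1 ?_ ?_
    · rw [rootBN_w_s, rootBN_simple, Ne, act_sf_sr_iff hm h1, not_not]
      exact h2
    · rw [rootBN_w_s, rootBN_w_s, rootBN_simple]
      exact act_four hm h2 h3
  · refine ord3 h1 ?_
    rw [rootBN_w_s, rootBN_w_s, rootBN_simple]
    exact act_braid hm h2 h3
  · refine ord2 h1 ?_
    rw [rootBN_w_s, rootBN_simple, act_sf_sr_iff hm h1]
    exact h2

variable [Finite K]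

theorem cl_bakSp {B : LinearMap.BilinForm K V} {hB : B.Nondegenerate} {hA : B.IsAlt}
    (f : (bakSp hB hA).Frame (Fin m)) :
    CL p (bakSp hB hA).EG False m (Nat.card K) (Nat.card K) := by
  have := (bakSp hB hA).finite_EG
  have d : ¬ IsD f := fun d => one_ne_zero (d 0 (zero_mem _) 1 trivial)
  have := cl_EG (p := p) (f := f) (fun h => absurd h d)
    fun _ => eq_one_of_mem_HH_of_le (by rw [bakSp_V0]; simp)
  rwa [eq_false d, bakSp_V0, bakSp_Λ, Nat.card_unique (α := (⊥ : Submodule K V)),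
    AddSubgroup.card_top, one_mul] at this

theorem cl_bakU {σ : K →+* K} {B : V →ₗ[K] V →ₛₗ[σ] K} {hB : IsHerm B} {q : ℕ} (hq : UField σ q)
    (f : (bakU hB).Frame (Fin m)) :
    CL p (bakU hB).EG False m (q ^ 2) (q ^ (2 * (finrank K V % 2) + 1)) := by
  have := (bakU hB).finite_EG
  have h1 := bakU_finrank_V0 f
  have h2 := f.finrank_eq
  have := cl_EG (p := p) (f := f) (fun h => absurd h (not_isD_bakU f))
    fun _ => eq_one_of_mem_HH_of_le h1
  rwa [eq_false (not_isD_bakU f), show Nat.card (bakU hB).Λ = q from hq.card_trace_zero,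
    Module.natCard_eq_pow_finrank (K := K) (V := f.V0), hq.card, ← pow_mul, ← pow_succ,
    show finrank K f.V0 = finrank K V % 2 by omega] at this

theorem cl_bakO {Q : QuadraticForm K V} {hQ : (polarBilin Q).Nondegenerate}
    (f : (bakO hQ).Frame (Fin m)) {d : ℕ} (hd : finrank K V = 2 * m + d)
    (h2 : d ≤ 2) (h3 : d = 0 → 3 ≤ m) :
    CL p (bakO hQ).EG (d = 0) m (Nat.card K) (Nat.card K ^ d) := by
  have := (bakO hQ).finite_EG
  have h1 := f.finrank_eq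
  have h4 : finrank K f.V0 = d := by simp at h1; omega
  have h5 : IsD f ↔ d = 0 := by rw [isD_bakO_iff, ← h4, Submodule.finrank_eq_zero]
  have := cl_EG (p := p) (f := f) (fun h => h3 (h5.1 h)) fun _ => bakO_pH f (by omega)
  rwa [propext h5, bakO_Λ, AddSubgroup.card_bot, mul_one,
    Module.natCard_eq_pow_finrank (K := K) (V := f.V0), h4] at this

end General

variable [Finite K]

theorem cl_psp (m : ℕ) : CL p (PSp m K) False m (Nat.card K) (Nat.card K) := by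
  obtain ⟨f⟩ := bakSp_exists_frame (spB_nondegenerate (m := m) (R := K)) spB_isAlt
    (m := m) (by simp [two_mul])
  have := (bakSp (spB_nondegenerate (m := m) (R := K)) spB_isAlt).finite_EG
  exact ((cl_bakSp f).of_mulEquiv (spEquivEG m K).symm).quot

theorem cl_psu (n : ℕ) {q : ℕ} (hq : Nat.card K = q ^ 2) :
    CL p (PSU n K q) False (n / 2) (q ^ 2) (q ^ (2 * (n % 2) + 1)) := by
  obtain ⟨σ, hσ⟩ := u_exists_conj hq
  have h : UField σ q := ⟨hq, hσ⟩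
  have hB := h.invol.isHerm_uStd (Fin n)
  obtain ⟨f⟩ := bakU_exists_frame hB
  have := (bakU hB).finite_EG
  have : CL p (SU n K q) False _ _ _ := (cl_bakU (p := p) h f).of_mulEquiv
    ((MulEquiv.subgroupCongr (bakU_EG' hB h)).trans (h.suEquiv n).symm)
  rw [Module.finrank_fin_fun] at this
  exact this.quot

theorem cl_odd (h2 : (2 : K) ≠ 0) (hm : 1 ≤ m) :
    CL p (POmega K (quadFormOdd m K)) False m (Nat.card K) (Nat.card K) := by
  obtain ⟨e⟩ := nonempty_Omega_equiv_EG (quad_odd_nondeg (m := m) h2)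
    (not_oExc_of_finrank (by simp; omega)) (by simp; omega)
  have := (bakO (quad_odd_nondeg (m := m) h2)).finite_EG
  have : CL p (Omega K (quadFormOdd m K)) _ _ _ _ :=
    (cl_bakO (p := p) (frameOdd m h2) (d := 1) (by simp; omega) (by omega)
      (by omega)).of_mulEquiv e.symm
  rw [eq_false one_ne_zero, pow_one] at this
  exact this.quot

theorem cl_plus (hm : 3 ≤ m) : CL p (POmega K (quadFormPlus m K)) True m (Nat.card K) 1 := by
  obtain ⟨e⟩ := nonempty_Omega_equiv_EG (quad_plus_nondeg (m := m) (F := K))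
    (not_oExc_of_finrank (by simp; omega)) (by simp; omega)
  have := (bakO (quad_plus_nondeg (m := m) (F := K))).finite_EG
  have : CL p (Omega K (quadFormPlus m K)) _ _ _ _ :=
    (cl_bakO (p := p) (framePlus m K) (d := 0) (by simp; omega) (by omega)
      (by omega)).of_mulEquiv e.symm
  rw [eq_true rfl, pow_zero] at this
  exact this.quot

theorem cl_minus {a b : K}
    (hab : ∀ z₁ z₂ : K, z₁ ^ 2 + a * z₁ * z₂ + b * z₂ ^ 2 = 0 → z₁ = 0 ∧ z₂ = 0) (hm : 1 ≤ m) :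
    CL p (POmega K (quadFormMinus m K a b)) False m (Nat.card K) (Nat.card K ^ 2) := by
  obtain ⟨e⟩ := nonempty_Omega_equiv_EG (o_minus_nondeg (m := m) hab)
    (not_oExc_minus hab) (by simp; omega)
  have := (bakO (o_minus_nondeg (m := m) hab)).finite_EG
  have : CL p (Omega K (quadFormMinus m K a b)) _ _ _ _ :=
    (cl_bakO (p := p) (frameMinus m hab) (d := 2) (by simp; omega) (by omega)
      (by omega)).of_mulEquiv e.symm
  rw [eq_false two_ne_zero] at this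
  exact this.quot

theorem CL.kdB {X : Type} [Group X] {a b : ℕ} (h : CL p X False m a b) :
    KD (CoxeterMatrix.B m) (qB m a b) X :=
  KL.kd h mat_false fun i => by simp [qB]

theorem CL.kdD {X : Type} [Group X] {a b : ℕ} (h : CL p X True m a b) :
    KD (MD m) (fun _ => a) X :=
  KL.kd h mat_true fun i => by simp

section SL

open Cfsg.Agent.Chev.StRoot Cfsg.Agent.Cl.CT

theorem xA_fix {i j : Fin m} (h : i ≠ j) (h' : ¬ ((j : ℕ) + 1 = i ∨ (i : ℕ) + 1 = j)) :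
    (stA m).refl (srA i) (srA j) = srA j := by
  rw [Subtype.ext_iff, stA_refl]
  have : (i : ℕ) ≠ j := fun e => h (Fin.ext e)
  change ((Equiv.swap _ _) (srA j).1.1, (Equiv.swap _ _) (srA j).1.2) = _
  simp only [srA, Prod.mk.injEq, Equiv.swap_apply_def, Fin.ext_iff, apply_ite Fin.val,
    Fin.val_castSucc, Fin.val_succ]
  split_ifs <;> omega

theorem xA_braid {i j : Fin m} (h' : (j : ℕ) + 1 = i ∨ (i : ℕ) + 1 = j) :
    (stA m).refl (srA j) (srA i) = (stA m).refl (srA i) (srA j) := by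
  rw [Subtype.ext_iff, stA_refl, stA_refl]
  simp only [srA, Prod.mk.injEq, Equiv.swap_apply_def, Fin.ext_iff, apply_ite Fin.val,
    Fin.val_castSucc, Fin.val_succ]
  split_ifs <;> omega

theorem kl_sl (m : ℕ) : KL p (Matrix.SpecialLinearGroup (Fin (m + 1)) K) (RtA (m + 1))
    (fun i j => CoxeterMatrix.A m i j) fun _ => Nat.card K := by
  have h := isStrong_xA (K := K) (m := m)
  have h2 : ∀ i, h.rootBN.w (h.rootBN.s i) = (stA m).refl (srA i) := fun i =>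
    isModel_xA.wN_nn _ one_ne_zero
  have pU : IsPGroup p h.rootBN.U := isPGroup_UU h.toIsModel
  have pH : ∀ a ∈ h.rootBN.H, a ^ p = 1 → a = 1 := fun _ => CT.eq_one_of_mem_HH h.toIsSt
  refine ⟨h.rootBN, XS_xA_univ, ⟨pU, pH, fun A h3 h4 => ?_, RootBN.U_sup_V, fun X hX hG hne => ?_,
    ?_⟩, fun i j => ?_, fun i => ?_⟩
  · obtain ⟨i, hi, j, hj, h5⟩ := exists_adj (D := False) False.elim A h3 h4
    exact ⟨i, hi, j, hj, by rw [h2, h2, Ne, xA_comm_iff, not_not]; exact h5⟩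
  · refine RootBN.borelTits pU pH
      ({ toFun := fun g => g.1, map_one' := rfl, map_mul' := fun _ _ => rfl } :
        Matrix.SpecialLinearGroup (Fin (m + 1)) K →* Matrix (Fin (m + 1)) (Fin (m + 1)) K)
      (fun g _ e => Subtype.ext e) ⊤ (fun n hn v _ => ?_) (fun a ha v _ => ?_) (fun v _ => ?_)
      (v₀ := fun a => -((a : ℕ) : ℝ)) trivial (fun u hu a b e => ?_) hX hG hne
    · obtain ⟨π, c, -, e⟩ := exists_monoMat_of_mem_NN hn
      exact ⟨_, trivial, e ▸ wTr_monoMat π c v⟩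
    · obtain ⟨c, rfl⟩ := h.toIsSt.exists_tor hmul_xA ha
      intro a b e
      by_contra h3
      exact e ((congrFun₂ (coe_tor_xA c) a b).trans
        (Matrix.diagonal_apply_ne _ fun e => h3 (by rw [e])))
    · obtain ⟨n, hn, c, e⟩ := exists_mem_NN_xA (K := K) (Tuple.sort (-v))⁻¹
      refine ⟨n, hn, _, e ▸ wTr_monoMat _ c v, fun u hu a b h3 => ?_⟩
      have h4 : a ≤ b := by
        by_contra h4
        exact h3 ((apply_of_mem_UU_xA hu (not_le.1 h4).le).trans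
          (Matrix.one_apply_ne (not_le.1 h4).ne'))
      simpa using Tuple.monotone_sort (-v) h4
    · have h4 : (a : ℕ) + 1 ≤ b := by
        by_contra h4
        exact e (sub_eq_zero.2 (apply_of_mem_UU_xA hu (by rw [Fin.le_def]; omega)))
      have : ((a : ℕ) : ℝ) + 1 ≤ (b : ℕ) := by exact_mod_cast h4
      linarith
  · rintro rfl i x hx
    obtain ⟨t, rfl⟩ := (h.add _).mem_rsub.1 hx
    refine ⟨by rw [pow_two, ← h.add, CharTwo.add_self_eq_zero, (h.add _).zero]; exact one_mem _,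
      fun _ y hy => ?_⟩
    obtain ⟨u, rfl⟩ := (h.add _).mem_rsub.1 hy
    exact (h.add _).comm _ _
  · change _ = Matrix.of _ i j
    rw [Matrix.of_apply]
    split_ifs with h3 h4
    · rw [h3, Iv.σ_σ', orderOf_one]
    · exact ord3 h3 (by rw [h2, h2]; exact xA_braid h4)
    · exact ord2 h3 (by rw [h2]; exact xA_fix h3 h4)
  · refine (Nat.card_congr (Equiv.ofBijective (fun t => (⟨_, x_mem_rsub (xA K) _ t⟩ :
      rsub (xA K) (srA i))) ⟨fun t u e => h.toIsModel.x_inj _ (congrArg Subtype.val e),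
        fun ⟨y, hy⟩ => ?_⟩)).symm
    obtain ⟨t, rfl⟩ := (h.add _).mem_rsub.1 hy
    exact ⟨t, rfl⟩

end SL

theorem exists_field {q : ℕ} (hq : IsPrimePow q) : ∃ (K : Type) (_ : Field K) (_ : Fintype K)
    (p : ℕ) (_ : Fact p.Prime) (_ : CharP K p), Nat.card K = q := by
  obtain ⟨p, k, h1, h2, rfl⟩ := (isPrimePow_nat_iff q).1 hq
  have : Fact p.Prime := ⟨h1⟩
  exact ⟨GaloisField p k, inferInstance, Fintype.ofFinite _, p, inferInstance, inferInstance,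
    GaloisField.card p k h2.ne'⟩

end KC

open KC

variable {n q : ℕ}

theorem LieP.of_mulEquiv {G H : Type*} [Group G] [Group H] (h : LieP H) (e : G ≃* H) : LieP G := by
  rcases h with ⟨F, _, _, n, h1, h2, ⟨φ⟩⟩ | ⟨F, _, _, n, h1, h2, ⟨φ⟩⟩ |
    ⟨F, _, _, n, q, h1, h2, h3, ⟨φ⟩⟩ | ⟨F, _, _, n, h1, h2, ⟨φ⟩⟩ | ⟨F, _, _, n, h1, ⟨φ⟩⟩ |
    ⟨F, _, _, n, a, b, h1, h2, ⟨φ⟩⟩ | h
  · exact Or.inl ⟨F, _, _, n, h1, h2, ⟨e.trans φ⟩⟩
  · exact Or.inr (Or.inl ⟨F, _, _, n, h1, h2, ⟨e.trans φ⟩⟩)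
  · exact Or.inr (Or.inr (Or.inl ⟨F, _, _, n, q, h1, h2, h3, ⟨e.trans φ⟩⟩))
  · exact Or.inr (Or.inr (Or.inr (Or.inl ⟨F, _, _, n, h1, h2, ⟨e.trans φ⟩⟩)))
  · exact Or.inr (Or.inr (Or.inr (Or.inr (Or.inl ⟨F, _, ‹_›, n, h1, ⟨e.trans φ⟩⟩))))
  · exact Or.inr (Or.inr (Or.inr (Or.inr (Or.inr (Or.inl
      ⟨F, _, ‹_›, n, a, b, h1, h2, ⟨e.trans φ⟩⟩)))))
  refine Or.inr (Or.inr (Or.inr (Or.inr (Or.inr (Or.inr ?_)))))
  rcases h with ⟨F, _, _, h1, ⟨φ⟩⟩ | ⟨F, _, _, ⟨φ⟩⟩ | ⟨F, _, _, ⟨φ⟩⟩ | ⟨F, _, _, ⟨φ⟩⟩ |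
    ⟨F, _, _, ⟨φ⟩⟩ | h
  · exact Or.inl ⟨F, _, _, h1, ⟨e.trans φ⟩⟩
  · exact Or.inr (Or.inl ⟨F, _, ‹_›, ⟨e.trans φ⟩⟩)
  · exact Or.inr (Or.inr (Or.inl ⟨F, _, ‹_›, ⟨e.trans φ⟩⟩))
  · exact Or.inr (Or.inr (Or.inr (Or.inl ⟨F, _, ‹_›, ⟨e.trans φ⟩⟩)))
  · exact Or.inr (Or.inr (Or.inr (Or.inr (Or.inl ⟨F, _, ‹_›, ⟨e.trans φ⟩⟩))))
  refine Or.inr (Or.inr (Or.inr (Or.inr (Or.inr ?_))))
  rcases h with ⟨F, _, _, n, h1, h2, ⟨φ⟩⟩ | ⟨F, _, _, n, h1, h2, ⟨φ⟩⟩ |
    ⟨F, _, _, n, h1, h2, ⟨φ⟩⟩ | ⟨F, _, _, n, h1, h2, ⟨φ⟩⟩ | ⟨F, _, _, n, h1, h2, ⟨φ⟩⟩ | ⟨⟨φ⟩⟩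
  · exact Or.inl ⟨F, _, _, n, h1, h2, ⟨e.trans φ⟩⟩
  · exact Or.inr (Or.inl ⟨F, _, _, n, h1, h2, ⟨e.trans φ⟩⟩)
  · exact Or.inr (Or.inr (Or.inl ⟨F, _, _, n, h1, h2, ⟨e.trans φ⟩⟩))
  · exact Or.inr (Or.inr (Or.inr (Or.inl ⟨F, _, _, n, h1, h2, ⟨e.trans φ⟩⟩)))
  · exact Or.inr (Or.inr (Or.inr (Or.inr (Or.inl ⟨F, _, _, n, h1, h2, ⟨e.trans φ⟩⟩))))
  · exact Or.inr (Or.inr (Or.inr (Or.inr (Or.inr ⟨e.trans φ⟩))))

theorem kn_A (hn : 3 ≤ n) (hq : IsPrimePow q) :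
    ∃ (X : Type) (_ : Group X), Kn (CoxeterMatrix.A n) (fun _ => q) X := by
  obtain ⟨K, _, _, p, _, _, rfl⟩ := exists_field hq
  exact ⟨Matrix.ProjectiveSpecialLinearGroup (Fin (n + 1)) K, _, inferInstance,
    S0249.result _ (by omega), Or.inl ⟨K, _, ‹_›, n + 1, by omega, by omega, ⟨.refl _⟩⟩,
    (kl_sl (p := p) n).quot.kd (fun _ _ => rfl) fun _ => rfl⟩

theorem kn_D (hn : 4 ≤ n) (hq : IsPrimePow q) :
    ∃ (X : Type) (_ : Group X), Kn (MD n) (fun _ => q) X := by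
  obtain ⟨K, _, _, p, _, _, rfl⟩ := exists_field hq
  exact ⟨POmega K (quadFormPlus n K), _, inferInstance, S0296.result _ hn,
    Or.inr (Or.inr (Or.inr (Or.inr (Or.inl ⟨K, _, ‹_›, n, hn, ⟨.refl _⟩⟩)))),
    (cl_plus (p := p) (by omega)).kdD⟩

theorem KC.kn_psp (hn : 3 ≤ n) {K : Type} [Field K] [Fintype K] (p : ℕ) [Fact p.Prime] [CharP K p] :
    Kn (CoxeterMatrix.B n) (qB n (Nat.card K) (Nat.card K)) (PSp n K) :=
  ⟨inferInstance, S0270.result _ (by omega) (by omega),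
    Or.inr (Or.inl ⟨K, _, ‹_›, n, by omega, by omega, ⟨.refl _⟩⟩), (cl_psp (p := p) n).kdB⟩

theorem kn_Sp (hn : 3 ≤ n) (hq : IsPrimePow q) :
    ∃ (X : Type) (_ : Group X), Kn (CoxeterMatrix.B n) (qB n q q) X := by
  obtain ⟨K, _, _, p, _, _, rfl⟩ := exists_field hq
  exact ⟨PSp n K, _, kn_psp hn p⟩

theorem kn_odd (hn : 3 ≤ n) (hq : IsPrimePow q) (ho : Odd q) :
    ∃ (X : Type) (_ : Group X) (Y : Type) (_ : Group Y), Kn (CoxeterMatrix.B n) (qB n q q) X ∧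
      Kn (CoxeterMatrix.B n) (qB n q q) Y ∧ IsEmpty (X ≃* Y) := by
  obtain ⟨K, _, _, p, _, _, rfl⟩ := exists_field hq
  have ho' : Odd (Fintype.card K) := by rwa [← Nat.card_eq_fintype_card]
  exact ⟨PSp n K, _, POmega K (quadFormOdd n K), _, kn_psp hn p,
    ⟨inferInstance, S0295.result ho' _ hn,
      Or.inr (Or.inr (Or.inr (Or.inl ⟨K, _, ‹_›, n, hn, ho', ⟨.refl _⟩⟩))),
      (cl_odd (p := p) (Cl.o_two_ne_zero_of_odd_card ho') (by omega)).kdB⟩, S0821.result ho' _ hn⟩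

theorem kn_Om (hn : 3 ≤ n) (hq : IsPrimePow q) :
    ∃ (X : Type) (_ : Group X), Kn (CoxeterMatrix.B n) (qB n q (q ^ 2)) X := by
  obtain ⟨K, _, _, p, _, _, rfl⟩ := exists_field hq
  obtain ⟨b, hb⟩ := Cl.quad_exists_aniso K
  have hab := (Cl.quad_aniso_iff 1 b).2 hb
  exact ⟨POmega K (quadFormMinus n K 1 b), _, inferInstance,
    S0297.result (n + 1) (by omega) 1 b hab,
    Or.inr (Or.inr (Or.inr (Or.inr (Or.inr (Or.inl
      ⟨K, _, ‹_›, n + 1, 1, b, by omega, hab, ⟨.refl _⟩⟩))))),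
    (cl_minus (p := p) hab (by omega)).kdB⟩

theorem KC.kn_psu {k : ℕ} (hk : 6 ≤ k) (hq : IsPrimePow q) : ∃ (X : Type) (_ : Group X),
    Kn (CoxeterMatrix.B (k / 2)) (qB (k / 2) (q ^ 2) (q ^ (2 * (k % 2) + 1))) X := by
  obtain ⟨K, _, _, p, _, _, h⟩ := exists_field (hq.pow two_ne_zero)
  have h' : Fintype.card K = q ^ 2 := by rwa [← Nat.card_eq_fintype_card]
  exact ⟨PSU k K q, _, inferInstance, S0283.result h' _ (by omega) (by omega),
    Or.inr (Or.inr (Or.inl ⟨K, _, ‹_›, k, q, h', by omega, by omega, ⟨.refl _⟩⟩)),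
    (cl_psu (p := p) k h).kdB⟩

theorem kn_U0 (hn : 3 ≤ n) (hq : IsPrimePow q) :
    ∃ (X : Type) (_ : Group X), Kn (CoxeterMatrix.B n) (qB n (q ^ 2) q) X := by
  have := kn_psu (k := 2 * n) (by omega) hq
  rwa [show 2 * n / 2 = n by omega, show 2 * (2 * n % 2) + 1 = 1 by omega, pow_one] at this

theorem kn_U1 (hn : 3 ≤ n) (hq : IsPrimePow q) :
    ∃ (X : Type) (_ : Group X), Kn (CoxeterMatrix.B n) (qB n (q ^ 2) (q ^ 3)) X := by
  have := kn_psu (k := 2 * n + 1) (by omega) hq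
  rwa [show (2 * n + 1) / 2 = n by omega, show 2 * ((2 * n + 1) % 2) + 1 = 3 by omega] at this

end Cfsg.Agent.Bld
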