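import Mathlib
import Cfsg.Agent.Bld.Defs
import Cfsg.Agent.Chev.BNParabolic
import Cfsg.Agent.Chev.FeitHigman

/-! The building of a (B,N)-pair; transport along isomorphisms of Coxeter systems. -/

set_option autoImplicit false

namespace Cfsg.Agent.Bld

open Cfsg.Agent.Chev CoxeterSystem

section Map

variable {B B' W W' : Type*} [Group W] [Group W'] {M : CoxeterMatrix B} {M' : CoxeterMatrix B'}
  {cs : CoxeterSystem M W} {cs' : CoxeterSystem M' W'} {C : Type*}

/-- An isomorphism of Coxeter systems. -/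
def IsCI (cs : CoxeterSystem M W) (cs' : CoxeterSystem M' W') (e : B ≃ B') (f : W ≃* W') : Prop :=
  ∀ i, f (cs.simple i) = cs'.simple (e i)

theorem exists_isCI (cs : CoxeterSystem M W) (cs' : CoxeterSystem M' W') (e : B ≃ B')
    (he : ∀ i j, M' (e i) (e j) = M i j) : ∃ f, IsCI cs cs' e f := by
  have h1 : M.IsLiftable fun i => cs'.simple (e i) := fun i j => by
    rw [← he]
    exact cs'.simple_mul_simple_pow _ _
  have h2 : M'.IsLiftable fun i => cs.simple (e.symm i) := fun i j => by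
    have := he (e.symm i) (e.symm j)
    rw [e.apply_symm_apply, e.apply_symm_apply] at this
    rw [this]
    exact cs.simple_mul_simple_pow _ _
  refine ⟨MonoidHom.toMulEquiv (cs.lift ⟨_, h1⟩) (cs'.lift ⟨_, h2⟩) (cs.ext_simple fun i => ?_)
    (cs'.ext_simple fun i => ?_), fun i => cs.lift_apply_simple h1 i⟩
  · simp [cs.lift_apply_simple h1, cs'.lift_apply_simple h2]
  · simp [cs.lift_apply_simple h1, cs'.lift_apply_simple h2]

variable {e : B ≃ B'} {f : W ≃* W'}

theorem IsCI.sph (h : IsCI cs cs' e f) (he : ∀ i j, M' (e i) (e j) = M i j) [Sph cs] : Sph cs' :=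
  ⟨fun i j => by
    obtain ⟨i, rfl⟩ := e.surjective i
    obtain ⟨j, rfl⟩ := e.surjective j
    rw [he, ← h, ← h, ← map_mul, MulEquiv.orderOf_eq, Sph.ord]⟩

theorem IsCI.symm (h : IsCI cs cs' e f) : IsCI cs' cs e.symm f.symm := fun i => by
  rw [MulEquiv.symm_apply_eq, h, e.apply_symm_apply]

theorem IsCI.wordProd (h : IsCI cs cs' e f) (ω : List B) :
    f (cs.wordProd ω) = cs'.wordProd (ω.map e) := by
  induction ω with
  | nil => simp
  | cons i ω ih => rw [List.map_cons, wordProd_cons, wordProd_cons, map_mul, h, ih]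

theorem IsCI.length_le (h : IsCI cs cs' e f) (w : W) : cs'.length (f w) ≤ cs.length w := by
  obtain ⟨ω, h1, rfl⟩ := cs.exists_isReduced w
  rw [h.wordProd, h1.eq, ← List.length_map e]
  exact cs'.length_wordProd_le _

theorem IsCI.length (h : IsCI cs cs' e f) (w : W) : cs'.length (f w) = cs.length w :=
  (h.length_le w).antisymm (by simpa using h.symm.length_le (f w))

theorem IsCI.right (h : IsCI cs cs' e f) {w : W} {i : B} :
    cs'.IsRightDescent (f w) (e i) ↔ cs.IsRightDescent w i := by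
  rw [IsRightDescent, IsRightDescent, ← h, ← map_mul, h.length, h.length]

theorem IsCI.left (h : IsCI cs cs' e f) {w : W} {i : B} :
    cs'.IsLeftDescent (f w) (e i) ↔ cs.IsLeftDescent w i := by
  rw [IsLeftDescent, IsLeftDescent, ← h, ← map_mul, h.length, h.length]

theorem IsCI.mem_par' (h : IsCI cs cs' e f) {J : Set B} {w : W} (hw : w ∈ coxPar cs J) :
    f w ∈ coxPar cs' (e '' J) := by
  obtain ⟨ω, h1, rfl⟩ := (mem_coxPar_iff cs).1 hw
  rw [h.wordProd]
  refine wordProd_mem_coxPar cs' fun i hi => ?_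
  obtain ⟨j, hj, rfl⟩ := List.mem_map.1 hi
  exact ⟨j, h1 j hj, rfl⟩

theorem IsCI.mem_par (h : IsCI cs cs' e f) {J : Set B} {w : W} :
    f w ∈ coxPar cs' (e '' J) ↔ w ∈ coxPar cs J :=
  ⟨fun hw => by simpa [Set.image_image] using h.symm.mem_par' hw, h.mem_par'⟩

theorem IsCI.eq_simple (h : IsCI cs cs' e f) {w : W} {i : B} :
    f w = cs'.simple (e i) ↔ w = cs.simple i := by
  rw [← h, f.apply_eq_iff_eq]

/-- Transport of a building along an isomorphism of Coxeter systems. -/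
def Bd.map (X : Bd cs Set.univ C) (h : IsCI cs cs' e f) : Bd cs' Set.univ C where
  δ c d := f (X.δ c d)
  mem c d := by rw [coxPar_univ]; trivial
  eq_one := by simp [X.eq_one]
  inv c d := by rw [X.inv, map_inv]
  step c d d' i hd := by
    obtain ⟨i, rfl⟩ := e.surjective i
    rw [← h, ← map_mul, f.apply_eq_iff_eq, f.apply_eq_iff_eq, h.right]
    exact X.step c (h.eq_simple.1 hd)
  ex c d i _ := by
    obtain ⟨i, rfl⟩ := e.surjective i
    obtain ⟨x, h1, h2⟩ := X.ex c d i trivial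
    exact ⟨x, by rw [h1, h], by rw [h2, map_mul, h]⟩
  thick c i _ := by
    obtain ⟨i, rfl⟩ := e.surjective i
    obtain ⟨x, y, h1, h2, h3⟩ := X.thick c i trivial
    exact ⟨x, y, by rw [h1, h], by rw [h2, h], h3⟩

variable (X : Bd cs Set.univ C) (h : IsCI cs cs' e f)

theorem Bd.map_δ (c d : C) : (X.map h).δ c d = f (X.δ c d) := rfl

theorem Bd.map_aut : (X.map h).Aut = X.Aut :=
  Subgroup.ext fun _ => forall₂_congr fun _ _ => f.apply_eq_iff_eq

theorem Bd.map_wt {G : Subgroup (Equiv.Perm C)} : (X.map h).WT G ↔ X.WT G := by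
  simp only [Bd.WT, Bd.map_aut, Bd.map_δ, f.apply_eq_iff_eq]

theorem Bd.map_par (i : B) (c : C) : (X.map h).par (e i) c = X.par i c := by
  simp only [Bd.par, Bd.map_δ, h.eq_simple]

theorem Bd.map_isApt {a : W → C} (ha : X.IsApt Set.univ a) :
    (X.map h).IsApt Set.univ fun w => a (f.symm w) := fun u _ v _ => by
  rw [Bd.map_δ, ha _ (by rw [coxPar_univ]; trivial) _ (by rw [coxPar_univ]; trivial)]
  simp

theorem Bd.map_res (J : Set B) (c : C) : (X.map h).Res (e '' J) c = X.Res J c :=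
  Set.ext fun _ => h.mem_par

theorem Bd.map_fixP {g : C → C} {i : B} {c : C} : (X.map h).FixP g (e i) c ↔ X.FixP g i c := by
  rw [Bd.FixP, ← Set.image_singleton, X.map_res h, Bd.FixP]

theorem Bd.map_int {J : Set B} {a : W → C} {i : B} {g : C → C} :
    (X.map h).Int (e '' J) (fun w => a (f.symm w)) (e i) g ↔ X.Int J a i g := by
  rw [Bd.Int, f.surjective.forall, Bd.Int]
  refine forall_congr' fun v => ?_
  rw [h.mem_par, h.left, f.symm_apply_apply, Set.forall_mem_image]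
  refine imp_congr_right fun _ => imp_congr_right fun _ => and_congr_right fun _ => ?_
  refine forall₂_congr fun t _ => ?_
  rw [← h, ← map_mul, h.left, X.map_fixP h]

theorem Bd.map_elt {J : Set B} {a : W → C} {i : B} {g : C → C} :
    (X.map h).Elt (e '' J) (fun w => a (f.symm w)) (e i) g ↔ X.Elt J a i g := by
  rw [Bd.Elt, X.map_int h, map_one, X.map_res h, Bd.Elt]
  simp only [Bd.IsoOn, Bd.map_δ, f.apply_eq_iff_eq]

theorem Bd.map_kind (j k : B) (a : W → C) :
    (X.map h).Kind (e j) (e k) (fun w => a (f.symm w)) ↔ X.Kind j k a := by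
  have e1 : sh (fun w => a (f.symm w)) (cs'.simple (e j) * cs'.simple (e k)) =
      fun w => sh a (cs.simple j * cs.simple k) (f.symm w) := by
    funext w
    rw [← h, ← h, ← map_mul, sh_apply, sh_apply, map_mul f.symm, f.symm_apply_apply]
  rw [Bd.Kind, ← Set.image_pair, e1, map_one, X.map_res h, Bd.Kind]
  simp only [X.map_elt h]

end Map

variable {G : Type*} [Group G] (P : Cfsg.BNPair G)

theorem cellOf_out (g h : G) : P.cellOf ((Quotient.out (g : G ⧸ P.B))⁻¹ * Quotient.out (h : G ⧸ P.B)) =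
    P.cellOf (g⁻¹ * h) := by
  obtain ⟨b, hb⟩ := QuotientGroup.mk_out_eq_mul P.B g
  obtain ⟨b', hb'⟩ := QuotientGroup.mk_out_eq_mul P.B h
  rw [hb, hb', mul_inv_rev, mul_assoc, BNPair.cellOf_mul_left (inv_mem b.2), ← mul_assoc,
    BNPair.cellOf_mul_right b'.2]

/-- The building of a (B,N)-pair. -/
noncomputable def ofBN : Bd P.cs Set.univ (G ⧸ P.B) where
  δ c d := P.cellOf ((Quotient.out c)⁻¹ * Quotient.out d)
  mem c d := by rw [coxPar_univ]; trivial
  eq_one := by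
    intro c d
    rw [BNPair.cellOf_eq_one_iff, ← QuotientGroup.eq, QuotientGroup.out_eq', QuotientGroup.out_eq']
  inv c d := by rw [← BNPair.cellOf_inv, mul_inv_rev, inv_inv]
  step c d x i h := by
    rw [P.cs_simple, BNPair.cellOf_eq_iff] at h
    have e : (Quotient.out c)⁻¹ * Quotient.out x =
      (Quotient.out c)⁻¹ * Quotient.out d * ((Quotient.out d)⁻¹ * Quotient.out x) := by group
    rw [P.cs_simple, BNPair.cellOf_eq_iff, BNPair.cellOf_eq_iff, e]
    by_cases hd : P.cs.IsRightDescent (P.cellOf ((Quotient.out c)⁻¹ * Quotient.out d)) i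
    · exact (BNPair.mul_simple_mem_or (BNPair.mem_cell_cellOf _) h).imp_right fun h => ⟨h, hd⟩
    · exact .inl (BNPair.mul_simple_mem hd (BNPair.mem_cell_cellOf _) h)
  ex c d i _ := by
    obtain ⟨c, rfl⟩ := QuotientGroup.mk_surjective c
    obtain ⟨d, rfl⟩ := QuotientGroup.mk_surjective d
    obtain ⟨n, hn⟩ := P.toW_surjective (P.cellOf (c⁻¹ * d))
    obtain ⟨b, hb, b', hb', e⟩ := (BNPair.mem_cell_iff hn).1 (BNPair.mem_cell_cellOf _)
    refine ⟨(d * (b'⁻¹ * i) : G), ?_, ?_⟩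
    · rw [cellOf_out, inv_mul_cancel_left, BNPair.cellOf_mul_left (inv_mem hb'), P.cs_simple,
        BNPair.cellOf_eq_iff]
      exact BNPair.coe_mem_cell_simple i
    · rw [cellOf_out, cellOf_out, ← hn, ← mul_assoc, e, mul_assoc, mul_inv_cancel_left, mul_assoc,
        BNPair.cellOf_mul_left hb, P.cs_simple, ← P.toW_repN, ← map_mul, ← BNPair.cellOf_coe]
      rfl
  thick c i _ := by
    obtain ⟨c, rfl⟩ := QuotientGroup.mk_surjective c
    obtain ⟨b, hb, h⟩ := P.exists_conj_not_mem i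
    have h1 := BNPair.cellOf_eq_iff.2 (BNPair.coe_mem_cell_simple i)
    refine ⟨(c * i : G), (c * (b * i) : G), ?_, ?_, fun e => h ?_⟩
    · rw [cellOf_out, inv_mul_cancel_left, h1, P.cs_simple]
    · rw [cellOf_out, inv_mul_cancel_left, BNPair.cellOf_mul_left hb, h1, P.cs_simple]
    · have := mul_mem (P.sq_mem i i.2) (QuotientGroup.eq.1 e)
      convert this using 1
      group

theorem ofBN_δ (g h : G) : (ofBN P).δ (g : G ⧸ P.B) (h : G ⧸ P.B) = P.cellOf (g⁻¹ * h) :=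
  cellOf_out P g h

theorem ofBN_wt : (ofBN P).WT (MulAction.toPermHom G (G ⧸ P.B)).range := by
  refine ⟨?_, fun c d c' d' h => ?_⟩
  · rintro _ ⟨g, rfl⟩ x y
    obtain ⟨x, rfl⟩ := QuotientGroup.mk_surjective x
    obtain ⟨y, rfl⟩ := QuotientGroup.mk_surjective y
    change (ofBN P).δ (g * x : G) (g * y : G) = _
    rw [ofBN_δ, ofBN_δ]
    congr 1
    group
  · obtain ⟨c, rfl⟩ := QuotientGroup.mk_surjective c
    obtain ⟨d, rfl⟩ := QuotientGroup.mk_surjective d
    obtain ⟨c', rfl⟩ := QuotientGroup.mk_surjective c'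
    obtain ⟨d', rfl⟩ := QuotientGroup.mk_surjective d'
    rw [ofBN_δ, ofBN_δ] at h
    obtain ⟨b, hb, b', hb', e⟩ := BNPair.exists_eq_of_mem_cell (BNPair.cellOf_eq_iff.1 h)
      (BNPair.mem_cell_cellOf (c'⁻¹ * d'))
    refine ⟨_, ⟨c' * b * c⁻¹, rfl⟩, ?_, ?_⟩
    · change ((c' * b * c⁻¹ * c : G) : G ⧸ P.B) = _
      rw [QuotientGroup.eq]
      simpa using hb
    · change ((c' * b * c⁻¹ * d : G) : G ⧸ P.B) = _
      rw [QuotientGroup.eq, inv_mul_eq_iff_eq_mul.1 e]
      convert hb' using 1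
      group

theorem ofBN_inj [IsSimpleGroup G] [Nonempty P.S] :
    Function.Injective (MulAction.toPermHom G (G ⧸ P.B)) := by
  rw [← MonoidHom.ker_eq_bot_iff]
  refine (IsSimpleGroup.eq_bot_or_eq_top_of_normal _ inferInstance).resolve_right fun h => ?_
  obtain ⟨s⟩ := ‹Nonempty P.S›
  rw [← Subgroup.normalCore_eq_ker] at h
  exact P.not_mem_B s (P.B.normalCore_le (h.ge (Subgroup.mem_top _)))

theorem sph_cs : Sph P.cs := ⟨fun i j => by rw [P.cs_simple, P.cs_simple, P.coxM_apply]⟩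

/-- The (B,N)-pair of a standard parabolic subgroup. -/
def subBN (J : Set P.S) : BNPair (P.par J) where
  B := P.B.subgroupOf _
  N := P.N.subgroupOf _
  S := {x | ∃ s ∈ J, (s : G) = x}
  sup_eq_top := by
    rw [eq_top_iff]
    rintro ⟨g, hg⟩ -
    obtain ⟨n, hn⟩ := P.toW_surjective (P.cellOf g)
    obtain ⟨b, hb, b', hb', e⟩ := (BNPair.mem_cell_iff hn).1 (BNPair.mem_cell_cellOf _)
    have h1 : (n : G) ∈ P.par J := BNPair.coe_mem_par_iff_toW.2 (hn ▸ BNPair.mem_par_iff.1 hg)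
    have : (⟨g, hg⟩ : P.par J) = ⟨b, P.B_le_par J hb⟩ * ⟨n, h1⟩ * ⟨b', P.B_le_par J hb'⟩ :=
      Subtype.ext e
    rw [this]
    exact mul_mem (mul_mem (Subgroup.mem_sup_left hb) (Subgroup.mem_sup_right n.2))
      (Subgroup.mem_sup_left hb')
  conj_mem n hn t ht := P.conj_mem n hn t ⟨ht.1, ht.2⟩
  subset := by
    rintro x ⟨s, -, e⟩
    exact Subgroup.mem_subgroupOf.2 (e ▸ P.subset s.2)
  sq_mem := by
    rintro x ⟨s, -, e⟩
    exact Subgroup.mem_subgroupOf.2 (by simpa [← e] using P.sq_mem s s.2)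
  inj := by
    rintro x ⟨s, -, e⟩ y ⟨t, -, e'⟩ h
    refine Subtype.ext (e ▸ e' ▸ P.inj s s.2 t t.2 ?_)
    simpa [← e, ← e'] using Subgroup.mem_subgroupOf.1 h
  closure_sup := by
    refine le_antisymm (sup_le ((Subgroup.closure_le _).2 ?_) inf_le_right) fun n hn => ?_
    · rintro x ⟨s, -, e⟩
      exact Subgroup.mem_subgroupOf.2 (e ▸ P.subset s.2)
    · obtain ⟨n', h1, h2⟩ := BNPair.exists_mem_closure_toW
        ((BNPair.coe_mem_par_iff_toW (P := P) (n := ⟨n, Subgroup.mem_subgroupOf.1 hn⟩)).1 n.2)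
      have h3 : Subtype.val '' J = (P.par J).subtype '' {x | ∃ s ∈ J, (s : G) = x} := by
        ext x
        constructor
        · rintro ⟨s, hs, rfl⟩
          exact ⟨⟨s, BNPair.coe_mem_par hs⟩, ⟨s, hs, rfl⟩, rfl⟩
        · rintro ⟨_, ⟨s, hs, e⟩, rfl⟩
          exact ⟨s, hs, e⟩
      rw [h3, ← MonoidHom.map_closure] at h1
      obtain ⟨y, hy, e⟩ := h1
      rw [← mul_inv_cancel_left y n]
      refine mul_mem (Subgroup.mem_sup_left hy) (Subgroup.mem_sup_right ⟨?_, ?_⟩)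
      · change (y : G)⁻¹ * n ∈ P.B
        rw [show (y : G) = n' from e]
        exact P.toW_eq_iff.1 h2
      · change (y : G)⁻¹ * n ∈ P.N
        rw [show (y : G) = n' from e]
        exact mul_mem (inv_mem n'.2) hn
  mul_mem_union := by
    rintro x ⟨s, -, e⟩ n hn b hb
    have key : ∀ y z : P.par J, (y : G) ∈ DoubleCoset.doubleCoset (z : G) (P.B : Set G) P.B →
        y ∈ DoubleCoset.doubleCoset z (P.B.subgroupOf (P.par J) : Set (P.par J))
          (P.B.subgroupOf (P.par J)) := fun y z h => by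
      obtain ⟨u, hu, v, hv, e⟩ := DoubleCoset.mem_doubleCoset.1 h
      exact DoubleCoset.mem_doubleCoset.2 ⟨⟨u, P.B_le_par J hu⟩, hu, ⟨v, P.B_le_par J hv⟩, hv,
        Subtype.ext e⟩
    refine (P.mul_mem_union x (e ▸ s.2) n hn b hb).imp (key _ _) (key _ _)
  conj_ne := by
    rintro x ⟨s, -, e⟩ h
    obtain ⟨b, hb, h1⟩ := P.exists_conj_not_mem s
    have := h.le ⟨⟨b, P.B_le_par J hb⟩, hb, rfl⟩
    exact h1 (e ▸ Subgroup.mem_subgroupOf.1 this)

theorem simple_pow_eq_one (s t : P.S) (n : ℕ) :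
    (P.simple s * P.simple t) ^ n = 1 ↔ ((s : G) * t) ^ n ∈ P.B := by
  rw [← P.toW_repN, ← P.toW_repN, ← map_mul, ← map_pow, P.toW_eq_one_iff]
  rfl

theorem fh_coxM [Finite G] : FH P.coxM := by
  intro s t hst
  let a : (subBN P {s, t}).S := ⟨⟨s, BNPair.coe_mem_par (by simp)⟩, s, by simp, rfl⟩
  let b : (subBN P {s, t}).S := ⟨⟨t, BNPair.coe_mem_par (by simp)⟩, t, by simp, rfl⟩
  have hab : a ≠ b := fun h => hst (Subtype.ext (congrArg (fun x => (x.1 : G)) h))
  have hb : Function.Bijective (![a, b] : Fin 2 → (subBN P {s, t}).S) := by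
    refine ⟨fun i j h => ?_, ?_⟩
    · fin_cases i <;> fin_cases j <;> simp_all
    · rintro ⟨x, u, rfl | rfl, e⟩
      · exact ⟨0, Subtype.ext (Subtype.ext e)⟩
      · exact ⟨1, Subtype.ext (Subtype.ext e)⟩
  obtain ⟨m, h1, -, h2⟩ := (subBN P {s, t}).feit_higman (Equiv.ofBijective _ hb).symm
  have : P.coxM s t = m := by
    rw [P.coxM_apply, ← h1, orderOf_eq_orderOf_iff]
    intro n
    rw [simple_pow_eq_one, simple_pow_eq_one]
    rfl
  rwa [this]

theorem conn_coxM (h : P.Irreducible) : Conn P.coxM := by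
  rintro J ⟨s, hs⟩ ⟨t, ht⟩
  obtain ⟨_, ⟨u, hu, rfl⟩, v, ⟨hv, hv'⟩, h1⟩ := h (Subtype.val '' J) (Subtype.coe_image_subset _ _)
    ⟨s, s, hs, rfl⟩ ⟨t, t.2, fun ⟨t', h1, h2⟩ => ht (Subtype.ext h2 ▸ h1)⟩
  refine ⟨u, hu, ⟨v, hv⟩, fun h2 => hv' ⟨_, h2, rfl⟩, fun h2 => h1 ?_⟩
  have h3 := P.cs.simple_mul_simple_pow u ⟨v, hv⟩
  rw [h2, P.cs_simple, P.cs_simple, pow_two] at h3
  nth_rw 2 [← BNPair.inv_simple u, ← BNPair.inv_simple ⟨v, hv⟩] at h3
  rw [← P.toW_repN, ← P.toW_repN, ← map_inv, ← map_inv, ← map_mul, ← map_mul, ← map_mul,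
    P.toW_eq_one_iff, ← mul_assoc] at h3
  exact h3

end Cfsg.Agent.Bld
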