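import Mathlib
import Cfsg.Agent.Bld.Root
import Cfsg.Agent.Bld.OfBN
import Cfsg.Agent.Bld.KnownCl
import Cfsg.Agent.QT.KFamB
import Cfsg.Agent.QT.KFamC

/-! A known group of Lie type is determined by its building. -/

set_option autoImplicit false
set_option linter.unusedSectionVars false

namespace Cfsg.Agent.Bld

open Cfsg.Agent.Chev CoxeterSystem RootBN

namespace EndAux

section BN

variable {X Φ I : Type*} [Group X] [Finite Φ] (R : RootBN X Φ I) (hG : R.G = ⊤)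
include hG

theorem memG (g : X) : g ∈ R.G := hG ▸ Subgroup.mem_top g

omit hG in
theorem s_inj {i j : I} (h : (R.s i)⁻¹ * R.s j ∈ R.B) : i = j :=
  R.topSub.eq_of_w_t_eq ((inv_mul_mem_H_iff (R.s_mem i) (R.s_mem j)).1
    (mem_H_of_mem_B_N h (mul_mem (inv_mem (R.s_mem i)) (R.s_mem j))))

/-- The (B,N)-pair on the whole group. -/
def bn : Cfsg.BNPair X where
  B := R.B
  N := R.N
  S := Set.range R.s
  sup_eq_top := by
    rw [eq_top_iff, ← hG, R.G_eq]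
    exact sup_le_sup_right U_le_B _
  conj_mem n hn t ht := H_le_B (conj_H hn (mem_H_of_mem_B_N ht.1 ht.2))
  subset := by rintro _ ⟨i, rfl⟩; exact R.s_mem i
  sq_mem := by rintro _ ⟨i, rfl⟩; exact H_le_B (s_mul_s i)
  inj := by rintro _ ⟨i, rfl⟩ _ ⟨j, rfl⟩ h; rw [s_inj R h]
  closure_sup := by
    refine le_antisymm (sup_le ((Subgroup.closure_le _).2 ?_) inf_le_right) ?_
    · rintro _ ⟨i, rfl⟩; exact R.s_mem i
    · conv_lhs => rw [← NS_univ (R := R), NS, Set.image_univ]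
      exact sup_le_sup_left (le_inf H_le_B R.H_le_N) _
  mul_mem_union := by
    rintro _ ⟨i, rfl⟩ n hn b hb
    rcases R.topSub.t_mul_mem i hn (memG R hG n) hb (memG R hG b) with
      ⟨c, hc, d, hd, e⟩ | ⟨c, hc, d, hd, e⟩
    · exact Or.inl (DoubleCoset.mem_doubleCoset.2 ⟨c, hc.1, d, hd.1, e⟩)
    · exact Or.inr (DoubleCoset.mem_doubleCoset.2 ⟨c, hc.1, d, hd.1, e⟩)
  conj_ne := by
    rintro _ ⟨i, rfl⟩ h
    obtain ⟨y, hy, hy1⟩ := exists_mem_X_ne_one (R := R) (R.simple i)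
    have h2 : R.s i * y * R.s i ∈ R.B := by
      rw [← SetLike.mem_coe, ← h]; exact ⟨y, U_le_B (X_le_U (R.pos_simple i) hy), rfl⟩
    have h3 : R.s i * y * (R.s i)⁻¹ ∈ R.B := by
      simpa [mul_assoc] using mul_mem h2 (inv_mem (H_le_B (s_mul_s i)))
    exact hy1 (by simpa using eq_one_of_mem_B_V h3 (X_le_V (not_pos_neg_simple i) (conj_s_X hy)))

/-- The nodes. -/
noncomputable def nodeE : (bn R hG).S ≃ I :=
  (Equiv.ofInjective R.s fun _ _ h => s_inj R (by rw [h]; simp)).symm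

theorem s_nodeE (i : (bn R hG).S) : R.s (nodeE R hG i) = i := Equiv.apply_ofInjective_symm _ i

theorem coxM_bn (i j : (bn R hG).S) :
    (bn R hG).coxM i j = orderOf (R.w (R.s (nodeE R hG i)) * R.w (R.s (nodeE R hG j))) := by
  rw [Cfsg.BNPair.coxM_apply, s_nodeE, s_nodeE, orderOf_eq_orderOf_iff]
  intro n
  let φ : (bn R hG).N →* Equiv.Perm Φ := R.wHom
  have h1 : R.w i * R.w j = φ ((bn R hG).repN i * (bn R hG).repN j) := by
    rw [map_mul]; rfl
  rw [h1, ← map_pow, ← Cfsg.BNPair.toW_repN, ← Cfsg.BNPair.toW_repN, ← map_mul, ← map_pow,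
    Cfsg.BNPair.toW_eq_one_iff]
  generalize ((bn R hG).repN i * (bn R hG).repN j) ^ n = m
  exact ⟨fun h => R.w_H (mem_H_of_mem_B_N h m.2), fun h => H_le_B (mem_H_of_w_eq_one m.2 h)⟩

end BN

variable {X Φ B W : Type*} [Group X] [Group W] {M : CoxeterMatrix B}

/-- The building on `X / B` together with the cell function. -/
structure Setup (R : RootBN X Φ B) (cs : CoxeterSystem M W) where
  /-- the building -/
  Y : Bd cs Set.univ (X ⧸ R.B)
  /-- the Bruhat cell of an element -/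
  c : X → W
  δ_mk : ∀ g h : X, Y.δ g h = c (g⁻¹ * h)
  c_left : ∀ {b : X}, b ∈ R.B → ∀ g, c (b * g) = c g
  c_right : ∀ {b : X}, b ∈ R.B → ∀ g, c (g * b) = c g
  c_mul : ∀ {n m : X}, n ∈ R.N → m ∈ R.N → c (n * m) = c n * c m
  c_s : ∀ i, c (R.s i) = cs.simple i

theorem exists_setup [Finite Φ] (R : RootBN X Φ B) (hG : R.G = ⊤) (cs : CoxeterSystem M W)
    (hM : ∀ i j, orderOf (R.w (R.s i) * R.w (R.s j)) = M i j) : Nonempty (Setup R cs) := by
  obtain ⟨f, hf⟩ := exists_isCI (bn R hG).cs cs (nodeE R hG) fun i j => by rw [coxM_bn, hM]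
  refine ⟨⟨(ofBN (bn R hG)).map hf, fun g => f ((bn R hG).cellOf g), fun g h => ?_, fun hb g => ?_,
    fun hb g => ?_, fun {n m} hn hm => ?_, fun i => ?_⟩⟩
  · exact congrArg f (ofBN_δ (bn R hG) g h)
  · rw [Cfsg.BNPair.cellOf_mul_left (P := bn R hG) hb]
  · rw [Cfsg.BNPair.cellOf_mul_right (P := bn R hG) hb]
  · rw [← map_mul, show (bn R hG).cellOf n = _ from Cfsg.BNPair.cellOf_coe (P := bn R hG) ⟨n, hn⟩,
      show (bn R hG).cellOf m = _ from Cfsg.BNPair.cellOf_coe (P := bn R hG) ⟨m, hm⟩, ← map_mul]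
    exact congrArg f (Cfsg.BNPair.cellOf_coe (P := bn R hG) (⟨n, hn⟩ * ⟨m, hm⟩))
  · have h1 := hf ((nodeE R hG).symm i)
    rw [Equiv.apply_symm_apply, Cfsg.BNPair.cs_simple] at h1
    rw [← h1]
    exact congrArg f (Cfsg.BNPair.cellOf_coe (P := bn R hG) ((bn R hG).repN ((nodeE R hG).symm i)))

namespace Setup

variable [Finite Φ] {R : RootBN X Φ B} {cs : CoxeterSystem M W} [Sph cs] [Finite W] (S : Setup R cs)

theorem c_eq_one {g : X} : S.c g = 1 ↔ g ∈ R.B := by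
  have := S.δ_mk 1 g
  rw [inv_one, one_mul] at this
  rw [← this, S.Y.eq_one, QuotientGroup.eq, inv_one, one_mul]

theorem c_one : S.c 1 = 1 := S.c_eq_one.2 (one_mem _)

theorem c_inv {n : X} (hn : n ∈ R.N) : S.c n⁻¹ = (S.c n)⁻¹ := by
  rw [eq_inv_iff_mul_eq_one, ← S.c_mul (inv_mem hn) hn, inv_mul_cancel, c_one]

theorem exists_n (w : W) : ∃ n ∈ R.N, S.c n = w := by
  induction w using cs.simple_induction_right with
  | one => exact ⟨1, one_mem _, S.c_one⟩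
  | mul_simple_right w i ih =>
    obtain ⟨n, hn, rfl⟩ := ih
    exact ⟨n * R.s i, mul_mem hn (R.s_mem i), by rw [S.c_mul hn (R.s_mem i), S.c_s]⟩

/-- Representatives of the elements of the Weyl group. -/
noncomputable def n (w : W) : X := (S.exists_n w).choose

theorem n_mem (w : W) : S.n w ∈ R.N := (S.exists_n w).choose_spec.1

theorem c_n (w : W) : S.c (S.n w) = w := (S.exists_n w).choose_spec.2

/-- The standard apartment. -/
noncomputable def a (w : W) : X ⧸ R.B := S.n w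

theorem mem_H_of_c {n m : X} (hn : n ∈ R.N) (hm : m ∈ R.N) (h : S.c n = S.c m) : n⁻¹ * m ∈ R.H :=
  mem_H_of_mem_B_N (S.c_eq_one.1 (by rw [S.c_mul (inv_mem hn) hm, S.c_inv hn, h, inv_mul_cancel]))
    (mul_mem (inv_mem hn) hm)

theorem mk_eq {m : X} (hm : m ∈ R.N) : (m : X ⧸ R.B) = S.a (S.c m) :=
  QuotientGroup.eq.2 (H_le_B (S.mem_H_of_c hm (S.n_mem _) (S.c_n _).symm))

theorem a_one : S.a 1 = ((1 : X) : X ⧸ R.B) := by rw [S.mk_eq (one_mem _), c_one]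

theorem a_s (i : B) : S.a (cs.simple i) = (R.s i : X ⧸ R.B) := by rw [S.mk_eq (R.s_mem i), S.c_s]

theorem isApt : S.Y.IsApt Set.univ S.a := fun u _ v _ => by
  rw [a, a, S.δ_mk, S.c_mul (inv_mem (S.n_mem u)) (S.n_mem v), S.c_inv (S.n_mem u), c_n, c_n]

theorem δ_one (g : X) : S.Y.δ (S.a 1) g = S.c g := by rw [a_one, S.δ_mk, inv_one, one_mul]

/-- The action on the chambers. -/
abbrev ρ (R : RootBN X Φ B) : X →* Equiv.Perm (X ⧸ R.B) := MulAction.toPermHom X (X ⧸ R.B)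

omit [Finite Φ] in
theorem ρ_mk (g h : X) : ρ R g (h : X ⧸ R.B) = (g * h : X) := rfl

theorem ρ_mem (g : X) : ρ R g ∈ S.Y.Aut := fun x y => by
  induction x using QuotientGroup.induction_on
  induction y using QuotientGroup.induction_on
  rw [ρ_mk, ρ_mk, S.δ_mk, S.δ_mk]
  congr 1
  group

theorem ρ_a {m : X} (hm : m ∈ R.N) (v : W) : ρ R m (S.a v) = S.a (S.c m * v) := by
  rw [a, ρ_mk, S.mk_eq (mul_mem hm (S.n_mem v)), S.c_mul hm (S.n_mem v), c_n]

omit [Finite Φ] in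
theorem fix_iff {x g : X} : ρ R x (g : X ⧸ R.B) = g ↔ g⁻¹ * x * g ∈ R.B := by
  rw [ρ_mk, eq_comm, QuotientGroup.eq, mul_assoc]

theorem free {m x : X} (hm : m ∈ R.N) (hx : x ∈ R.Um m⁻¹) (h : ρ R x (m : X ⧸ R.B) = m) : x = 1 := by
  have h1 := eq_one_of_mem_B_V (fix_iff.1 h) (by simpa using conj_Um (inv_mem hm) hx)
  rwa [mul_assoc, inv_mul_eq_one, right_eq_mul] at h1

theorem desc {m : X} (hm : m ∈ R.N) {i : B} (h : ¬ R.pos (R.w m⁻¹ (R.simple i))) :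
    cs.IsLeftDescent (S.c m) i := by
  obtain ⟨x, hx, hx1⟩ := exists_mem_X_ne_one (R := R) (R.simple i)
  obtain ⟨a, ha, k, hk, b, hb, e⟩ := R.rank_one i hx hx1
  have hs := R.s_mem i
  have h1 : m⁻¹ * ((R.s i)⁻¹ * b * R.s i) * m ∈ R.B := by
    have := conj_X_mem_U (inv_mem hm) (conj_s_inv_X hb) (by rwa [R.w_neg (inv_mem hm), R.pos_neg])
    rw [inv_inv] at this
    exact U_le_B this
  have h2 : S.c (R.s i * x * m) = S.c m := by
    have : R.s i * x * m = a * k * (R.s i * R.s i) * (m * (m⁻¹ * ((R.s i)⁻¹ * b * R.s i) * m)) := by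
      rw [← inv_mul_cancel_right (R.s i * x) (R.s i), e]; group
    rw [this, S.c_left (mul_mem (mul_mem (U_le_B (X_le_U (R.pos_simple i) ha)) (H_le_B hk))
      (H_le_B (s_mul_s i))), S.c_right h1]
  have h3 : S.Y.δ (R.s i : X) (R.s i * x * m : X) = S.c m := by
    rw [S.δ_mk, mul_assoc, inv_mul_cancel_left, S.c_left (U_le_B (X_le_U (R.pos_simple i) hx))]
  rcases Bd.step_left (X := S.Y) (c := S.a 1) (d := (R.s i : X)) (R.s i * x * m : X)
    (by rw [δ_one, S.c_s]) with h4 | h4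
  · rw [h3, δ_one, h2, right_eq_mul] at h4
    exact absurd h4 (simple_ne_one cs i)
  · exact h3 ▸ h4.2

theorem pos_of_not_desc {v : W} {i : B} (h : ¬ cs.IsLeftDescent v i) :
    R.pos (R.w (S.n v)⁻¹ (R.simple i)) := by
  by_contra h1
  exact h (S.c_n v ▸ S.desc (S.n_mem v) h1)

variable (hG : R.G = ⊤)
include hG

theorem exists_eq {m g : X} (hm : m ∈ R.N) (h : S.c g = S.c m) :
    ∃ x ∈ R.Um m⁻¹, ∃ b ∈ R.B, g = x * m * b := by
  obtain ⟨u, hu, k, hk, u', hu', rfl⟩ := bruhat (memG R hG g)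
  rw [S.c_right (U_le_B hu'), S.c_left (U_le_B hu)] at h
  obtain ⟨x, hx, y, hy, rfl⟩ := factor (inv_mem hm) hu
  refine ⟨x, hx, m⁻¹ * y * m⁻¹⁻¹ * (m⁻¹ * k) * u', mul_mem (mul_mem (U_le_B (conj_Up (inv_mem hm) hy))
    (H_le_B (S.mem_H_of_c hm hk h.symm))) (U_le_B hu'), by group⟩

theorem trans {m : X} (hm : m ∈ R.N) {z : X ⧸ R.B} (h : S.Y.δ (S.a 1) z = S.c m) :
    ∃ x ∈ R.Um m⁻¹, ρ R x (m : X ⧸ R.B) = z := by
  induction z using QuotientGroup.induction_on with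
  | H g =>
    obtain ⟨x, hx, b, hb, rfl⟩ := S.exists_eq hG hm ((S.δ_one g).symm.trans h)
    exact ⟨x, hx, by rw [ρ_mk, QuotientGroup.mk_mul_of_mem _ hb]⟩

theorem card_cell {m : X} (hm : m ∈ R.N) :
    {z | S.Y.δ (S.a 1) z = S.c m}.ncard = Nat.card (R.Um m⁻¹) := by
  rw [← Nat.card_coe_set_eq, eq_comm]
  refine Nat.card_congr (Equiv.ofBijective (fun x => ⟨ρ R x (m : X ⧸ R.B), ?_⟩) ⟨fun x y h => ?_, ?_⟩)
  · rw [Set.mem_ofPred_eq, ρ_mk, δ_one, S.c_left (U_le_B (Um_le_U _ x.2))]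
  · refine Subtype.ext (inv_mul_eq_one.1 (free hm (mul_mem (inv_mem x.2) y.2) ?_))
    rw [map_mul, map_inv, Equiv.Perm.mul_apply, Equiv.Perm.inv_eq_iff_eq]
    exact (congrArg Subtype.val h).symm
  · rintro ⟨z, hz⟩
    obtain ⟨x, hx, e⟩ := S.trans hG hm hz
    exact ⟨⟨x, hx⟩, Subtype.ext e⟩

omit hG in
theorem Um_s_inv (i : B) : R.Um (R.s i)⁻¹ = R.X (R.simple i) := by
  rw [Um_eq_of_w_eq (w_s_inv i), Um_s]

omit hG in
theorem Um_n0_inv : R.Um R.n0⁻¹ = R.U := by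
  rw [Um_eq_of_w_eq (w_inv_of_sq n0_mem n0_mul_n0), Um_n0]

theorem par_eq (i : B) : S.Y.par i (S.a 1) = Nat.card (R.X (R.simple i)) := by
  rw [Bd.par, ← S.c_s, S.card_cell hG (R.s_mem i), Um_s_inv]

theorem wt : S.Y.WT (ρ R).range := by
  refine ⟨by rintro _ ⟨g, rfl⟩; exact S.ρ_mem g, fun c d c' d' h => ?_⟩
  induction c using QuotientGroup.induction_on with | H c => ?_
  induction d using QuotientGroup.induction_on with | H d => ?_
  induction c' using QuotientGroup.induction_on with | H c' => ?_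
  induction d' using QuotientGroup.induction_on with | H d' => ?_
  rw [S.δ_mk, S.δ_mk] at h
  obtain ⟨x, hx, b, hb, e⟩ := S.exists_eq hG (S.n_mem _) (S.c_n (S.c (c⁻¹ * d))).symm
  obtain ⟨x', hx', b', hb', e'⟩ := S.exists_eq hG (S.n_mem _) (h.symm.trans (S.c_n _).symm)
  refine ⟨ρ R (c' * x' * x⁻¹ * c⁻¹), ⟨_, rfl⟩, ?_, ?_⟩
  · rw [ρ_mk, inv_mul_cancel_right, mul_assoc, QuotientGroup.mk_mul_of_mem _
      (U_le_B (mul_mem (Um_le_U _ hx') (inv_mem (Um_le_U _ hx))))]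
  · rw [ρ_mk, mul_assoc, e, inv_mul_eq_iff_eq_mul.1 e', QuotientGroup.eq]
    convert mul_mem (inv_mem hb) hb' using 1
    group

theorem mem_P {g : X} {t : B} (h : S.c g ∈ coxPar cs {t}) : g ∈ R.P {t} := by
  rcases (mem_par_single cs).1 h with h | h
  · exact B_le_P _ (S.c_eq_one.1 h)
  · obtain ⟨x, hx, b, hb, rfl⟩ := S.exists_eq hG (R.s_mem t) (h.trans (S.c_s t).symm)
    exact mul_mem (mul_mem (U_le_P _ (Um_le_U _ hx)) (s_mem_P rfl)) (B_le_P _ hb)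

theorem ρ_mem_U {i : B} {x : X} (hx : x ∈ R.X (R.simple i)) : ρ R x ∈ S.Y.U S.a i := by
  refine ⟨S.ρ_mem x, fun v _ hv => ?_⟩
  have hn := S.n_mem v
  have h1 := S.pos_of_not_desc hv
  have h2 := R.conj_X (inv_mem hn) hx
  rw [inv_inv] at h2
  refine ⟨fix_iff.2 (U_le_B (X_le_U h1 h2)), fun t _ ht z hz => ?_⟩
  induction z using QuotientGroup.induction_on with | H g => ?_
  have h3 : (S.n v)⁻¹ * g ∈ R.P {t} := S.mem_P hG (S.δ_mk _ _ ▸ hz)
  have h4 : R.w (S.n v)⁻¹ (R.simple i) ≠ R.simple t := fun e => ht (by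
    have := S.desc (mul_mem hn (R.s_mem t)) (i := i) (by
      rw [mul_inv_rev, w_mul_apply (inv_mem (R.s_mem t)) (inv_mem hn), e, w_s_inv, R.w_s_simple]
      exact not_pos_neg_simple t)
    rwa [S.c_mul hn (R.s_mem t), c_n, S.c_s] at this)
  have h5 := conj_P_Q (inv_mem h3) (X_le_Q_singleton h1 h4 h2)
  refine fix_iff.2 ?_
  convert U_le_B (Q_le_U _ h5) using 1
  group

variable (hM : NoIso M Set.univ)
include hM

theorem U_le (i : B) : S.Y.U S.a i ≤ (ρ R).range := fun g hg => by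
  have h0 : g (S.a 1) = S.a 1 := (hg.2 1 (one_mem _) (cs.not_isLeftDescent_one i)).1
  have h1 : S.Y.δ (S.a 1) (g (S.a (cs.simple i))) = S.c (R.s i) := by
    rw [← h0, hg.1, a_s, δ_one]
  obtain ⟨x, hx, e⟩ := S.trans hG (R.s_mem i) h1
  rw [Um_s_inv] at hx
  have h2 := Bd.U_free hM S.isApt trivial (mul_mem (inv_mem (S.ρ_mem_U hG hx)) hg) (by
    rw [Equiv.Perm.mul_apply, ← e, a_s, Equiv.Perm.inv_eq_iff_eq])
  exact ⟨x, inv_mul_eq_one.1 h2⟩

theorem conj_mem_of_fix {p : ℕ} (hL : R.Lie p) {k : Equiv.Perm (X ⧸ R.B)} (hk : k ∈ S.Y.Aut)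
    (e : ∀ v, k (S.a v) = S.a v) (x : X) : k * ρ R x * k⁻¹ ∈ (ρ R).range := by
  have h1 : R.U ⊔ R.V ≤ (((ρ R).range.comap (MulAut.conj k).toMonoidHom).comap (ρ R)) := by
    refine U_sup_V_le_of_simple (fun i y hy => ?_) fun i y hy => ?_
    · exact S.U_le hG hM i ((Bd.conj_mem_U hk fun v _ => e v).1 (S.ρ_mem_U hG hy))
    · have h2 : ∀ v ∈ coxPar cs Set.univ, ρ R (R.s i) (S.a v) = sh S.a (cs.simple i) v :=
        fun v _ => by rw [S.ρ_a (R.s_mem i), S.c_s, sh_apply]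
      have h3 := (Bd.conj_mem_U (S.ρ_mem _) h2).1 (S.ρ_mem_U hG (conj_s_inv_X_neg hy))
      rw [← map_inv, ← map_mul, ← map_mul, mul_assoc, mul_inv_cancel_right, mul_inv_cancel_left] at h3
      have h4 := (Bd.conj_mem_U (b := sh S.a (cs.simple i)) hk fun v _ => e _).1 h3
      have h5 := S.U_le hG hM i ((Bd.conj_mem_U (S.ρ_mem _) h2 (h := (ρ R (R.s i))⁻¹ *
        (k * ρ R y * k⁻¹) * ρ R (R.s i))).2 (by simpa [mul_assoc] using h4))
      have h6 : ρ R (R.s i) ∈ (ρ R).range := ⟨_, rfl⟩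
      exact (Subgroup.mul_mem_cancel_left _ (inv_mem h6)).1 ((Subgroup.mul_mem_cancel_right _ h6).1 h5)
  exact h1 (hL.gen ▸ memG R hG x)

theorem conj_mem {p : ℕ} (hL : R.Lie p) {g : Equiv.Perm (X ⧸ R.B)} (hg : g ∈ S.Y.Aut)
    {l : Equiv.Perm (X ⧸ R.B)} (hl : l ∈ (ρ R).range) : g * l * g⁻¹ ∈ (ρ R).range := by
  obtain ⟨x, rfl⟩ := hl
  obtain ⟨y, hy, h1, h2⟩ := (S.wt hG).2 _ _ _ _ (hg (S.a 1) (S.a (1 * wl cs Set.univ))).symm
  have hk := mul_mem (inv_mem ((S.wt hG).1 hy)) hg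
  have h3 : S.Y.IsApt Set.univ fun v => (y⁻¹ * g) (S.a v) := fun u hu v hv => by
    rw [hk, S.isApt u hu v hv]
  have h4 := S.conj_mem_of_fix hG hM hL hk (fun v => h3.unique S.isApt (one_mem _)
    (by simp [← h1]) (by rw [Equiv.Perm.mul_apply, ← h2, Equiv.Perm.inv_eq_iff_eq])
    (by rw [coxPar_univ]; trivial)) x
  simpa [mul_assoc] using mul_mem (mul_mem hy h4) (inv_mem hy)

theorem le_normalizer {p : ℕ} (hL : R.Lie p) :
    S.Y.Aut ≤ Subgroup.normalizer ((ρ R).range : Set (Equiv.Perm (X ⧸ R.B))) := fun g hg =>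
  Subgroup.mem_normalizer_iff.2 fun l => ⟨S.conj_mem hG hM hL hg, fun h => by
    simpa [mul_assoc] using S.conj_mem hG hM hL (inv_mem hg) h⟩

end Setup

section Group

variable [Finite Φ] {R : RootBN X Φ B} (hG : R.G = ⊤) {p : ℕ} [Fact p.Prime] (hL : R.Lie p)
include hG hL

open Setup

omit hG in
theorem conj_mem_U {g u : X} (hu : u ∈ R.U) (h : g * u * g⁻¹ ∈ R.B) : g * u * g⁻¹ ∈ R.U := by
  obtain ⟨k, hk⟩ := hL.pU ⟨u, hu⟩
  refine mem_U_of_mem_B hL.pH h (k := k) ?_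
  rw [conj_pow, show u ^ p ^ k = 1 from congrArg Subtype.val hk, mul_one, mul_inv_cancel]

theorem eq_one_of_comm {g : Equiv.Perm (X ⧸ R.B)} (h : ∀ x, g * ρ R x = ρ R x * g) : g = 1 := by
  obtain ⟨y, hy⟩ := QuotientGroup.mk_surjective (g ((1 : X) : X ⧸ R.B))
  have h1 : ∀ x : X, g (x : X ⧸ R.B) = (x * y : X) := fun x => by
    rw [← ρ_mk, hy, ← Equiv.Perm.mul_apply, ← h, Equiv.Perm.mul_apply, ρ_mk, mul_one]
  have h2 : y⁻¹ ∈ R.B := mem_B_of_conj_U (memG R hG _) fun u hu => conj_mem_U hL hu (by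
    rw [inv_inv, ← fix_iff, ρ_mk, ← h1, hy, ← mul_one u, ← one_mul (u * 1), mul_one,
      QuotientGroup.mk_mul_of_mem _ (U_le_B hu)])
  ext z
  induction z using QuotientGroup.induction_on with | H x => ?_
  rw [h1, QuotientGroup.mk_mul_of_mem _ (inv_mem_iff.1 h2), Equiv.Perm.one_apply]

theorem ρ_inj [IsSimpleGroup X] [Nonempty B] : Function.Injective (ρ R) := by
  rw [← MonoidHom.ker_eq_bot_iff]
  refine (IsSimpleGroup.eq_bot_or_eq_top_of_normal _ inferInstance).resolve_right fun h => ?_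
  obtain ⟨i⟩ := ‹Nonempty B›
  obtain ⟨x, hx, hx1⟩ := exists_mem_X_ne_one (R := R) (R.simple i)
  refine hx1 (free (R.s_mem i) (by rwa [Um_s_inv]) ?_)
  rw [show ρ R x = 1 from (h ▸ Subgroup.mem_top x : x ∈ (ρ R).ker), Equiv.Perm.one_apply]

variable {cs : CoxeterSystem M W} [Sph cs] [Finite W] (S : Setup R cs)

/-- A Weyl transitive subgroup of `X` is `X`. -/
theorem eq_top [Finite X] {D : Subgroup X} (hD : S.Y.WT (D.map (ρ R))) : D = ⊤ := by
  have h1 : R.U ≤ D := by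
    have h2 : MulAction.orbit (D ⊓ R.B : Subgroup X) (R.n0 : X ⧸ R.B) =
        {z | S.Y.δ (S.a 1) z = S.c R.n0} := by
      ext z
      constructor
      · rintro ⟨b, rfl⟩
        exact (S.δ_one (b * R.n0)).trans (S.c_left b.2.2 _)
      · intro hz
        obtain ⟨_, ⟨d, hd, rfl⟩, h3, h4⟩ := hD.2 _ _ _ _ ((S.δ_one R.n0).trans hz.symm)
        rw [S.a_one, fix_iff] at h3
        exact ⟨⟨d, hd, by simpa using h3⟩, h4⟩
    have h3 := (MulAction.stabilizer (D ⊓ R.B : Subgroup X) (R.n0 : X ⧸ R.B)).index_dvd_card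
    obtain ⟨k, hk⟩ := IsPGroup.iff_card.1 hL.pU
    rw [MulAction.index_stabilizer, h2, S.card_cell hG n0_mem, Um_n0_inv, hk] at h3
    obtain ⟨K, hK⟩ := Sylow.exists_subgroup_card_pow_prime p h3
    have h4 : K.map (D ⊓ R.B).subtype ≤ R.U := by
      rintro _ ⟨x, hx, rfl⟩
      refine mem_U_of_mem_B hL.pH x.2.2 (k := k) ?_
      have := pow_card_eq_one' (x := (⟨x, hx⟩ : K))
      rw [hK] at this
      exact congrArg (fun y : K => ((y : (D ⊓ R.B : Subgroup X)) : X)) this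
    rw [← Subgroup.eq_of_le_of_card_ge h4 (by
      rw [Subgroup.card_map_of_injective (D ⊓ R.B).subtype_injective, hK, hk])]
    exact (Subgroup.map_subtype_le _).trans inf_le_left
  obtain ⟨_, ⟨d, hd, rfl⟩, h3, -⟩ := hD.2 (S.a 1) _ (R.n0⁻¹ : X) _
    ((S.Y.δ_self _).trans (S.Y.δ_self _).symm)
  rw [S.a_one, ρ_mk, mul_one, eq_comm, QuotientGroup.eq, inv_inv] at h3
  rw [eq_top_iff, ← hG, ← hL.gen]
  refine sup_le h1 fun v hv => ?_
  have h4 := h1 (conj_B_U (inv_mem h3) (n0_conj_mem_U.2 hv))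
  have h5 := mul_mem (mul_mem hd h4) (inv_mem hd)
  simpa [mul_assoc] using h5

end Group

theorem not_comm [Nonempty B] {cs : CoxeterSystem M W} {C : Type*} [Nonempty C]
    {Y : Bd cs Set.univ C} {G : Subgroup (Equiv.Perm C)} (hG : Y.WT G) : ¬ IsMulCommutative G := by
  intro h
  obtain ⟨i⟩ := ‹Nonempty B›
  obtain ⟨c⟩ := ‹Nonempty C›
  obtain ⟨d, e, h1, h2, h3⟩ := Y.thick c i trivial
  obtain ⟨g, hg, h4, h5⟩ := hG.2 _ _ _ _ (h1.trans h2.symm)
  obtain ⟨k, hk, h6, -⟩ := hG.2 c c d d ((Y.δ_self _).trans (Y.δ_self _).symm)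
  have h7 : g * k = k * g := congrArg Subtype.val (h.is_comm.comm (⟨g, hg⟩ : G) ⟨k, hk⟩)
  apply h3
  rw [← h5, ← h6, ← Equiv.Perm.mul_apply, h7, Equiv.Perm.mul_apply, h4]

/-- A simple group normalising a group with solvable outer automorphism group. -/
theorem le_of_schreier {Γ : Type*} [Group Γ] {G L : Subgroup Γ} [IsSimpleGroup G]
    (hG : ¬ IsMulCommutative G) (hN : G ≤ Subgroup.normalizer (L : Set Γ))
    (hS : Group.IsSolvable (Cfsg.Out L)) (hC : ∀ g : Γ, (∀ l ∈ L, g * l = l * g) → g = 1) : G ≤ L := by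
  let f : G →* Cfsg.Out L :=
    (QuotientGroup.mk' _).comp (L.normalizerMonoidHom.comp (Subgroup.inclusion hN))
  rcases IsSimpleGroup.eq_bot_or_eq_top_of_normal f.ker inferInstance with h | h
  · have := Group.isSolvable_of_isSolvable_injective ((MonoidHom.ker_eq_bot_iff f).1 h)
    exact absurd (IsSimpleGroup.comm_iff_isSolvable.2 this) fun h' => hG ⟨⟨h'⟩⟩
  · intro g hg
    have h1 : f ⟨g, hg⟩ = 1 := (h ▸ Subgroup.mem_top _ : (⟨g, hg⟩ : G) ∈ f.ker)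
    obtain ⟨l, hl⟩ := (QuotientGroup.eq_one_iff _).1 h1
    have h2 := hC ((l : Γ)⁻¹ * g) fun x hx => by
      have h3 := congrArg Subtype.val (DFunLike.congr_fun hl ⟨x, hx⟩)
      have : (l : Γ) * x * (l : Γ)⁻¹ = g * x * g⁻¹ := h3
      calc (l : Γ)⁻¹ * g * x = (l : Γ)⁻¹ * (g * x * g⁻¹) * g := by group
        _ = x * ((l : Γ)⁻¹ * g) := by rw [← this]; group
    rw [← inv_mul_eq_one.1 h2]
    exact l.2

open Cfsg.Agent.QT in
/-- The Schreier property for the groups of Lie type. -/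
theorem schreier_lie {K : Type*} [Group K] [Finite K] [IsSimpleGroup K] (h : LieP K) :
    Group.IsSolvable (Cfsg.Out K) := by
  rcases h with ⟨F, _, _, n, hn, h, ⟨e⟩⟩ | ⟨F, _, _, m, hm, -, ⟨e⟩⟩ |
    ⟨F, _, _, n, q, hF, hn, h, ⟨e⟩⟩ | ⟨F, _, _, m, hm, hF, ⟨e⟩⟩ | ⟨F, _, _, m, hm, ⟨e⟩⟩ |
    ⟨F, _, _, m, a, b, hm, hab, ⟨e⟩⟩ | h
  · exact ((kf_psl hn h).of_equiv e).1.1
  · exact ((kf_psp hm).of_equiv e).1.1
  · exact ((kf_psu hF hn h).of_equiv e).1.1
  · exact ((kf_odd hm hF).of_equiv e).1.1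
  · exact ((kf_plus hm).of_equiv e).1.1
  · exact ((kf_minus hm hab).of_equiv e).1.1
  · exact (kf_exc h (kf_of_outOK outOK_tits not_oddCyc_tits)).1.1

end EndAux

open EndAux EndAux.Setup in
/-- The building of a known group of Lie type determines the group. -/
theorem Kn.model {B : Type} [Nonempty B] {W : Type*} [Group W] [Finite W] {M : CoxeterMatrix B}
    (cs : CoxeterSystem M W) [Sph cs] (hM : NoIso M Set.univ) {q : B → ℕ} {X : Type} [Group X]
    (h : Kn M q X) : Model cs q X := by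
  obtain ⟨_, _, hK, Φ, _, R, p, hp, hG, hL, ho, hq⟩ := h
  have := Fact.mk hp
  obtain ⟨S⟩ := exists_setup R hG cs ho
  have hρ := ρ_inj hG hL
  refine ⟨X ⧸ R.B, inferInstance, S.Y, S.a, ρ R, S.isApt, fun i => (S.par_eq hG i).trans (hq i), hρ,
    S.wt hG, fun G _ hW => ?_⟩
  let e := MonoidHom.ofInjective hρ
  have := e.symm.isSimpleGroup
  have h1 : G ≤ (ρ R).range := le_of_schreier (not_comm hW) (hW.1.trans (S.le_normalizer hG hM hL))
    (schreier_lie (hK.of_mulEquiv e.symm))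
    fun g hg => eq_one_of_comm hG hL fun x => hg _ ⟨x, rfl⟩
  have h2 : (G.comap (ρ R)).map (ρ R) = G := Subgroup.map_comap_eq_self h1
  have h3 := eq_top hG hL S (D := G.comap (ρ R)) (h2.symm ▸ hW)
  rw [h3, ← MonoidHom.range_eq_map] at h2
  exact ⟨(MulEquiv.subgroupCongr h2.symm).trans e.symm⟩

end Cfsg.Agent.Bld
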