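import Mathlib
import Cfsg.Agent.Bld.Basic

/-! Germs of isomorphisms of spherical buildings and their moves. -/

set_option autoImplicit false

namespace Cfsg.Agent.Bld.Bd

open Cfsg.Agent.Chev CoxeterSystem

variable {B W : Type*} [Group W] {M : CoxeterMatrix B} {cs : CoxeterSystem M W} [Sph cs] [Finite W]
  {K J : Set B} {C C' : Type*} {X : Bd cs K C} {X' : Bd cs K C'} {c d x y z : C}
  {c' d' x' y' : C'} {i j k : B} {φ ψ : C → C'}

omit [Sph cs] in
theorem isProj_of_r (hJ : J ⊆ K) (hy : y ∈ X.Res J c) (h : X.δ y x = wl cs J * wl cs K) :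
    X.IsProj J c x y := ⟨hy, by rw [X.inv, h]; simpa using min_wl cs hJ⟩

omit [Sph cs] in
theorem isProj_of_r' (hJ : J ⊆ K) (hx : x ∈ X.Res (opp cs K '' J) d)
    (h : X.δ y x = wl cs J * wl cs K) : X.IsProj (opp cs K '' J) d y x := ⟨hx, h ▸ min_wl' cs hJ⟩

theorem δ_of_r (hJ : J ⊆ K) (hy : y ∈ X.Res J c) (hz : z ∈ X.Res J c)
    (h : X.δ y x = wl cs J * wl cs K) : X.δ z x = X.δ z y * (wl cs J * wl cs K) := by
  rw [X.inv, (isProj_of_r hJ hy h).δ_eq hz, mul_inv_rev, ← X.inv, ← X.inv, h]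

theorem δ_mem_opp (hJ : J ⊆ K) (h : X.δ c d = wl cs K) (hx : x ∈ X.Res (opp cs K '' J) d) :
    X.δ c x * wl cs K ∈ coxPar cs J := by
  have h1 := conj_mem_par cs (opp_image_subset cs hJ) (X.δ_mem_coset c hx)
  rw [opp_image_image, h] at h1
  simpa using h1

theorem opp_res (hJ : J ⊆ K) (h : X.δ c d = wl cs K) (hx : x ∈ X.Res (opp cs K '' J) d) :
    ∃ y ∈ X.Res J c, X.δ y x = wl cs J * wl cs K := by
  obtain ⟨y, hy⟩ := X.exists_isProj J c x
  refine ⟨y, hy.1, ?_⟩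
  have h1 := (min_wl cs hJ).unique hy.2 (by
    have := mul_mem (mul_mem (wl_mem cs J) (inv_mem (δ_mem_opp hJ h hx))) (X.δ_mem_coset x hy.1)
    simpa [mul_assoc, X.inv c x] using this)
  rw [X.inv, ← h1]; simp

theorem opp_res' (hJ : J ⊆ K) (h : X.δ c d = wl cs K) (hy : y ∈ X.Res J c) :
    ∃ x ∈ X.Res (opp cs K '' J) d, X.δ y x = wl cs J * wl cs K := by
  obtain ⟨x, hx, h1⟩ := opp_res (opp_image_subset cs hJ) (X := X) (c := d) (d := c) (x := y)
    (by rw [X.inv, h, wl_inv]) (by rwa [opp_image_image])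
  exact ⟨x, hx, by rw [X.inv, h1, wl_opp cs hJ]; simp⟩

variable (X X') in
/-- `x'` corresponds to `x` in the residue opposite to the residue of type `J` of `c`. -/
def PJ (J : Set B) (c : C) (d' : C') (φ : C → C') (x : C) (x' : C') : Prop :=
  x' ∈ X'.Res (opp cs K '' J) d' ∧ ∀ y ∈ X.Res J c, X'.δ (φ y) x' = X.δ y x

theorem exists_pj (hJ : J ⊆ K) (h : X.δ c d = wl cs K) (h' : X'.δ c' d' = wl cs K)
    (hφ : X.Iso X' J c c' φ) (hx : x ∈ X.Res (opp cs K '' J) d) : ∃ x', X.PJ X' J c d' φ x x' := by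
  obtain ⟨y, hy, h1⟩ := opp_res hJ h hx
  obtain ⟨x', hx', h2⟩ := opp_res' hJ h' (hφ.mem hy)
  exact ⟨x', hx', fun z hz => by
    rw [δ_of_r hJ (hφ.mem hy) (hφ.mem hz) h2, δ_of_r hJ hy hz h1, hφ.iso z hz y hy]⟩

theorem PJ.δ_eq (hJ : J ⊆ K) (h : X.δ c d = wl cs K) (hx : x ∈ X.Res (opp cs K '' J) d)
    (hz : z ∈ X.Res (opp cs K '' J) d) {z' : C'} (h1 : X.PJ X' J c d' φ x x')
    (h2 : X.PJ X' J c d' φ z z') : X'.δ x' z' = X.δ x z := by
  obtain ⟨y, hy, h3⟩ := opp_res hJ h hx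
  have h4 := (h1.2 y hy).trans h3
  have h5 := (isProj_of_r' hJ h1.1 h4).δ_eq h2.1
  rw [h2.2 y hy, (isProj_of_r' hJ hx h3).δ_eq hz, h3, h4] at h5
  exact (mul_left_cancel h5).symm

variable (X X') in
/-- `φ` and `ψ` correspond to each other under the projections between opposite residues. -/
def Mate (c d : C) (φ ψ : C → C') : Prop := ∀ i ∈ K, ∀ j ∈ K, ∀ y ∈ X.Res {i, j} c,
  ∀ x ∈ X.Res (opp cs K '' {i, j}) d, X'.δ (φ y) (ψ x) = X.δ y x

theorem opp_pair (i j : B) : opp cs K '' {opp cs K i, opp cs K j} = {i, j} := by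
  rw [← Set.image_pair, opp_image_image]

theorem Mate.symm (h : X.Mate X' c d φ ψ) : X.Mate X' d c ψ φ := fun i hi j hj y hy x hx => by
  rw [X'.inv, h _ (opp_mem cs hi) _ (opp_mem cs hj) x (by rwa [← Set.image_pair]) y
    (by rwa [opp_pair]), ← X.inv]

omit [Sph cs] [Finite W] in
theorem pair_subset (hi : i ∈ K) (hj : j ∈ K) : ({i, j} : Set B) ⊆ K := by
  rintro _ (rfl | rfl) <;> assumption

theorem Germ.exists_mate (h : X.Germ X' c d c' d' φ) :
    ∃ ψ, X.Germ X' d c d' c' ψ ∧ X.Mate X' c d φ ψ := by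
  have h0 : ∀ i ∈ K, ∀ j ∈ K, X.PJ X' {i, j} c d' φ d d' := fun i hi j hj =>
    ⟨X'.self_mem_res _ _, h.cmp i hi j hj⟩
  have h1 : ∀ x, ∃ x', (x = d → x' = d') ∧ ∀ i ∈ K, ∀ j ∈ K, x ∈ X.Res (opp cs K '' {i, j}) d →
      X.PJ X' {i, j} c d' φ x x' := fun x => by
    by_cases hx : ∃ i ∈ K, ∃ j ∈ K, x ∈ X.Res (opp cs K '' {i, j}) d
    · obtain ⟨i, hi, j, hj, hx⟩ := hx
      obtain ⟨x', h2⟩ := exists_pj (pair_subset hi hj) h.op h.op' (h.iso i hi j hj) hx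
      have h3 := h2.δ_eq (pair_subset hi hj) h.op hx (X.self_mem_res _ d) (h0 i hi j hj)
      refine ⟨x', fun e => X'.eq_one.1 (by rw [h3, e, X.δ_self]), fun k hk l hl hx' => ?_⟩
      obtain ⟨z', h4⟩ := exists_pj (pair_subset hk hl) h.op h.op' (h.iso k hk l hl) hx'
      have h5 := h4.δ_eq (pair_subset hk hl) h.op hx' (X.self_mem_res _ d) (h0 k hk l hl)
      have h6 : x ∈ X.Res (opp cs K '' ({i, j} ∩ {k, l})) d := by
        rw [Set.image_inter (Function.Involutive.injective (opp_opp cs K)), ← res_inter]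
        exact ⟨hx, hx'⟩
      have h7 := PJ.δ_eq (X' := X') (φ := φ) (d' := d') (x' := x') (z' := z')
        (Set.inter_subset_left.trans (pair_subset hi hj)) h.op h6 h6
        ⟨X'.res_symm (show X'.δ _ _ ∈ coxPar cs _ by rw [h3]; exact X.res_symm h6),
          fun y hy => h2.2 y (res_mono Set.inter_subset_left c hy)⟩
        ⟨X'.res_symm (show X'.δ _ _ ∈ coxPar cs _ by rw [h5]; exact X.res_symm h6),
          fun y hy => h4.2 y (res_mono Set.inter_subset_right c hy)⟩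
      rwa [X'.eq_one.1 (h7.trans (X.δ_self x))]
    · push Not at hx
      exact ⟨d', fun _ => rfl, fun i hi j hj h => absurd h (hx i hi j hj)⟩
  choose ψ h2 h3 using h1
  have hm : X.Mate X' c d φ ψ := fun i hi j hj y hy x hx => (h3 x i hi j hj hx).2 y hy
  refine ⟨ψ, ⟨by rw [X.inv, h.op, wl_inv], by rw [X'.inv, h.op', wl_inv], h2 d rfl,
    fun i hi j hj => ?_, fun i hi j hj y hy => ?_⟩, hm⟩
  · have hi' := opp_mem cs hi
    have hj' := opp_mem cs hj
    have hJ := pair_subset hi' hj'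
    rw [← opp_pair (cs := cs) (K := K) i j]
    refine ⟨h2 d rfl, fun x hx z hz => (h3 x _ hi' _ hj' hx).δ_eq hJ h.op hx hz (h3 z _ hi' _ hj' hz),
      fun x' hx' => ?_⟩
    obtain ⟨y', hy', h4⟩ := opp_res hJ h.op' hx'
    obtain ⟨y, hy, rfl⟩ := (h.iso _ hi' _ hj').surj y' hy'
    obtain ⟨x, hx, h5⟩ := opp_res' hJ h.op hy
    exact ⟨x, hx, (isProj_of_r' hJ (h3 x _ hi' _ hj' hx).1 ((hm _ hi' _ hj' y hy x hx).trans h5)).unique
      (isProj_of_r' hJ hx' h4)⟩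
  · rw [← h.base]; exact hm.symm i hi j hj y hy c (X.self_mem_res _ c)

theorem δ_eq_of_not_mem (hJ : J ⊆ K) (hk : k ∈ K) (hkJ : k ∉ J) (h : X.δ c d = wl cs K)
    (h1 : X.δ c x = wl cs K) (hx : x ∈ X.Res {opp cs K k} d) (hy : y ∈ X.Res J c) :
    X.δ y x = X.δ y d := by
  rcases mem_res_single.1 hx with rfl | hx
  · rfl
  obtain ⟨p, hp, h2⟩ := opp_res hJ h (X.self_mem_res _ d)
  obtain ⟨q, hq, h3⟩ := opp_res hJ h1 (X.self_mem_res _ x)
  rcases (isProj_of_r hJ hp h2).adj (isProj_of_r hJ hq h3) hJ hx with rfl | ⟨l, hl, -, h4⟩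
  · rw [δ_of_r hJ hp hy h2, δ_of_r hJ hp hy h3]
  · refine absurd ((simple_mem_par cs).1 ?_) hkJ
    rw [X.inv, h2, simple_opp cs hk] at h4
    have h5 : cs.simple k = wl cs J * cs.simple l * wl cs J := by
      simp only [mul_inv_rev, wl_inv, mul_assoc, wl_mul_wl_mul, mul_right_inj] at h4
      rw [mul_assoc, ← mul_assoc (wl cs J), ← h4]; simp
    rw [h5]
    exact mul_mem (mul_mem (wl_mem cs J) (simple_mem_coxPar cs hl)) (wl_mem cs J)

/-- Change of the opposite chamber. -/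
theorem Germ.move_opp (h : X.Germ X' c d c' d' φ) (h' : X.Germ X' d c d' c' ψ)
    (hm : X.Mate X' c d φ ψ) (hk : k ∈ K) (hx : x ∈ X.Res {opp cs K k} d)
    (h1 : X.δ c x = wl cs K) : X.Germ X' c x c' (ψ x) φ := by
  have h2 : X'.δ c' (ψ x) = wl cs K := by
    rw [← h.base, hm k hk k hk c (X.self_mem_res _ c) x (by simpa using hx), h1]
  refine ⟨h1, h2, h.base, h.iso, fun i hi j hj y hy => ?_⟩
  by_cases hkJ : k ∈ ({i, j} : Set B)
  · exact hm i hi j hj y hy x (res_mono (by simpa using Set.mem_image_of_mem _ hkJ) d hx)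
  · have h3 := opp_mem cs hk
    rw [δ_eq_of_not_mem (pair_subset hi hj) hk hkJ h.op h1 hx hy,
      δ_eq_of_not_mem (pair_subset hi hj) hk hkJ h.op' h2
        (((h'.iso _ h3 _ h3).mono (by simp)).mem hx) ((h.iso i hi j hj).mem hy), h.cmp i hi j hj y hy]

/-- A germ is determined by its values on the panels. -/
theorem Germ.eqOn (h : X.Germ X' c d c' d' φ) (h' : X.Germ X' c d c' d' ψ)
    (e : ∀ j ∈ K, Set.EqOn φ ψ (X.Res {j} c)) (hi : i ∈ K) (hj : j ∈ K) :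
    Set.EqOn φ ψ (X.Res {i, j} c) := by
  have hJ := pair_subset hi hj
  obtain ⟨y, hy, h1⟩ := opp_res hJ h.op (X.self_mem_res _ d)
  have h2 := δ_of_r hJ hy (X.self_mem_res _ c) h1
  refine rigid hJ (h.iso i hi j hj).iso (h'.iso i hi j hj).iso (fun k hk => e k (hJ hk))
    (h.base.trans h'.base.symm) (d := y) ?_ ?_
  · rw [h.op, ← mul_assoc, right_eq_mul, mul_eq_one_iff_eq_inv, wl_inv] at h2
    exact h2
  · exact (isProj_of_r hJ ((h.iso i hi j hj).mem hy) ((h.cmp i hi j hj y hy).trans h1)).unique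
      (isProj_of_r hJ ((h'.iso i hi j hj).mem hy) ((h'.cmp i hi j hj y hy).trans h1))

/-- Moving a germ to an adjacent chamber. -/
theorem Germ.move (h : X.Germ X' x y x' y' φ) (hi : i ∈ K) {x₁ y₁ : C} {y₁' : C'}
    (h1 : X.δ x x₁ = cs.simple i) (h2 : y₁ ∈ X.Res {opp cs K i} y)
    (h3 : X.δ x y₁ = cs.simple i * wl cs K) (h2' : y₁' ∈ X'.Res {opp cs K i} y')
    (h3' : X'.δ x' y₁' = cs.simple i * wl cs K) :
    ∃ φ₁, X.Germ X' x₁ y₁ (φ x₁) y₁' φ₁ ∧ ∀ j ∈ K, Set.EqOn φ₁ φ (X.Res {i, j} x) := by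
  have hx := mem_res_single.2 (Or.inr h1)
  have hi' := opp_mem cs hi
  obtain ⟨y₂, h4, h5, h6⟩ := exists_opp_both subset_rfl hi h.op hx
  obtain ⟨ψ, g1, m1⟩ := h.exists_mate
  have g2 := h.move_opp g1 m1 hi h4 h5
  obtain ⟨ψ₂, g3, m2⟩ := g2.exists_mate
  have g4 := g3.move_opp g2 m2.symm hi' (by rwa [opp_opp]) (by rw [X.inv, h6, wl_inv])
  obtain ⟨φ₁, g5, m3⟩ := g4.exists_mate
  have h7 : y₁ ∈ X.Res {opp cs K i} y₂ := by rwa [res_eq h4]
  have h8 : X.δ x₁ y₁ = wl cs K := by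
    rcases step_left y₁ (adj_symm h1) with h8 | h8
    · rw [h8, h3, simple_mul_simple_cancel_left]
    · exact absurd (h3 ▸ h8.2)
        (cs.isLeftDescent_iff_not_isLeftDescent_mul.1 ((wl_spec cs K).isLeftDescent hi))
  have g6 := g5.move_opp g4 m3.symm hi h7 h8
  have hs : ({i} : Set B) ⊆ K := by simpa
  have h9 : ψ₂ y₁ = y₁' := by
    have h10 := ((g1.iso _ hi' _ hi').mono (J := {opp cs K i}) (by simp)).mem h4
    have h11 := ((g3.iso _ hi' _ hi').mono (J := {opp cs K i}) (by simp)).mem h7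
    refine (isProj_of_r' hs (d := y') (y := x') (by rwa [Set.image_singleton, ← res_eq h10]) ?_).unique
      (isProj_of_r' hs (by rwa [Set.image_singleton]) (by rwa [wl_single]))
    rw [wl_single, ← h.base, m2 i hi i hi x (X.self_mem_res _ x) y₁ (by simpa using h7), h3]
  refine ⟨φ₁, h9 ▸ g6, fun j hj z hz => ?_⟩
  have hJ := pair_subset hi hj
  have hx' : x₁ ∈ X.Res {i, j} x := res_mono (by simp) x hx
  have hz' : z ∈ X.Res {i, j} x₁ := by rwa [res_eq hx']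
  obtain ⟨w, hw, h10⟩ := opp_res' hJ h5 hz
  refine (isProj_of_r hJ (c := x') ?_ ((m3.symm i hi j hj z hz' w hw).trans h10)).unique
    (isProj_of_r hJ ((h.iso i hi j hj).mem hz) ((m2 i hi j hj z hz w hw).trans h10))
  rw [← res_eq ((h.iso i hi j hj).mem hx')]
  exact (g5.iso i hi j hj).mem hz'

end Cfsg.Agent.Bld.Bd
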