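import Mathlib
import Cfsg.Agent.Bld.Basic

/-! Panels opposite to all panels of an apartment in thick digons, triangles and quadrangles. -/

set_option autoImplicit false
set_option linter.unusedSectionVars false
set_option linter.unusedVariables false

namespace Cfsg.Agent.Bld.Bd

open Cfsg.Agent.Chev CoxeterSystem

variable {B W : Type*} [Group W] {M : CoxeterMatrix B} {cs : CoxeterSystem M W} [Sph cs] [Finite W]
  {K K' J L : Set B} {C C' : Type*} {X : Bd cs K C} {i j k : B} {a b : W → C} {a' : W → C'}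

namespace V

variable {c d e f z : C}

theorem chain2 (hij : i ≠ j) (h1 : X.δ c d = cs.simple j) (h2 : X.δ d e = cs.simple i) :
    X.δ c e = cs.simple j * cs.simple i := by
  rw [step_up c h2 (fun h => hij (mem_of_rightDescent cs (J := {j})
    (simple_mem_coxPar cs rfl) (h1 ▸ h))), h1]

theorem len2 (hij : i ≠ j) : cs.length (cs.simple i * cs.simple j) = 2 := by
  have h1 := M.off_diagonal i j hij
  have h2 := M_pos cs i j
  simpa [alt_succ] using length_alt cs hij (n := 2) (by omega)

theorem len3 (hM : 3 ≤ M i j) : cs.length (cs.simple i * (cs.simple j * cs.simple i)) = 3 := by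
  simpa [alt_succ] using length_alt cs (i := i) (j := j) (by rintro rfl; simp at hM) hM

theorem len4 (hM : 4 ≤ M i j) :
    cs.length (cs.simple i * (cs.simple j * (cs.simple i * cs.simple j))) = 4 := by
  simpa [alt_succ] using length_alt cs (i := i) (j := j) (by rintro rfl; simp at hM) hM

theorem chain3 (hM : 3 ≤ M i j) (h1 : X.δ c d = cs.simple j) (h2 : X.δ d e = cs.simple i)
    (h3 : X.δ e f = cs.simple j) : X.δ c f = cs.simple j * (cs.simple i * cs.simple j) := by
  have hij : i ≠ j := by rintro rfl; simp at hM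
  have h4 := chain2 hij.symm h2 h3
  rw [δ_mul (d := d) (by rw [h1, h4, len3 (M.symmetric i j ▸ hM), len2 hij, length_simple]), h1, h4]

theorem third (hi : i ∈ K) (h : X.δ c d = cs.simple i) :
    ∃ x, X.δ c x = cs.simple i ∧ X.δ d x = cs.simple i := by
  obtain ⟨x, h1, h2, h3⟩ := exists_third (X := X) hi c c d
  exact ⟨x, adj_of_mem (X.self_mem_res _ c) h1 h2.symm,
    adj_of_mem (mem_res_single.2 (Or.inr h)) h1 h3.symm⟩

theorem apt_adj (ha : X.IsApt J a) {w : W} (hw : w ∈ coxPar cs J) (hi : i ∈ J) :
    X.δ (a w) (a (w * cs.simple i)) = cs.simple i := by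
  rw [ha _ hw _ (mul_mem hw (simple_mem_coxPar cs hi)), inv_mul_cancel_left]

theorem flip (ha : X.IsApt J a) {w u : W} (hw : w ∈ coxPar cs J) (hi : i ∈ J)
    (h : X.δ (a w) z = u ∨ X.δ (a w) z = cs.simple i * u) :
    X.δ (a (w * cs.simple i)) z = u ∨ X.δ (a (w * cs.simple i)) z = cs.simple i * u := by
  rcases step_left z (adj_symm (apt_adj ha hw hi)) with h1 | h1
  · rcases h with h | h <;> rw [h1, h] <;> simp
  · rwa [h1.1]

end V

open V

/-- In a thick digon some chamber is opposite to all chambers of an apartment. -/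
theorem exists_opp_two (hi : i ∈ K) (hj : j ∈ K) (hM : M i j = 2) (ha : X.IsApt {i, j} a) :
    ∃ z ∈ X.Res {i, j} (a 1), ∀ w ∈ coxPar cs {i, j}, X.δ (a w) z = wl cs {i, j} := by
  have hij : i ≠ j := by rintro rfl; simp at hM
  have hi' : i ∈ ({i, j} : Set B) := by simp
  have hj' : j ∈ ({i, j} : Set B) := by simp
  have hc := comm_of_two cs hM
  have h0 : wl cs {i, j} = cs.simple i * cs.simple j := by simp [wl_pair cs hij, hM, alt_succ]
  have a1 := apt_adj ha (one_mem _) hi'
  have a2 := apt_adj ha (one_mem _) hj'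
  have a3 := apt_adj ha (simple_mem_coxPar cs hi') hj'
  have a4 := apt_adj ha (simple_mem_coxPar cs hj') hi'
  rw [one_mul] at a1 a2
  obtain ⟨x, h1, h2⟩ := third hi a1
  obtain ⟨y, h3, h4⟩ := third hj a2
  obtain ⟨z, h5, h6⟩ := exists_mid ((chain2 hij.symm (adj_symm h1) h3).trans hc)
    (by simp [len2 hij.symm])
  have h7 := chain2 hij.symm h1 h5
  have h8 : X.δ (a (cs.simple i * cs.simple j)) z = cs.simple i * cs.simple j := by
    have k1 := X.step (a (cs.simple i * cs.simple j)) h5
    have k2 := X.step (a (cs.simple j * cs.simple i)) (adj_symm h6)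
    rw [chain2 hij (adj_symm a3) h2, ← hc] at k1
    rw [chain2 hij.symm (adj_symm a4) h4, ← hc] at k2
    rcases k1 with k1 | k1
    · rcases k2 with k2 | k2
      · rw [k1, hc, simple_mul_simple_cancel_right, ← hc, simple_mul_simple_cancel_right] at k2
        exact absurd (inj cs k2) hij
      · exact k2.1
    · exact k1.1
  refine ⟨z, X.mem_res_of_adj (X.mem_res_of_adj (X.self_mem_res _ _) hi' h1) hj' h5, fun w hw => ?_⟩
  obtain ⟨n, hn, h⟩ := exists_alt cs hw
  rw [hM] at hn
  rw [h0]
  interval_cases n <;> simp only [alt_succ, alt_zero, mul_one] at h <;> rcases h with rfl | rfl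
  exacts [h7, h7, chain2 hij.symm h2 h5, (chain2 hij h4 (adj_symm h6)).trans hc.symm, h8, hc ▸ h8]

/-- In a thick triangle or quadrangle some panel is opposite to all `i`-panels of an apartment. -/
theorem exists_opp (hi : i ∈ K) (hj : j ∈ K) (hM : M i j = 3 ∨ M i j = 4)
    (ha : X.IsApt {i, j} a) : ∃ z ∈ X.Res {i, j} (a 1), ∀ w ∈ coxPar cs {i, j},
      X.δ (a w) z = wl cs {i, j} ∨ X.δ (a w) z = cs.simple i * wl cs {i, j} := by
  have h3M : 3 ≤ M i j := by omega
  have hij : i ≠ j := by rintro rfl; simp at hM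
  have hi' : i ∈ ({i, j} : Set B) := by simp
  have hj' : j ∈ ({i, j} : Set B) := by simp
  have si := simple_mem_coxPar cs hi'
  have sj := simple_mem_coxPar cs hj'
  have a1 := apt_adj ha (one_mem _) hi'
  have a2 := apt_adj ha (one_mem _) hj'
  rw [one_mul] at a1 a2
  obtain ⟨x, h1, h2⟩ := third hj a2
  have hx := X.mem_res_of_adj (X.self_mem_res {i, j} _) hj' h1
  rcases hM with hM | hM
  · have hb := braid_of_three cs hM
    have h0 : wl cs {i, j} = cs.simple i * (cs.simple j * cs.simple i) := by
      simp [wl_pair cs hij, hM, alt_succ]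
    obtain ⟨y, h3, h4⟩ := third hj (apt_adj ha si hj')
    obtain ⟨z, h5, h6⟩ := exists_mid ((chain3 h3M (adj_symm h1) a1 h3).trans hb.symm)
      (by simp [len2 hij.symm, len3 h3M])
    obtain ⟨z', h7, h8⟩ := exists_mid h6 (by simp [len2 hij.symm])
    refine ⟨z, X.mem_res_of_adj hx hi' h5, fun w hw => ?_⟩
    have p1 : X.δ (a 1) z = wl cs {i, j} ∨ X.δ (a 1) z = cs.simple i * wl cs {i, j} :=
      Or.inr (by simp [chain2 hij h1 h5, h0])
    have p2 : X.δ (a (cs.simple j)) z = wl cs {i, j} ∨
        X.δ (a (cs.simple j)) z = cs.simple i * wl cs {i, j} :=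
      Or.inr (by simp [chain2 hij h2 h5, h0])
    have p3 : X.δ (a (cs.simple i * cs.simple j)) z = wl cs {i, j} ∨
        X.δ (a (cs.simple i * cs.simple j)) z = cs.simple i * wl cs {i, j} :=
      Or.inl (by rw [chain3 h3M h4 (adj_symm h8) (adj_symm h7), h0, hb])
    have p4 := flip ha (one_mem _) hi' p1
    have p5 := flip ha sj hi' p2
    have p6 := flip ha (mul_mem si sj) hi' p3
    rw [one_mul] at p4
    rw [mul_assoc] at p6
    obtain ⟨n, hn, h⟩ := exists_alt cs hw
    rw [hM] at hn
    interval_cases n <;> simp only [alt_succ, alt_zero, mul_one] at h <;> rcases h with rfl | rfl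
    exacts [p1, p1, p4, p2, p3, p5, p6, hb ▸ p6]
  · have hb := braid_of_four cs hM
    have h0 : wl cs {i, j} = cs.simple i * (cs.simple j * (cs.simple i * cs.simple j)) := by
      simp [wl_pair cs hij, hM, alt_succ]
    have s3 := mul_mem si (mul_mem sj si)
    have a3 := apt_adj ha s3 hj'
    have l3 := len3 (cs := cs) h3M
    have l4 := len4 (cs := cs) (M.symmetric i j ▸ hM.ge)
    have k1 : X.δ x (a (cs.simple i * (cs.simple j * cs.simple i))) =
        cs.simple j * (cs.simple i * (cs.simple j * cs.simple i)) := by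
      have k : X.δ (a 1) (a (cs.simple i * (cs.simple j * cs.simple i))) = _ :=
        (ha _ (one_mem _) _ s3).trans (by rw [inv_one, one_mul])
      rw [δ_mul (d := a 1) (by rw [adj_symm h1, k, l3, l4, length_simple]), adj_symm h1, k]
    have k2 : X.δ x (a (cs.simple i * (cs.simple j * cs.simple i) * cs.simple j)) =
        cs.simple j * (cs.simple i * (cs.simple j * cs.simple i)) := by
      have k : X.δ (a (cs.simple j)) (a (cs.simple i * (cs.simple j * cs.simple i) * cs.simple j)) =
          cs.simple i * (cs.simple j * cs.simple i) :=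
        (ha _ sj _ (mul_mem s3 sj)).trans (by simp [mul_assoc, hb])
      rw [δ_mul (d := a (cs.simple j)) (by rw [adj_symm h2, k, l3, l4, length_simple]),
        adj_symm h2, k]
    obtain ⟨y, h3, h4⟩ := X.ex x (a (cs.simple i * (cs.simple j * cs.simple i) * cs.simple j)) j hj
    have h4' : X.δ x y = cs.simple i * (cs.simple j * cs.simple i) := by
      rw [h4, k2, ← hb]; simp [mul_assoc]
    have h5 := adj_trans a3 h3 (fun e => by
      rw [e, h4'] at k1
      rw [← k1, l3] at l4
      omega)
    obtain ⟨u, h6, h7⟩ := exists_mid h4' (by simp [len2 hij.symm, l3])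
    obtain ⟨u', h8, h9⟩ := exists_mid h7 (by simp [len2 hij.symm])
    obtain ⟨z, h10, h11⟩ := third hj h8
    refine ⟨z, X.mem_res_of_adj (X.mem_res_of_adj hx hi' h6) hj' h10, fun w hw => ?_⟩
    have q : ∀ v, X.δ (a v) z = cs.simple j * (cs.simple i * cs.simple j) →
        X.δ (a v) z = wl cs {i, j} ∨ X.δ (a v) z = cs.simple i * wl cs {i, j} :=
      fun v h => Or.inr (by simp [h, h0])
    have p1 := q _ (chain3 h3M h1 h6 h10)
    have p2 := q _ (chain3 h3M h2 h6 h10)
    have p3 := q _ (chain3 h3M h5 (adj_symm h9) h11)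
    have p4 := q _ (chain3 h3M h3 (adj_symm h9) h11)
    have p5 := flip ha (one_mem _) hi' p1
    have p6 := flip ha sj hi' p2
    have p7 := flip ha s3 hi' p3
    have p8 := flip ha (mul_mem s3 sj) hi' p4
    rw [one_mul] at p5
    simp only [mul_assoc] at p4
    rw [show cs.simple i * (cs.simple j * cs.simple i) * cs.simple i = cs.simple i * cs.simple j by
      simp [mul_assoc]] at p7
    rw [show cs.simple i * (cs.simple j * cs.simple i) * cs.simple j * cs.simple i =
      cs.simple j * (cs.simple i * cs.simple j) by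
        rw [mul_assoc (cs.simple i), mul_assoc (cs.simple j), hb]; simp [mul_assoc]] at p8
    obtain ⟨n, hn, h⟩ := exists_alt cs hw
    rw [hM] at hn
    interval_cases n <;> simp only [alt_succ, alt_zero, mul_one] at h <;> rcases h with rfl | rfl
    exacts [p1, p1, p5, p2, p7, p6, p3, p8, p4, hb ▸ p4]

end Cfsg.Agent.Bld.Bd
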