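import Mathlib
import Cfsg.Agent.Bld.Germ
import Cfsg.Agent.Bld.V

/-! Moving a germ around a residue of rank two does not change it. -/

set_option autoImplicit false

namespace Cfsg.Agent.Bld.Bd

open Cfsg.Agent.Chev CoxeterSystem

variable {B W : Type*} [Group W] {M : CoxeterMatrix B} {cs : CoxeterSystem M W} [Sph cs] [Finite W]
  {K J : Set B} {C C' : Type*} {X : Bd cs K C} {X' : Bd cs K C'} {a b f p q y z : C}
  {a' b' q' y' : C'} {j u : B} {φ ψ : C → C'}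

theorem proj_mem_panel (hJ : J ⊆ K) (hu : u ∈ J) (hj : j ∈ K) (hjJ : j ∉ J)
    (h : X.δ a y = wl cs K) (hz : z ∈ X.Res {u, j} a) (h1 : X.δ z y = wl cs {u, j} * wl cs K)
    (hb : b ∈ X.Res (opp cs K '' J) y) (hf : X.IsProj {u, j} a b f) :
    X.δ a z = wl cs {u, j} ∧ f ∈ X.Res {opp cs {u, j} u} z := by
  have hS := pair_subset (hJ hu) hj
  have h2 : X.δ a z = wl cs {u, j} := by
    have := δ_of_r hS hz (X.self_mem_res _ a) h1
    rwa [h, ← mul_assoc, right_eq_mul, mul_eq_one_iff_eq_inv, wl_inv] at this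
  refine ⟨h2, ?_⟩
  suffices H : ∀ w ∈ coxPar cs (opp cs K '' J), ∀ b f, X.δ y b = w → X.IsProj {u, j} a b f →
      f ∈ X.Res {opp cs {u, j} u} z from H _ hb b f rfl hf
  intro w hw
  refine coxPar_induction_right cs (p := fun w => ∀ b f, X.δ y b = w → X.IsProj {u, j} a b f →
    f ∈ X.Res {opp cs {u, j} u} z) (fun b f hb hf => ?_) (fun w hw t ht hd ih b f hb hf => ?_) hw
  · rw [← X.eq_one.1 hb] at hf
    rw [hf.unique (isProj_of_r hS hz h1)]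
    exact X.self_mem_res _ z
  obtain ⟨b₀, h3, h4⟩ := exists_pred hb hd
  obtain ⟨f₀, hf₀⟩ := X.exists_isProj {u, j} a b₀
  have h5 := ih b₀ f₀ h3 hf₀
  rcases hf₀.adj hf hS h4 with rfl | ⟨l, hl, h6, h7⟩
  · exact h5
  suffices l = opp cs {u, j} u from X.mem_res_of_adj h5 (by simp [this]) h6
  obtain ⟨v, hv, rfl⟩ := ht
  have h8 := δ_mem_opp hJ h (show X.δ y b₀ ∈ _ from h3 ▸ hw)
  have h9 := hf₀.δ_eq (X.self_mem_res _ a)
  have h10 : X.δ a f₀ * cs.simple l * (X.δ a f₀)⁻¹ =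
      X.δ a b₀ * wl cs K * cs.simple v * (X.δ a b₀ * wl cs K)⁻¹ := by
    rw [X.inv b₀ a, h9, X.inv a f₀, mul_assoc (X.δ a f₀), ← inv_mul_cancel_left (X.δ b₀ f₀)
      (cs.simple l * _), ← mul_assoc (X.δ b₀ f₀), ← h7, simple_opp cs (hJ hv)]
    simp [mul_assoc]
  have h11 : X.δ a f₀ * cs.simple l * (X.δ a f₀)⁻¹ ∈ coxPar cs {u} := by
    have := par_inter cs (J := {u, j}) (K := J)
      (mul_mem (mul_mem hf₀.1 (simple_mem_coxPar cs hl)) (inv_mem hf₀.1))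
      (h10 ▸ mul_mem (mul_mem h8 (simple_mem_coxPar cs hv)) (inv_mem h8))
    refine coxPar_mono cs ?_ this
    rintro _ ⟨rfl | rfl, h⟩
    · rfl
    · exact absurd h hjJ
  have h12 := ((mem_par_single cs).1 h11).resolve_left (by simpa using simple_ne_one cs l)
  have h13 := simple_opp cs (K := {u, j}) (i := u) (by simp)
  refine inj cs ?_
  rw [mul_inv_eq_iff_eq_mul, ← eq_inv_mul_iff_mul_eq] at h12
  rcases (mem_par_single cs).1 (X.δ_mem_coset a h5) with h14 | h14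
  · rw [h12, ← inv_mul_eq_one.1 h14, h2, h13, wl_inv, mul_assoc]
  · rw [h12, inv_mul_eq_iff_eq_mul.1 h14, h2, h13]; simp [mul_assoc]

theorem proj_two (hJ : J ⊆ K) (hu : u ∈ J) (hj : j ∈ K) (hjJ : j ∉ J)
    (h : X.δ a y = wl cs K) (hz : z ∈ X.Res {u, j} a) (h1 : X.δ z y = wl cs {u, j} * wl cs K)
    (hb : b ∈ X.Res (opp cs K '' J) y) (hf : X.IsProj {u, j} a b f) (hp : X.IsProj {u} a b p) :
    X.IsProj {opp cs {u, j} u} z p f := by
  obtain ⟨h2, h3⟩ := proj_mem_panel hJ hu hj hjJ h hz h1 hb hf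
  obtain ⟨r, hr⟩ := X.exists_isProj {opp cs {u, j} u} z p
  by_cases h4 : f = r
  · rwa [h4]
  have hu' : u ∈ ({u, j} : Set B) := by simp
  have h5 := hr.δ_opp hu' hp.1 h2 h3 h4
  refine absurd ?_ ((minRight_single cs).1 hp.2)
  rw [hf.δ_eq (res_mono (by simp) a hp.1), X.inv p f, h5, wl_inv, IsRightDescent, mul_assoc,
    hf.2.length_mul (wl_mem cs _), hf.2.length_mul (mul_mem (wl_mem cs _) (simple_mem_coxPar cs hu'))]
  exact Nat.add_lt_add_left (wl_desc cs hu') _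

theorem Germ.key (h : X.Germ X' a y a' y' φ) (hJ : J ⊆ K) (hu : u ∈ J) (hj : j ∈ K) (hjJ : j ∉ J)
    (hb : b ∈ X.Res (opp cs K '' J) y) (hb' : b' ∈ X'.Res (opp cs K '' J) y')
    (e : ∀ v ∈ X.Res {u} a, X'.δ (φ v) b' = X.δ v b) :
    ∀ v ∈ X.Res {u, j} a, X'.δ (φ v) b' = X.δ v b := by
  have hS := pair_subset (hJ hu) hj
  have hφ := h.iso u (hJ hu) j hj
  obtain ⟨z, hz, h1⟩ := opp_res hS h.op (X.self_mem_res _ y)
  obtain ⟨f, hf⟩ := X.exists_isProj {u, j} a b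
  obtain ⟨f', hf'⟩ := X'.exists_isProj {u, j} a' b'
  obtain ⟨p, hp⟩ := X.exists_isProj {u} a b
  have hp1 := res_mono (show {u} ⊆ ({u, j} : Set B) by simp) a hp.1
  have h2 : X'.δ b' (φ p) = X.δ b p := by rw [X'.inv, e p hp.1, ← X.inv]
  have h3 := proj_two hJ hu hj hjJ h.op' (hφ.mem hz) ((h.cmp u (hJ hu) j hj z hz).trans h1) hb' hf'
    (p := φ p) ⟨(hφ.mono (by simp)).mem hp.1, h2 ▸ hp.2⟩
  obtain rfl := (hφ.iso.isProj hz hp1 hf.1 (proj_two hJ hu hj hjJ h.op hz h1 hb hf hp)).unique h3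
  rw [hf'.δ_eq (hφ.mem hp1), hf.δ_eq hp1, hφ.iso f hf.1 p hp1, mul_left_inj] at h2
  intro v hv
  rw [X'.inv, hf'.δ_eq (hφ.mem hv), h2, hφ.iso f hf.1 v hv, ← hf.δ_eq hv, ← X.inv]

omit [Finite W] in
theorem theta_ex {S : Set B} {k : B} (hS : S ⊆ K) (hj : j ∈ S) (hk : k ∈ K)
    (hφ : X.Iso X' S a a' φ) (e : ∀ v ∈ X.Res S a, X'.δ (φ v) b' = X.δ v b)
    (h : cs.simple j * X.δ a b = X.δ a b * cs.simple k) (hq : q ∈ X.Res {k} b) :
    ∃ q' ∈ X'.Res {k} b', ∀ v ∈ X.Res S a, X'.δ (φ v) q' = X.δ v q := by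
  rcases mem_res_single.1 hq with rfl | hq
  · exact ⟨b', X'.self_mem_res _ _, e⟩
  obtain ⟨f, hf⟩ := X.exists_isProj S a b
  have h1 := hf.δ_eq (X.self_mem_res _ a)
  rcases hf.2.simple_mul k with h2 | ⟨h2, l, hl, h3⟩
  · refine absurd (right_eq_mul.1 (show X.δ b f = cs.simple k * X.δ b f from ?_))
      (simple_ne_one cs k)
    refine hf.2.unique h2 ?_
    have h4 : cs.simple k = X.δ b a * cs.simple j * (X.δ b a)⁻¹ := by
      rw [← X.inv, mul_assoc, h, X.inv a b]; simp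
    have h5 := X.δ_mem_of_res hf.1 (X.self_mem_res _ a)
    rw [h4, h1]
    simpa [mul_assoc] using mul_mem (mul_mem h5 (simple_mem_coxPar cs hj)) (inv_mem h5)
  have h4 : X.δ q f = X.δ b f * cs.simple l := by
    rw [((step_left f (adj_symm hq)).resolve_right fun h => h2 h.2), h3]
  obtain ⟨r, h5, h6⟩ := X.ex q f l (hS hl)
  rw [h4, simple_mul_simple_cancel_right] at h6
  have hr := X.mem_res_of_adj hf.1 hl h5
  obtain ⟨q', h7, h8⟩ := X'.ex (φ r) b' k hk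
  rw [e r hr, X.inv b r, hf.δ_eq hr, h5, ← h3] at h8
  have h9 : X'.δ q' (φ r) = X.δ b f := by rw [X'.inv, h8]; simp
  refine ⟨q', mem_res_single.2 (Or.inr h7), fun v hv => ?_⟩
  rw [X'.inv, IsProj.δ_eq ⟨hφ.mem hr, h9 ▸ hf.2⟩ (hφ.mem hv), h9, hφ.iso r hr v hv, ← h6,
    ← IsProj.δ_eq ⟨hr, h6 ▸ hf.2⟩ hv, ← X.inv]

variable (X X') in
/-- `q'` corresponds to `q` under the projections to the panels of type `j`. -/
def Th (j k : B) (b' : C') (φ : C → C') (a q : C) (q' : C') : Prop :=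
  q' ∈ X'.Res {k} b' ∧ ∀ p ∈ X.Res {j} a, X'.δ (φ p) q' = X.δ p q

omit [Finite W] in
theorem Th.unique {k : B} {q'' : C'} (h : cs.simple j * X.δ a b = X.δ a b * cs.simple k)
    (hq : q ∈ X.Res {k} b) (h1 : X.Th X' j k b' φ a q q') (h2 : X.Th X' j k b' φ a q q'') :
    q' = q'' := by
  obtain ⟨p, h3, h4⟩ := exists_par h hq
  exact IsProj.unique (y := φ p) ⟨h1.1, h1.2 p h3.1 ▸ h4.2⟩ ⟨h2.1, h2.2 p h3.1 ▸ h4.2⟩

omit [Finite W] in
theorem eqOn_of_th {k : B} (h : cs.simple j * X.δ a b = X.δ a b * cs.simple k)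
    (hφ : ∀ p ∈ X.Res {j} a, φ p ∈ X'.Res {j} a') (hψ : ∀ p ∈ X.Res {j} a, ψ p ∈ X'.Res {j} a')
    (e : ∀ q ∈ X.Res {k} b, ∃ q', X.Th X' j k b' φ a q q' ∧ X.Th X' j k b' ψ a q q') :
    Set.EqOn φ ψ (X.Res {j} a) := fun p hp => by
  obtain ⟨q, h1, h2⟩ := exists_par (X := X) (c := b) (d := a) (j := k) (k := j) (by
    rw [X.inv a b, mul_inv_eq_iff_eq_mul, mul_assoc, h, inv_mul_cancel_left]) hp
  obtain ⟨q', h3, h4⟩ := e q h1.1
  exact IsProj.unique (y := q') ⟨hφ p hp, by rw [X'.inv, h3.2 p hp, ← X.inv]; exact h2.2⟩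
    ⟨hψ p hp, by rw [X'.inv, h4.2 p hp, ← X.inv]; exact h2.2⟩

/-- A chamber of the opposite residue whose panel of type `j*` is parallel to the panels of
type `j` of all chambers of an apartment. -/
theorem exists_good (hM : NoTri M K) {s t : B} (hs : s ∈ K) (ht : t ∈ K) (hst : s ≠ t) (hj : j ∈ K)
    (hjJ : j ∉ ({s, t} : Set B)) {β : W → C} (hβ : X.IsApt {s, t} β) (h : X.δ (β 1) y = wl cs K) :
    ∃ b ∈ X.Res (opp cs K '' {s, t}) y, ∀ w ∈ coxPar cs {s, t},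
      cs.simple j * X.δ (β w) b = X.δ (β w) b * cs.simple (opp cs K j) := by
  have hJ := pair_subset hs ht
  suffices H : ∃ z ∈ X.Res {s, t} (β 1), ∀ w ∈ coxPar cs {s, t},
      Commute (cs.simple j) (X.δ (β w) z * wl cs {s, t}) by
    obtain ⟨z, hz, h1⟩ := H
    obtain ⟨b, hb, h2⟩ := opp_res' hJ h hz
    refine ⟨b, hb, fun w hw => ?_⟩
    rw [δ_of_r hJ hz (hβ.mem_res hw) h2, ← mul_assoc (X.δ _ _), mul_assoc _ (wl cs K),
      wl_mul_opp cs hj, ← mul_assoc, (h1 w hw).eq, mul_assoc]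
  simp only [Set.mem_insert_iff, Set.mem_singleton_iff, not_or] at hjJ
  have key : ∀ {s t : B}, s ∈ K → t ∈ K → (M s t = 3 ∨ M s t = 4) → M j s = 2 →
      X.IsApt {s, t} β → ∃ z ∈ X.Res {s, t} (β 1), ∀ w ∈ coxPar cs {s, t},
        Commute (cs.simple j) (X.δ (β w) z * wl cs {s, t}) := fun hs ht h1 h2 hβ => by
    obtain ⟨z, hz, h3⟩ := exists_opp hs ht h1 hβ
    refine ⟨z, hz, fun w hw => ?_⟩
    rcases h3 w hw with h3 | h3
    · simp [h3]
    · simpa [h3, mul_assoc, Commute, SemiconjBy] using comm_of_two cs h2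
  by_cases h2 : M s t = 2
  · obtain ⟨z, hz, h3⟩ := exists_opp_two hs ht h2 hβ
    exact ⟨z, hz, fun w hw => by simp [h3 w hw]⟩
  · have h3 := (hM.le s hs t ht hst).resolve_left h2
    rcases (hM.tri s hs t ht j hj hst (Ne.symm hjJ.2) (Ne.symm hjJ.1)).resolve_left h2 with h4 | h4
    · rw [Set.pair_comm] at hβ ⊢
      exact key ht hs (by rwa [M.symmetric]) (by rwa [M.symmetric]) hβ
    · exact key hs ht h3 (by rwa [M.symmetric]) hβ

/-- Independence of the path. -/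
theorem indep (hM : NoTri M K) {s t : B} (hs : s ∈ K) (ht : t ∈ K) (hst : s ≠ t) (hj : j ∈ K)
    (hjJ : j ∉ ({s, t} : Set B)) {β Y : W → C} {Y' : W → C'} {φ : W → C → C'}
    (hβ : X.IsApt {s, t} β)
    (hY : ∀ w ∈ coxPar cs {s, t}, Y w ∈ X.Res (opp cs K '' {s, t}) (Y 1))
    (hY' : ∀ w ∈ coxPar cs {s, t}, Y' w ∈ X'.Res (opp cs K '' {s, t}) (Y' 1))
    (hG : ∀ w ∈ coxPar cs {s, t}, w ≠ wl cs {s, t} → X.Germ X' (β w) (Y w) (φ w (β w)) (Y' w) (φ w))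
    (hE : ∀ w ∈ coxPar cs {s, t}, w ≠ wl cs {s, t} → Set.EqOn (φ w) (φ 1) (X.Res {s, t} (β 1)))
    (hC : ∀ w ∈ coxPar cs {s, t}, ∀ u ∈ ({s, t} : Set B), ¬ cs.IsRightDescent w u →
      w * cs.simple u ≠ wl cs {s, t} → Set.EqOn (φ (w * cs.simple u)) (φ w) (X.Res {u, j} (β w)))
    {ψ : B → C → C'} (hψ : ∀ u ∈ ({s, t} : Set B), Set.EqOn (ψ u) (φ (wl cs {s, t} * cs.simple u))
      (X.Res {u, j} (β (wl cs {s, t} * cs.simple u)))) :
    Set.EqOn (ψ s) (ψ t) (X.Res {j} (β (wl cs {s, t}))) := by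
  have hJ := pair_subset hs ht
  have hne : ∀ {w : W} {u : B}, u ∈ ({s, t} : Set B) → ¬ cs.IsRightDescent w u →
      w ≠ wl cs {s, t} := fun hu hd e => hd (e ▸ wl_desc cs hu)
  have h1 : (1 : W) ≠ wl cs {s, t} := hne (u := s) (by simp) (cs.not_isRightDescent_one s)
  have G1 := hG 1 (one_mem _) h1
  obtain ⟨b, hb, h2⟩ := exists_good hM hs ht hst hj hjJ hβ G1.op
  obtain ⟨b', hb', h3⟩ := exists_pj hJ G1.op G1.op' (G1.iso s hs t ht) hb
  have h4 : ∀ w ∈ coxPar cs {s, t}, w ≠ wl cs {s, t} → ∀ u ∈ ({s, t} : Set B),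
      ∀ q ∈ X.Res {opp cs K j} b, ∃ q' ∈ X'.Res {opp cs K j} b',
        ∀ v ∈ X.Res {u, j} (β w), X'.δ (φ w v) q' = X.δ v q := fun w hw hw' u hu q hq => by
    have G := hG w hw hw'
    refine theta_ex (pair_subset (hJ hu) hj) (by simp) (opp_mem cs hj) (G.iso u (hJ hu) j hj)
      (G.key hJ hu hj hjJ (by rwa [res_eq (hY w hw)]) (by rwa [res_eq (hY' w hw)]) fun v hv => ?_)
      (h2 w hw) hq
    have hv' := X.res_trans (hβ.mem_res hw) (res_mono (by simpa) _ hv)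
    rw [hE w hw hw' hv', h3 v hv']
  have h5 : ∀ w ∈ coxPar cs {s, t}, w ≠ wl cs {s, t} → ∀ u ∈ ({s, t} : Set B), ∀ χ : C → C',
      Set.EqOn χ (φ w) (X.Res {u, j} (β w)) → ∀ q ∈ X.Res {opp cs K j} b, ∀ q',
      X.Th X' j (opp cs K j) b' (φ w) (β w) q q' →
      X.Th X' j (opp cs K j) b' χ (β (w * cs.simple u)) q q' := fun w hw hw' u hu χ hχ q hq q' h => by
    obtain ⟨q'', h6, h7⟩ := h4 w hw hw' u hu q hq
    obtain rfl := h.unique (h2 w hw) hq ⟨h6, fun p hp => h7 p (res_mono (by simp) _ hp)⟩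
    refine ⟨h6, fun p hp => ?_⟩
    have h8 := X.res_trans (X.mem_res_of_adj (J := {u, j}) (X.self_mem_res _ (β w)) (i := u)
      (by simp) (by rw [hβ w hw _ (mul_mem hw (simple_mem_coxPar cs hu))]; simp))
      (res_mono (by simp) _ hp)
    rw [hχ h8, h7 p h8]
  have h6 : ∀ u ∈ ({s, t} : Set B), ∀ q ∈ X.Res {opp cs K j} b, ∀ q',
      X.Th X' j (opp cs K j) b' (φ 1) (β 1) q q' →
      X.Th X' j (opp cs K j) b' (ψ u) (β (wl cs {s, t})) q q' := fun u hu q hq q' h => by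
    have hw := mul_mem (wl_mem cs {s, t}) (simple_mem_coxPar cs hu)
    have hw' := hne hu (cs.isRightDescent_iff_not_isRightDescent_mul.1 (wl_desc cs hu))
    have := h5 _ hw hw' u hu _ (hψ u hu) q hq q' (coxPar_induction_right cs
      (p := fun w => w ≠ wl cs {s, t} → X.Th X' j (opp cs K j) b' (φ w) (β w) q q') (fun _ => h)
      (fun w hw u hu hd ih h7 => h5 w hw (hne hu hd) u hu _ (hC w hw u hu hd h7) q hq q'
        (ih (hne hu hd))) hw hw')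
    rwa [simple_mul_simple_cancel_right] at this
  have h7 : ∀ u ∈ ({s, t} : Set B), ∀ p ∈ X.Res {j} (β (wl cs {s, t})),
      ψ u p ∈ X'.Res {j} (φ 1 (β (wl cs {s, t}))) := fun u hu p hp => by
    have hw := mul_mem (wl_mem cs {s, t}) (simple_mem_coxPar cs hu)
    have hw' := hne hu (cs.isRightDescent_iff_not_isRightDescent_mul.1 (wl_desc cs hu))
    have h8 := X.mem_res_of_adj (J := {u, j}) (X.self_mem_res _ (β _)) (i := u) (by simp)
      (show X.δ _ (β (wl cs {s, t})) = _ by rw [hβ _ hw _ (wl_mem cs _)]; simp)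
    have h9 := X.res_trans h8 (res_mono (by simp) _ hp)
    rw [hψ u hu h9, ← hE _ hw hw' (hβ.mem_res (wl_mem cs _))]
    exact ((hG _ hw hw').iso u (hJ hu) j hj).iso.mem_res h8 h9 hp
  refine eqOn_of_th (b' := b') (h2 _ (wl_mem cs _)) (h7 s (by simp)) (h7 t (by simp)) fun q hq => ?_
  obtain ⟨q', h8, h9⟩ := h4 1 (one_mem _) h1 s (by simp) q hq
  have h10 : X.Th X' j (opp cs K j) b' (φ 1) (β 1) q q' :=
    ⟨h8, fun p hp => h9 p (res_mono (by simp) _ hp)⟩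
  exact ⟨q', h6 s (by simp) q hq q' h10, h6 t (by simp) q hq q' h10⟩

end Cfsg.Agent.Bld.Bd
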