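import Mathlib
import Cfsg.Agent.Bld.Theta

/-! Tits' extension theorem for spherical buildings without triangles in the diagram. -/

set_option autoImplicit false

namespace Cfsg.Agent.Bld.Bd

open Cfsg.Agent.Chev CoxeterSystem

variable {B W : Type*} [Group W] {M : CoxeterMatrix B} {cs : CoxeterSystem M W} [Sph cs] [Finite W]
  {K J : Set B} {C C' : Type*} {X : Bd cs K C} {X' : Bd cs K C'} {i : B} {a : W → C} {a' : W → C'}
  {n : ℕ} {φ : C → C → C'} {p x z : C}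

theorem δ_apt_opp (ha : X.IsApt K a) {v : W} (hp : X.δ (a 1) p = v) (hi : i ∈ K)
    (hd : ¬ cs.IsRightDescent v i) :
    X.δ p (a (v * cs.simple i * wl cs K)) = cs.simple i * wl cs K := by
  have hv : v ∈ coxPar cs K := hp ▸ X.mem _ _
  have h1 := mul_mem hv (simple_mem_coxPar cs hi)
  have h2 : X.δ (a (v * cs.simple i * wl cs K)) (a 1) = wl cs K * (v * cs.simple i)⁻¹ := by
    rw [ha _ (mul_mem h1 (wl_mem cs K)) 1 (one_mem _)]; simp
  have h3 : wl cs K * (v * cs.simple i)⁻¹ * v = wl cs K * cs.simple i := by simp [mul_assoc]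
  have h4 := len_wl_mul cs (inv_mem h1)
  have h5 := len_wl_mul cs (simple_mem_coxPar cs hi)
  have h6 := cs.not_isRightDescent_iff.1 hd
  rw [length_inv] at h4
  rw [length_simple] at h5
  rw [X.inv, δ_mul (d := a 1) (by rw [h2, hp, h3]; omega), h2, hp, h3]; simp

variable (X X' a a') in
/-- A coherent family of germs on the ball of radius `n` around `a 1`. -/
structure Fam (n : ℕ) (φ : C → C → C') : Prop where
  germ : ∀ x, cs.length (X.δ (a 1) x) ≤ n → X.Germ X' x (a (X.δ (a 1) x * wl cs K)) (φ x x)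
    (a' (X.δ (a 1) x * wl cs K)) (φ x)
  dist : ∀ x, cs.length (X.δ (a 1) x) ≤ n → X'.δ (a' 1) (φ x x) = X.δ (a 1) x
  coh : ∀ p x i, X.δ p x = cs.simple i → ¬ cs.IsRightDescent (X.δ (a 1) p) i →
    cs.length (X.δ (a 1) x) ≤ n → ∀ j ∈ K, Set.EqOn (φ x) (φ p) (X.Res {i, j} p)

omit [Sph cs] [Finite W] in
theorem not_desc_mul {g w : W} (hg : IsMinRight cs J g) (hw : w ∈ coxPar cs J) (hi : i ∈ J) :
    cs.IsRightDescent (g * w) i ↔ cs.IsRightDescent w i := by
  rw [IsRightDescent, IsRightDescent, mul_assoc, hg.length_mul hw,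
    hg.length_mul (mul_mem hw (simple_mem_coxPar cs hi)), add_lt_add_iff_left]

theorem Fam.eqOn (h : X.Fam X' a a' n φ) {s t : B} (hs : s ∈ K) (ht : t ∈ K)
    (hz : IsMinRight cs {s, t} (X.δ (a 1) z)) (hx : x ∈ X.Res {s, t} z)
    (hn : cs.length (X.δ (a 1) x) ≤ n) : Set.EqOn (φ x) (φ z) (X.Res {s, t} z) := by
  have hp : X.IsProj {s, t} z (a 1) z := ⟨X.self_mem_res _ z, hz⟩
  suffices H : ∀ w ∈ coxPar cs {s, t}, ∀ x, X.δ z x = w → cs.length (X.δ (a 1) x) ≤ n →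
      Set.EqOn (φ x) (φ z) (X.Res {s, t} z) from H _ hx x rfl hn
  intro w hw
  refine coxPar_induction_right cs (p := fun w => ∀ x, X.δ z x = w → cs.length (X.δ (a 1) x) ≤ n →
    Set.EqOn (φ x) (φ z) (X.Res {s, t} z)) (fun x hx _ => X.eq_one.1 hx ▸ fun _ _ => rfl)
    (fun w hw u hu hd ih x hx hn => ?_) hw
  obtain ⟨p, h1, h2⟩ := exists_pred hx hd
  have h3 : p ∈ X.Res {s, t} z := show X.δ z p ∈ _ from h1 ▸ hw
  have h4 : ¬ cs.IsRightDescent (X.δ (a 1) p) u := by rwa [hp.δ_eq h3, h1, not_desc_mul hz hw hu]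
  have h5 := cs.not_isRightDescent_iff.1 h4
  rw [← step_up _ h2 h4] at h5
  refine Set.EqOn.trans ?_ (ih p h1 (by omega))
  rw [← res_eq h3]
  rcases hu with rfl | rfl
  · exact h.coh p x _ h2 h4 hn t ht
  · rw [Set.pair_comm]; exact h.coh p x _ h2 h4 hn s hs

theorem Fam.move (h : X.Fam X' a a' n φ) (ha : X.IsApt K a) (ha' : X'.IsApt K a')
    (h1 : X.δ p x = cs.simple i) (h2 : ¬ cs.IsRightDescent (X.δ (a 1) p) i)
    (hn : cs.length (X.δ (a 1) p) ≤ n) :
    ∃ ψ, X.Germ X' x (a (X.δ (a 1) x * wl cs K)) (φ p x) (a' (X.δ (a 1) x * wl cs K)) ψ ∧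
      ∀ j ∈ K, Set.EqOn ψ (φ p) (X.Res {i, j} p) := by
  have hi := mem_of_adj h1
  have h3 := mul_mem (X.mem (a 1) p) (wl_mem cs K)
  have h4 := mul_mem (mul_mem (X.mem (a 1) p) (simple_mem_coxPar cs hi)) (wl_mem cs K)
  rw [step_up _ h1 h2]
  refine (h.germ p hn).move hi h1 (mem_res_single.2 (Or.inr ?_)) (δ_apt_opp ha rfl hi h2)
    (mem_res_single.2 (Or.inr ?_)) (δ_apt_opp ha' (h.dist p hn) hi h2)
  · rw [ha _ h3 _ h4, simple_opp cs hi]; simp [mul_assoc]
  · rw [ha' _ h3 _ h4, simple_opp cs hi]; simp [mul_assoc]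

theorem Fam.agree (h : X.Fam X' a a' n φ) (hM : NoTri M K) (ha : X.IsApt K a)
    (ha' : X'.IsApt K a') (hx : cs.length (X.δ (a 1) x) = n + 1) {s t : B} {q : C}
    (hp : X.δ p x = cs.simple s) (hp' : ¬ cs.IsRightDescent (X.δ (a 1) p) s)
    (hq : X.δ q x = cs.simple t) (hq' : ¬ cs.IsRightDescent (X.δ (a 1) q) t) {y : C} {y' : C'}
    {ψ χ : C → C'} (hψ : X.Germ X' x y (φ p x) y' ψ) (hχ : X.Germ X' x y (φ q x) y' χ)
    (h1 : ∀ j ∈ K, Set.EqOn ψ (φ p) (X.Res {s, j} p))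
    (h2 : ∀ j ∈ K, Set.EqOn χ (φ q) (X.Res {t, j} q)) :
    ∀ j ∈ K, Set.EqOn ψ (φ q) (X.Res {t, j} q) := by
  classical
  have hs := mem_of_adj hp
  have ht := mem_of_adj hq
  have ep := step_up _ hp hp'
  have eq := step_up _ hq hq'
  have gate : ∀ {u : B} {p q : C}, X.δ p x = cs.simple u → X.δ q x = cs.simple u →
      ¬ cs.IsRightDescent (X.δ (a 1) p) u → X.δ (a 1) q = X.δ (a 1) p → p = q :=
    fun h1 h2 h3 h4 => mid_unique rfl h1 h4 h2 (by rw [cs.not_isRightDescent_iff.1 h3, length_simple])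
  by_cases hst : s = t
  · subst hst
    rwa [← gate hp hq hp' (mul_right_cancel (eq.symm.trans ep))]
  have hJ := pair_subset hs ht
  obtain ⟨z, hz⟩ := X.exists_isProj {s, t} x (a 1)
  have hxz := X.res_symm hz.1
  have h3 := hz.δ_eq (X.self_mem_res _ x)
  have hw : X.δ z x = wl cs {s, t} := IsLongest.unique ⟨hxz, by
    rintro u (rfl | rfl)
    · rw [← not_desc_mul hz.2 hxz (by simp), ← h3, ep]
      exact cs.isRightDescent_iff_not_isRightDescent_mul.2 (by simpa using hp')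
    · rw [← not_desc_mul hz.2 hxz (by simp), ← h3, eq]
      exact cs.isRightDescent_iff_not_isRightDescent_mul.2 (by simpa using hq')⟩ (wl_spec cs _)
  obtain ⟨β, hβ, rfl, rfl⟩ := exists_apt hJ hw
  have h4 : ∀ w ∈ coxPar cs {s, t}, X.δ (a 1) (β w) = X.δ (a 1) (β 1) * w := fun w hw => by
    rw [hz.δ_eq (res_eq hxz ▸ hβ.mem_res hw), hβ 1 (one_mem _) w hw]; simp
  have h5 : ∀ w ∈ coxPar cs {s, t}, w ≠ wl cs {s, t} → cs.length (X.δ (a 1) (β w)) ≤ n :=
    fun w hw hw' => by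
      have h6 := len_mul_wl cs (inv_mem hw)
      have h7 : cs.length (w⁻¹ * wl cs {s, t}) ≠ 0 := by
        rwa [Ne, length_eq_zero_iff, inv_mul_eq_one]
      rw [h4 _ (wl_mem cs _), hz.2.length_mul (wl_mem cs _)] at hx
      rw [length_inv] at h6
      rw [h4 w hw, hz.2.length_mul hw]; omega
  have h6 : ∀ {u : B} {p : C}, u ∈ ({s, t} : Set B) → X.δ p (β (wl cs {s, t})) = cs.simple u →
      ¬ cs.IsRightDescent (X.δ (a 1) p) u → p = β (wl cs {s, t} * cs.simple u) := fun hu h1 h2 => by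
    have h7 := mul_mem (wl_mem cs _) (simple_mem_coxPar cs hu)
    refine gate h1 (by rw [hβ _ h7 _ (wl_mem cs _)]; simp) h2 ?_
    rw [h4 _ h7, ← mul_assoc, ← h4 _ (wl_mem cs _), step_up _ h1 h2, simple_mul_simple_cancel_right]
  have hne : ∀ {u : B}, u ∈ ({s, t} : Set B) → wl cs {s, t} * cs.simple u ≠ wl cs {s, t} :=
    fun _ e => simple_ne_one cs _ (by simpa using e)
  obtain rfl := h6 (by simp) hp hp'
  obtain rfl := h6 (by simp) hq hq'
  have hE : ∀ w ∈ coxPar cs {s, t}, w ≠ wl cs {s, t} →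
      Set.EqOn (φ (β w)) (φ (β 1)) (X.Res {s, t} (β 1)) := fun w hw hw' =>
    h.eqOn hs ht hz.2 (hβ.mem_res hw) (h5 w hw hw')
  have ms := mul_mem (wl_mem cs {s, t}) (simple_mem_coxPar cs (J := {s, t}) (i := s) (by simp))
  have mt := mul_mem (wl_mem cs {s, t}) (simple_mem_coxPar cs (J := {s, t}) (i := t) (by simp))
  have h7 : Set.EqOn ψ χ (X.Res {s, t} (β 1)) := by
    have h8 := h1 t ht
    have h9 := h2 s hs
    rw [res_eq (hβ.mem_res ms)] at h8
    rw [Set.pair_comm t s, res_eq (hβ.mem_res mt)] at h9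
    exact (h8.trans (hE _ ms (hne (by simp)))).trans (h9.trans (hE _ mt (hne (by simp)))).symm
  have h8 : ∀ j ∈ K, Set.EqOn ψ χ (X.Res {j} (β (wl cs {s, t}))) := fun j hj => by
    by_cases hjJ : j ∈ ({s, t} : Set B)
    · exact h7.mono (res_eq hxz ▸ res_mono (by simpa) _)
    have hY : ∀ w ∈ coxPar cs {s, t}, (X.δ (a 1) (β 1) * wl cs K)⁻¹ * (X.δ (a 1) (β w) * wl cs K) ∈
        coxPar cs (opp cs K '' {s, t}) := fun w hw => by
      simpa [h4 w hw, mul_assoc] using conj_mem_par cs hJ hw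
    have hK : ∀ x, X.δ (a 1) x * wl cs K ∈ coxPar cs K := fun x => mul_mem (X.mem _ _) (wl_mem cs K)
    have := indep (ψ := fun u => if u = s then ψ else χ) (φ := fun w => φ (β w))
      (Y := fun w => a (X.δ (a 1) (β w) * wl cs K)) (Y' := fun w => a' (X.δ (a 1) (β w) * wl cs K))
      hM hs ht hst hj hjJ hβ
      (fun w hw => show X.δ _ _ ∈ _ by rw [ha _ (hK _) _ (hK _)]; exact hY w hw)
      (fun w hw => show X'.δ _ _ ∈ _ by rw [ha' _ (hK _) _ (hK _)]; exact hY w hw)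
      (fun w hw hw' => h.germ _ (h5 w hw hw')) hE (fun w hw u hu hd hw' => by
        have h9 := mul_mem hw (simple_mem_coxPar cs hu)
        exact h.coh _ _ u (by rw [hβ w hw _ h9]; simp) (by rwa [h4 w hw, not_desc_mul hz.2 hw hu])
          (h5 _ h9 hw') j hj) (by
        rintro u (rfl | rfl)
        · simpa using h1 j hj
        · simpa [Ne.symm hst] using h2 j hj)
    simpa [Ne.symm hst] using this
  intro j hj
  have h9 : φ (β (wl cs {s, t} * cs.simple s)) (β (wl cs {s, t})) =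
      φ (β (wl cs {s, t} * cs.simple t)) (β (wl cs {s, t})) :=
    hψ.base.symm.trans ((h7 hxz).trans hχ.base)
  refine Set.EqOn.trans ?_ (h2 j hj)
  rw [← res_eq (X.mem_res_of_adj (J := {t, j}) (X.self_mem_res _ _) (by simp) hq)]
  exact hψ.eqOn (h9 ▸ hχ) h8 ht hj

theorem Fam.succ (h : X.Fam X' a a' n φ) (hM : NoTri M K) (ha : X.IsApt K a)
    (ha' : X'.IsApt K a') : ∃ φ', X.Fam X' a a' (n + 1) φ' ∧ φ' (a 1) = φ (a 1) := by
  classical
  have H : ∀ x, ∃ ψ : C → C', cs.length (X.δ (a 1) x) = n + 1 →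
      X.Germ X' x (a (X.δ (a 1) x * wl cs K)) (ψ x) (a' (X.δ (a 1) x * wl cs K)) ψ ∧
      X'.δ (a' 1) (ψ x) = X.δ (a 1) x ∧ ∀ p i, X.δ p x = cs.simple i →
        ¬ cs.IsRightDescent (X.δ (a 1) p) i → ∀ j ∈ K, Set.EqOn ψ (φ p) (X.Res {i, j} p) := fun x => by
    by_cases hx : cs.length (X.δ (a 1) x) = n + 1
    swap
    · exact ⟨φ x, fun e => absurd e hx⟩
    have hn : ∀ {p : C} {i : B}, X.δ p x = cs.simple i → ¬ cs.IsRightDescent (X.δ (a 1) p) i →
        cs.length (X.δ (a 1) p) ≤ n := fun h1 h2 => by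
      have := cs.not_isRightDescent_iff.1 h2
      rw [← step_up _ h1 h2] at this
      omega
    obtain ⟨s, hs⟩ := cs.exists_rightDescent_of_ne_one (w := X.δ (a 1) x) (by
      rintro e; simp [e] at hx)
    have h0 := cs.isRightDescent_iff_not_isRightDescent_mul.1 hs
    obtain ⟨p, h1, h2⟩ := exists_pred (cs.simple_mul_simple_cancel_right s).symm h0
    rw [← h1] at h0
    obtain ⟨ψ, h3, h4⟩ := h.move ha ha' h2 h0 (hn h2 h0)
    refine ⟨ψ, fun _ => ⟨h3.base ▸ h3, ?_, fun q t hq hq' => ?_⟩⟩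
    · have hs := mem_of_adj h2
      have h5 := h.dist p (hn h2 h0)
      rw [h3.base, step_up _ (d := φ p p) (i := s) ?_ (by rwa [h5]), h5, step_up _ h2 h0]
      rw [((h.germ p (hn h2 h0)).iso s hs s hs).iso p (X.self_mem_res _ p) x
        (X.mem_res_of_adj (X.self_mem_res _ p) (by simp) h2), h2]
    · obtain ⟨χ, h5, h6⟩ := h.move ha ha' hq hq' (hn hq hq')
      exact h.agree hM ha ha' hx h2 h0 hq hq' h3 h5 h4 h6
  choose ψ hψ using H
  refine ⟨fun x => if cs.length (X.δ (a 1) x) = n + 1 then ψ x else φ x,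
    ⟨fun x hx => ?_, fun x hx => ?_, fun p x i h1 h2 hx j hj => ?_⟩, by simp [X.δ_self]⟩
  · split_ifs with e
    exacts [(hψ x e).1, h.germ x (by omega)]
  · split_ifs with e
    exacts [(hψ x e).2.1, h.dist x (by omega)]
  · have := cs.not_isRightDescent_iff.1 h2
    rw [← step_up _ h1 h2] at this
    rw [if_neg (show cs.length (X.δ (a 1) p) ≠ n + 1 by omega)]
    split_ifs with e
    exacts [(hψ x e).2.2 p i h1 h2 j hj, h.coh p x i h1 h2 (by omega) j hj]

theorem IsoA.δ_opp (ha : X.IsApt K a) (ha' : X'.IsApt K a') (hJ : J ⊆ K) {φ : C → C'}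
    (h : X.IsoA X' J a a' φ) (hx : x ∈ X.Res J (a 1)) :
    X'.δ (φ x) (a' (wl cs K)) = X.δ x (a (wl cs K)) := by
  have h1 := wl_mem cs J
  have h2 := coxPar_mono cs hJ h1
  rw [δ_of_r hJ ((ha.mono hJ).mem_res h1) hx (by rw [ha _ h2 _ (wl_mem cs K), wl_inv]),
    δ_of_r hJ ((ha'.mono hJ).mem_res h1) (h.1.mem hx) (by rw [ha' _ h2 _ (wl_mem cs K), wl_inv]),
    ← h.2 _ h1, h.1.iso x hx _ ((ha.mono hJ).mem_res h1)]

/-- Tits' extension theorem. -/
theorem extension {X' : Bd cs K C'} (hM : NoTri M K) (ha : X.IsApt K a) (ha' : X'.IsApt K a')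
    {φ : C → C'} (h0 : φ (a 1) = a' 1) (h : ∀ i ∈ K, ∀ j ∈ K, X.IsoA X' {i, j} a a' φ) :
    ∃ F : C ≃ C', (∀ x y, X'.δ (F x) (F y) = X.δ x y) ∧
      (∀ i ∈ K, ∀ j ∈ K, Set.EqOn F φ (X.Res {i, j} (a 1))) ∧ ∀ w ∈ coxPar cs K, F (a w) = a' w := by
  have H : ∀ n, ∃ ψ, X.Fam X' a a' n ψ ∧ ψ (a 1) = φ := fun n => by
    induction n with
    | zero =>
      have e : ∀ x, cs.length (X.δ (a 1) x) ≤ 0 → a 1 = x := fun x hx =>
        X.eq_one.1 (cs.length_eq_zero_iff.1 (by omega))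
      refine ⟨fun _ => φ, ⟨fun x hx => ?_, fun x hx => ?_, fun _ _ _ _ _ _ _ _ _ _ => rfl⟩, rfl⟩
      · rw [← e x hx, X.δ_self, one_mul, h0]
        exact ⟨by simpa using ha 1 (one_mem _) _ (wl_mem cs K),
          by simpa using ha' 1 (one_mem _) _ (wl_mem cs K), h0, fun i hi j hj => (h i hi j hj).1,
          fun i hi j hj y hy => (h i hi j hj).δ_opp ha ha' (pair_subset hi hj) hy⟩
      · rw [← e x hx, h0, X.δ_self, X'.δ_self]
    | succ n ih =>
      obtain ⟨ψ, h1, h2⟩ := ih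
      obtain ⟨ψ', h3, h4⟩ := h1.succ hM ha ha'
      exact ⟨ψ', h3, h4.trans h2⟩
  obtain ⟨ψ, hψ, rfl⟩ := H (cs.length (wl cs K))
  have hn : ∀ x, cs.length (X.δ (a 1) x) ≤ cs.length (wl cs K) := fun x =>
    (wl_spec cs K).length_le (X.mem _ x)
  have h1 : ∀ p x i, X.δ p x = cs.simple i → ¬ cs.IsRightDescent (X.δ (a 1) p) i →
      ψ x x = ψ p x := fun p x i h1 h2 => hψ.coh p x i h1 h2 (hn x) i (mem_of_adj h1)
        (X.mem_res_of_adj (X.self_mem_res _ p) (by simp) h1)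
  have hP : ∀ p, ∀ i ∈ K, X.Iso X' {i} p (ψ p p) (ψ p) := fun p i hi =>
    ((hψ.germ p (hn p)).iso i hi i hi).mono (by simp)
  have h2 : ∀ x y, X'.δ (ψ x x) (ψ y y) = X.δ x y := fun x y => by
    refine isoOn_of_adj (f := fun x => ψ x x) (J := K) (c := x) (fun x _ y _ i hi hxy => ?_) x
      (X.mem _ _) y (X.mem _ _)
    obtain ⟨p, hp⟩ := X.exists_isProj {i} x (a 1)
    have h3 : ∀ z ∈ X.Res {i} p, ψ z z = ψ p z := fun z hz => by
      rcases mem_res_single.1 hz with rfl | hz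
      exacts [rfl, h1 p z i hz ((minRight_single cs).1 hp.2)]
    have hx := X.res_symm hp.1
    have hy := X.mem_res_of_adj hx rfl hxy
    rw [h3 x hx, h3 y hy, (hP p i hi).iso x hx y hy, hxy]
  have h3 : ∀ x', ∃ x, ψ x x = x' := fun x' => by
    generalize hw : X'.δ (a' 1) x' = w
    induction w using length_induction_right cs generalizing x' with
    | one => exact ⟨a 1, h0.trans (X'.eq_one.1 hw)⟩
    | step w i hd ih =>
      obtain ⟨p', h3, h4⟩ := exists_pred hw hd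
      obtain ⟨p, rfl⟩ := ih p' h3
      obtain ⟨x, hx, rfl⟩ := (hP p i (mem_of_adj h4)).surj x' (mem_res_single.2 (Or.inr h4))
      exact ⟨x, h1 p x i (by rwa [(hP p i (mem_of_adj h4)).iso p (X.self_mem_res _ p) x hx] at h4)
        (by rwa [← hψ.dist p (hn p), h3])⟩
  refine ⟨Equiv.ofBijective (fun x => ψ x x) ⟨fun x y e => X.eq_one.1 ?_, h3⟩, h2,
    fun i hi j hj x hx => hψ.eqOn hi hj (fun k _ => by rw [X.δ_self]; exact cs.not_isRightDescent_one k)
      hx (hn x) hx,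
    fun w hw => ?_⟩
  · rw [← h2]; exact X'.eq_one.2 e
  refine coxPar_induction_right cs (p := fun w => ψ (a w) (a w) = a' w) h0
    (fun w hw i hi hd ih => ?_) hw
  have h4 := mul_mem hw (simple_mem_coxPar cs hi)
  have h5 := mul_mem hw (wl_mem cs K)
  have h6 : X.δ (a 1) (a w) = w := by simpa using ha 1 (one_mem _) w hw
  have h7 : X.δ (a w) (a (w * cs.simple i)) = cs.simple i := by rw [ha _ hw _ h4]; simp
  have h8 := mem_res_single.2 (Or.inr h7)
  have h9 := (hψ.germ (a w) (hn _)).cmp i hi i hi _ (res_mono (by simp) _ h8)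
  have hs : ({i} : Set B) ⊆ K := by simpa
  rw [h6, ha _ h4 _ h5] at h9
  rw [h1 _ _ i h7 (by rwa [h6])]
  refine (isProj_of_r hs (c := a' w) (ih ▸ (hP _ i hi).mem h8)
    (h9.trans (by simp [wl_single, mul_assoc]))).unique
    (isProj_of_r hs (mem_res_single.2 (Or.inr ?_)) ?_)
  · rw [ha' _ hw _ h4]; simp
  · rw [ha' _ h4 _ h5]; simp [wl_single, mul_assoc]

end Cfsg.Agent.Bld.Bd
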