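import Mathlib
import Cfsg.Agent.Bld.Cox
import Cfsg.Agent.Bld.Types

/-! The reflections of the Coxeter groups of type `A₃` and `B₃` (for the Moufang property). -/

set_option autoImplicit false
set_option linter.unusedSimpArgs false

namespace Cfsg.Agent.Bld

open Cfsg.Agent.Chev CoxeterSystem

variable {B W : Type*} [Group W] {M : CoxeterMatrix B} {cs : CoxeterSystem M W}
  {K J : Set B} {i j k : B}

/-- The reflection `ρ` lies in no standard parabolic subgroup of rank at most two, and all other
reflections are obtained from those of these subgroups by walking around vertices off the wall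
of `ρ`. -/
structure MfP (cs : CoxeterSystem M W) (K : Set B) (ρ : W) : Prop where
  nm : ∀ p ∈ K, ∀ q ∈ K, ρ ∉ coxPar cs {p, q}
  cl : ∀ G : W → Prop,
    (∀ p ∈ K, ∀ q ∈ K, ∀ w ∈ coxPar cs {p, q}, G (w * cs.simple p * w⁻¹)) →
    (∀ v ∈ coxPar cs K, ∀ p ∈ K, ∀ q ∈ K, v⁻¹ * ρ * v ∉ coxPar cs {p, q} →
      G (v * cs.simple p * v⁻¹) → G (v * cs.simple q * v⁻¹) →
      ∀ w ∈ coxPar cs {p, q}, G (v * w * cs.simple q * (v * w)⁻¹)) →
    ∀ v ∈ coxPar cs K, ∀ l ∈ K, v * cs.simple l * v⁻¹ ≠ ρ → G (v * cs.simple l * v⁻¹)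

theorem mf_refl_list {L : W → Prop} (h1 : ∀ p ∈ K, L (cs.simple p))
    (h2 : ∀ p ∈ K, ∀ t, L t → L (cs.simple p * t * cs.simple p)) {v : W} (hv : v ∈ coxPar cs K)
    {l : B} (hl : l ∈ K) : L (v * cs.simple l * v⁻¹) := by
  refine coxPar_induction_left cs (p := fun v => L (v * cs.simple l * v⁻¹)) (by simpa using h1 l hl)
    (fun w _ p hp _ ih => ?_) hv
  simpa [mul_assoc] using h2 p hp _ ih

theorem mf_conj_iff {v t : W} (hv : v ∈ coxPar cs J) :
    v * t * v⁻¹ ∈ coxPar cs J ↔ t ∈ coxPar cs J := by
  rw [Subgroup.mul_mem_cancel_right _ (inv_mem hv), Subgroup.mul_mem_cancel_left _ hv]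

theorem mf_mem_left (p q : B) : cs.simple p ∈ coxPar cs {p, q} := simple_mem_coxPar cs (by simp)

theorem mf_mem_right (p q : B) : cs.simple q ∈ coxPar cs {p, q} := simple_mem_coxPar cs (by simp)

variable [Sph cs]

theorem mf_conj_not {v : W} {l : B} (hv : v ∈ coxPar cs J) (hl : l ∉ J) :
    v * cs.simple l * v⁻¹ ∉ coxPar cs J := fun h =>
  hl ((simple_mem_par cs).1 ((mf_conj_iff hv).1 h))

/-- `p q p` does not lie in the group generated by `q` if `p` and `q` do not commute. -/
theorem mf_not_single {p q : B} (h : 3 ≤ M p q) :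
    cs.simple p * cs.simple q * cs.simple p ∉ coxPar cs {q} := fun h1 => by
  have hpq : p ≠ q := by
    rintro rfl
    simp at h
  have h2 := length_alt cs hpq h
  have h3 : alt cs p q 3 = cs.simple p * cs.simple q * cs.simple p := by simp [alt_succ, mul_assoc]
  rw [h3] at h2
  rcases (mem_par_single cs).1 h1 with h4 | h4 <;> simp [h4] at h2

theorem Rk3.ne_ij (h : Rk3 M i j k) : i ≠ j := by
  rintro rfl
  simpa using h.ij

theorem Rk3.ne_jk (h : Rk3 M i j k) : j ≠ k := by
  rintro rfl
  simpa using h.jk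

theorem Rk3.ne_ik (h : Rk3 M i j k) : i ≠ k := by
  rintro rfl
  simpa using h.ik

theorem Rk3.noTri (h : Rk3 M i j k) : NoTri M {i, j, k} := by
  have h1 := h.ij
  have h2 := h.jk
  have h3 := h.ik
  have h4 := M.symmetric i j
  have h5 := M.symmetric j k
  have h6 := M.symmetric i k
  refine ⟨fun p hp q hq hpq => ?_, fun p hp q hq r hr h7 h8 h9 => ?_⟩
  · rcases hp with rfl | rfl | rfl <;> rcases hq with rfl | rfl | rfl <;>
      first | exact absurd rfl hpq | omega
  · rcases hp with rfl | rfl | rfl <;> rcases hq with rfl | rfl | rfl <;>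
      rcases hr with rfl | rfl | rfl <;>
      first | exact absurd rfl h7 | exact absurd rfl h8 | exact absurd rfl h9 | omega

theorem Rk3.ki (h : Rk3 M i j k) : cs.simple k * cs.simple i = cs.simple i * cs.simple k :=
  (comm_of_two cs h.ik).symm

theorem Rk3.ki' (h : Rk3 M i j k) (w : W) :
    cs.simple k * (cs.simple i * w) = cs.simple i * (cs.simple k * w) := by
  rw [← mul_assoc, h.ki, mul_assoc]

theorem Rk3.jij (h : Rk3 M i j k) : cs.simple j * (cs.simple i * cs.simple j) =
    cs.simple i * (cs.simple j * cs.simple i) := (braid_of_three cs h.ij).symm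

theorem Rk3.jij' (h : Rk3 M i j k) (w : W) : cs.simple j * (cs.simple i * (cs.simple j * w)) =
    cs.simple i * (cs.simple j * (cs.simple i * w)) := by
  simpa only [mul_assoc] using congrArg (· * w) (h.jij (cs := cs))

variable [Finite W]

theorem mf_refl_two {p q : B} (h : M p q = 2) {t : W} (ht : cs.IsReflection t)
    (h1 : t ∈ coxPar cs {p, q}) : t = cs.simple p ∨ t = cs.simple q := by
  have hpq : p ≠ q := by
    rintro rfl
    simp at h
  have h2 := ht.odd_length
  obtain ⟨n, hn, rfl | rfl⟩ := exists_alt cs h1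
  · rw [length_alt cs hpq hn] at h2
    obtain rfl : n = 1 := by obtain ⟨m, hm⟩ := h2; omega
    left; simp [alt_succ]
  · rw [length_alt cs hpq.symm (M.symmetric p q ▸ hn)] at h2
    obtain rfl : n = 1 := by obtain ⟨m, hm⟩ := h2; omega
    right; simp [alt_succ]

theorem mf_refl_four {p q : B} (h : M p q = 4) {t : W} (ht : cs.IsReflection t)
    (h1 : t ∈ coxPar cs {p, q}) : t = cs.simple p ∨ t = cs.simple q ∨
      t = cs.simple p * (cs.simple q * cs.simple p) ∨
      t = cs.simple q * (cs.simple p * cs.simple q) := by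
  have hpq : p ≠ q := by
    rintro rfl
    simp at h
  have h2 := ht.odd_length
  obtain ⟨n, hn, rfl | rfl⟩ := exists_alt cs h1
  · rw [length_alt cs hpq hn] at h2
    obtain rfl | rfl : n = 1 ∨ n = 3 := by obtain ⟨m, hm⟩ := h2; omega
    all_goals simp [alt_succ]
  · rw [length_alt cs hpq.symm (M.symmetric p q ▸ hn)] at h2
    obtain rfl | rfl : n = 1 ∨ n = 3 := by obtain ⟨m, hm⟩ := h2; omega
    all_goals simp [alt_succ]

theorem Rk3.nm (h : Rk3 M i j k) {t : W} (ht : cs.IsReflection t) (h1 : t ∉ coxPar cs {i, j})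
    (h2 : t ∉ coxPar cs {j, k}) :
    ∀ p ∈ ({i, j, k} : Set B), ∀ q ∈ ({i, j, k} : Set B), t ∉ coxPar cs {p, q} := by
  have h3 : t ∉ coxPar cs {i, k} := fun h3 => by
    rcases mf_refl_two h.ik ht h3 with rfl | rfl
    exacts [h1 (mf_mem_left _ _), h2 (mf_mem_right _ _)]
  intro p hp q hq h4
  rcases hp with rfl | rfl | rfl <;> rcases hq with rfl | rfl | rfl <;>
    first
    | (refine h1 (coxPar_mono cs ?_ h4); intro _; simp; done)
    | (refine h2 (coxPar_mono cs ?_ h4); intro _; simp; done)
    | (refine h1 (coxPar_mono cs ?_ h4); intro _; simp +contextual; done)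
    | (refine h2 (coxPar_mono cs ?_ h4); intro _; simp +contextual; done)
    | exact h1 (Set.pair_comm _ _ ▸ h4)
    | exact h2 (Set.pair_comm _ _ ▸ h4)
    | exact h3 h4
    | exact h3 (Set.pair_comm _ _ ▸ h4)

/-! ### Type `A₃` -/

section A3

omit [Finite W] in
theorem mf_kjk (e : M j k = 3) : cs.simple k * (cs.simple j * cs.simple k) =
    cs.simple j * (cs.simple k * cs.simple j) := (braid_of_three cs e).symm

omit [Finite W] in
theorem mf_kjk' (e : M j k = 3) (w : W) : cs.simple k * (cs.simple j * (cs.simple k * w)) =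
    cs.simple j * (cs.simple k * (cs.simple j * w)) := by
  simpa only [mul_assoc] using congrArg (· * w) (mf_kjk (cs := cs) e)

omit [Finite W] in
theorem Rk3.kjik' (h : Rk3 M i j k) (e : M j k = 3) (w : W) :
    cs.simple k * (cs.simple j * (cs.simple i * (cs.simple k * w))) =
      cs.simple j * (cs.simple k * (cs.simple j * (cs.simple i * w))) := by
  rw [← h.ki', mf_kjk' e]

omit [Finite W] in
theorem Rk3.kjik (h : Rk3 M i j k) (e : M j k = 3) :
    cs.simple k * (cs.simple j * (cs.simple i * cs.simple k)) =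
      cs.simple j * (cs.simple k * (cs.simple j * cs.simple i)) := by
  simpa only [mul_one] using h.kjik' (cs := cs) e 1

theorem Rk3.mfP_A (h : Rk3 M i j k) (e : M j k = 3) : MfP cs {i, j, k}
    (cs.simple i * (cs.simple j * (cs.simple k * (cs.simple j * cs.simple i)))) := by
  refine ⟨h.nm ⟨cs.simple i * cs.simple j, k, by simp [mul_assoc]⟩ ?_ ?_, fun G h1 _ v hv l hl => ?_⟩
  · simpa [mul_assoc] using mf_conj_not (cs := cs) (J := {i, j}) (l := k)
      (mul_mem (mf_mem_left i j) (mf_mem_right i j)) (by simp [h.ne_ik.symm, h.ne_jk.symm])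
  · simpa [mul_assoc, h.ki, h.ki', h.jij, h.jij', mf_kjk e, mf_kjk' e, h.kjik e, h.kjik' e] using
      mf_conj_not (cs := cs) (J := {j, k}) (l := i)
      (mul_mem (mf_mem_right j k) (mf_mem_left j k)) (by simp [h.ne_ik, h.ne_ij])
  · have g1 := h1 i (by simp) i (by simp) 1 (one_mem _)
    have g2 := h1 j (by simp) j (by simp) 1 (one_mem _)
    have g3 := h1 k (by simp) k (by simp) 1 (one_mem _)
    have g4 := h1 j (by simp) i (by simp) _ (mf_mem_right j i)
    have g5 := h1 k (by simp) j (by simp) _ (mf_mem_right k j)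
    simp only [one_mul, inv_one, mul_one, inv_simple, mul_assoc] at g1 g2 g3 g4 g5
    have H := mf_refl_list (cs := cs) (L := fun t => t = cs.simple i ∨ t = cs.simple j ∨
      t = cs.simple k ∨ t = cs.simple i * (cs.simple j * cs.simple i) ∨
      t = cs.simple j * (cs.simple k * cs.simple j) ∨
      t = cs.simple i * (cs.simple j * (cs.simple k * (cs.simple j * cs.simple i))))
      (by rintro p (rfl | rfl | rfl) <;> simp only [true_or, or_true]) ?_ hv hl
    · intro hne
      rcases H with H | H | H | H | H | H <;> first | exact absurd H hne | rwa [H]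
    · intro p hp t ht
      obtain hp | hp | hp : p = i ∨ p = j ∨ p = k := hp
      all_goals
        rw [hp]
        rcases ht with ht | ht | ht | ht | ht | ht <;> rw [ht] <;>
          simp only [mul_assoc, simple_mul_simple_self, simple_mul_simple_cancel_left, mul_one, one_mul,
            h.ki, h.ki', h.jij, h.jij', mf_kjk e, mf_kjk' e, h.kjik e, true_or, or_true]

end A3

/-! ### Type `B₃` -/

section B3

omit [Finite W] in
theorem mf_kjkj (e : M j k = 4) : cs.simple k * (cs.simple j * (cs.simple k * cs.simple j)) =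
    cs.simple j * (cs.simple k * (cs.simple j * cs.simple k)) := (braid_of_four cs e).symm

omit [Finite W] in
theorem mf_kjkj' (e : M j k = 4) (w : W) :
    cs.simple k * (cs.simple j * (cs.simple k * (cs.simple j * w))) =
      cs.simple j * (cs.simple k * (cs.simple j * (cs.simple k * w))) := by
  simpa only [mul_assoc] using congrArg (· * w) (mf_kjkj (cs := cs) e)

omit [Finite W] in
theorem Rk3.six' (h : Rk3 M i j k) (e : M j k = 4) (w : W) :
    cs.simple k * (cs.simple j * (cs.simple i * (cs.simple k * (cs.simple j * (cs.simple i * w))))) =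
      cs.simple j * (cs.simple k * (cs.simple j * (cs.simple i * (cs.simple k *
        (cs.simple j * w))))) := by
  rw [← h.ki', ← h.jij', mf_kjkj' e, h.ki']

omit [Finite W] in
theorem Rk3.six (h : Rk3 M i j k) (e : M j k = 4) :
    cs.simple k * (cs.simple j * (cs.simple i * (cs.simple k * (cs.simple j * cs.simple i)))) =
      cs.simple j * (cs.simple k * (cs.simple j * (cs.simple i * (cs.simple k * cs.simple j)))) := by
  simpa only [mul_one] using h.six' (cs := cs) e 1

omit [Finite W] in
/-- The nine reflections of `B₃`. -/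
theorem Rk3.list_B (h : Rk3 M i j k) (e : M j k = 4) {G : W → Prop}
    (h1 : ∀ p ∈ ({i, j, k} : Set B), ∀ q ∈ ({i, j, k} : Set B), ∀ w ∈ coxPar cs {p, q},
      G (w * cs.simple p * w⁻¹)) {v : W} (hv : v ∈ coxPar cs {i, j, k}) {l : B}
    (hl : l ∈ ({i, j, k} : Set B)) : G (v * cs.simple l * v⁻¹) ∨
      v * cs.simple l * v⁻¹ =
        cs.simple i * (cs.simple j * (cs.simple k * (cs.simple j * cs.simple i))) ∨
      v * cs.simple l * v⁻¹ =
        cs.simple i * (cs.simple k * (cs.simple j * (cs.simple i * cs.simple k))) ∨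
      v * cs.simple l * v⁻¹ = cs.simple j * (cs.simple i * (cs.simple k * (cs.simple j *
        (cs.simple i * (cs.simple k * cs.simple j))))) := by
  have g1 := h1 i (by simp) i (by simp) 1 (one_mem _)
  have g2 := h1 j (by simp) j (by simp) 1 (one_mem _)
  have g3 := h1 k (by simp) k (by simp) 1 (one_mem _)
  have g4 := h1 j (by simp) i (by simp) _ (mf_mem_right j i)
  have g5 := h1 k (by simp) j (by simp) _ (mf_mem_right k j)
  have g6 := h1 j (by simp) k (by simp) _ (mf_mem_right j k)
  simp only [one_mul, inv_one, mul_one, inv_simple, mul_assoc] at g1 g2 g3 g4 g5 g6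
  have H := mf_refl_list (cs := cs) (L := fun t => t = cs.simple i ∨ t = cs.simple j ∨
    t = cs.simple k ∨ t = cs.simple i * (cs.simple j * cs.simple i) ∨
    t = cs.simple j * (cs.simple k * cs.simple j) ∨ t = cs.simple k * (cs.simple j * cs.simple k) ∨
    t = cs.simple i * (cs.simple j * (cs.simple k * (cs.simple j * cs.simple i))) ∨
    t = cs.simple i * (cs.simple k * (cs.simple j * (cs.simple i * cs.simple k))) ∨
    t = cs.simple j * (cs.simple i * (cs.simple k * (cs.simple j *
        (cs.simple i * (cs.simple k * cs.simple j))))))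
    (by rintro p (rfl | rfl | rfl) <;> simp only [true_or, or_true]) ?_ hv hl
  · rcases H with H | H | H | H | H | H | H <;> first | exact Or.inr H | (left; rwa [H])
  · intro p hp t ht
    obtain hp | hp | hp : p = i ∨ p = j ∨ p = k := hp
    all_goals
      rw [hp]
      rcases ht with ht | ht | ht | ht | ht | ht | ht | ht | ht <;> rw [ht] <;>
        simp only [mul_assoc, simple_mul_simple_self, simple_mul_simple_cancel_left, mul_one, one_mul,
          h.ki, h.ki', h.jij, h.jij', mf_kjkj e, mf_kjkj' e, h.six e, h.six' e, true_or, or_true]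

theorem Rk3.mfP_B1 (h : Rk3 M i j k) (e : M j k = 4) : MfP cs {i, j, k}
    (cs.simple i * (cs.simple j * (cs.simple k * (cs.simple j * cs.simple i)))) := by
  have hr : cs.IsReflection
      (cs.simple i * (cs.simple j * (cs.simple k * (cs.simple j * cs.simple i)))) :=
    ⟨cs.simple i * cs.simple j, k, by simp [mul_assoc]⟩
  have n1 : cs.simple i * (cs.simple j * (cs.simple k * (cs.simple j * cs.simple i))) ∉
      coxPar cs {i, j} := by
    simpa [mul_assoc] using mf_conj_not (cs := cs) (J := {i, j}) (l := k)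
      (mul_mem (mf_mem_left i j) (mf_mem_right i j)) (by simp [h.ne_ik.symm, h.ne_jk.symm])
  refine ⟨h.nm hr n1 fun h2 => ?_, fun G h1 h2 v hv l hl hne => ?_⟩
  · have a1 : cs.simple i * (cs.simple j * (cs.simple k * (cs.simple j * cs.simple i))) ≠
        cs.simple j := fun h3 => n1 (by rw [h3]; exact mf_mem_right i j)
    have a2 : cs.simple i * (cs.simple j * (cs.simple k * (cs.simple j * cs.simple i))) ≠
        cs.simple k := fun h3 => by
      have h4 := congrArg (fun t => cs.simple i * t * cs.simple i) h3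
      simp only [mul_assoc, simple_mul_simple_self, simple_mul_simple_cancel_left, mul_one,
        h.ki] at h4
      refine mf_not_single (cs := cs) (p := j) (q := k) (by omega) ?_
      rw [mul_assoc, h4]
      exact simple_mem_coxPar cs rfl
    rcases mf_refl_four e hr h2 with h3 | h3 | h3 | h3
    · exact a1 h3
    · exact a2 h3
    · have h4 := congrArg (fun t => cs.simple j * t * cs.simple j) h3
      simp only [mul_assoc, simple_mul_simple_self, simple_mul_simple_cancel_left, mul_one,
        h.ki, h.ki', h.jij, h.jij', mf_kjkj e, mf_kjkj' e, h.six e, h.six' e] at h4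
      exact a2 h4
    · have h4 := congrArg (fun t => cs.simple k * t * cs.simple k) h3
      simp only [mul_assoc, simple_mul_simple_self, simple_mul_simple_cancel_left, mul_one,
        h.ki, h.ki', h.jij, h.jij', mf_kjkj e, mf_kjkj' e, h.six e, h.six' e] at h4
      exact a1 h4
  · have g1 := h1 i (by simp) i (by simp) 1 (one_mem _)
    have g4 := h1 j (by simp) i (by simp) _ (mf_mem_right j i)
    have g6 := h1 j (by simp) k (by simp) _ (mf_mem_right j k)
    have hj : cs.simple j ∈ coxPar cs {i, j, k} := simple_mem_coxPar cs (by simp)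
    have hk : cs.simple k ∈ coxPar cs {i, j, k} := simple_mem_coxPar cs (by simp)
    have g7 := fun a b c => h2 _ hk i (by simp) j (by simp) a b c _ (mf_mem_left i j)
    have g8 := fun a b c => h2 _ (mul_mem hj hk) i (by simp) j (by simp) a b c _ (mf_mem_left i j)
    simp only [mul_assoc, simple_mul_simple_self, simple_mul_simple_cancel_left, mul_one,
      one_mul, inv_one, inv_simple, mul_inv_rev,
      h.ki, h.ki', h.jij, h.jij', mf_kjkj e, mf_kjkj' e, h.six e, h.six' e] at g1 g4 g6 g7 g8
    rcases h.list_B e h1 hv hl with H | H | H | H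
    · exact H
    · exact absurd H hne
    · rw [H]; exact g7 n1 g1 g6
    · rw [H]; exact g8 n1 g4 g6

theorem Rk3.mfP_B2 (h : Rk3 M i j k) (e : M j k = 4) : MfP cs {i, j, k}
    (cs.simple j * (cs.simple i * (cs.simple k * (cs.simple j *
      (cs.simple i * (cs.simple k * cs.simple j)))))) := by
  have n2 : cs.simple j * (cs.simple i * (cs.simple k * (cs.simple j *
      (cs.simple i * (cs.simple k * cs.simple j))))) ∉ coxPar cs {j, k} := fun h2 => by
    have h3 := (mf_conj_iff (mul_mem (mf_mem_right j k) (mf_mem_left j k))).2 h2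
    simp only [mul_assoc, simple_mul_simple_self, simple_mul_simple_cancel_left, mul_one,
      inv_simple, mul_inv_rev, h.ki, h.ki'] at h3
    have h4 := par_inter cs h3
      (mul_mem (mf_mem_left i j) (mul_mem (mf_mem_right i j) (mf_mem_left i j)))
    refine mf_not_single (cs := cs) (p := i) (q := j) h.ij.ge ?_
    rw [mul_assoc]
    refine coxPar_mono cs ?_ h4
    rintro _ ⟨rfl | rfl, h5 | h5⟩
    exacts [rfl, rfl, absurd h5 h.ne_ik.symm, absurd h5 h.ne_jk.symm]
  refine ⟨h.nm ⟨cs.simple j * cs.simple i * cs.simple k, j, by simp [mul_assoc, h.ki']⟩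
    (fun h2 => ?_) n2, fun G h1 h2 v hv l hl hne => ?_⟩
  · have h3 := (mf_conj_iff (mul_mem (mf_mem_left i j) (mf_mem_right i j))).2 h2
    simp only [mul_assoc, simple_mul_simple_self, simple_mul_simple_cancel_left, mul_one,
      inv_simple, mul_inv_rev, h.ki, h.ki'] at h3
    have h4 := par_inter cs h3
      (mul_mem (mf_mem_right j k) (mul_mem (mf_mem_left j k) (mf_mem_right j k)))
    refine mf_not_single (cs := cs) (p := k) (q := j) (by rw [M.symmetric]; omega) ?_
    rw [mul_assoc]
    refine coxPar_mono cs ?_ h4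
    rintro _ ⟨rfl | rfl, h5 | h5⟩
    exacts [absurd h5 h.ne_ij, absurd h5 h.ne_ik, rfl, rfl]
  · have g3 := h1 k (by simp) k (by simp) 1 (one_mem _)
    have g4 := h1 j (by simp) i (by simp) _ (mf_mem_right j i)
    have hi : cs.simple i ∈ coxPar cs {i, j, k} := simple_mem_coxPar cs (by simp)
    have g7 := fun a b c => h2 _ hi j (by simp) k (by simp) a b c _ (mf_mem_left j k)
    have g8 := fun a b c => h2 _ hi k (by simp) j (by simp) a b c _ (mf_mem_left k j)
    simp only [mul_assoc, simple_mul_simple_self, simple_mul_simple_cancel_left, mul_one,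
      one_mul, inv_one, inv_simple, mul_inv_rev,
      h.ki, h.ki', h.jij, h.jij', mf_kjkj e, mf_kjkj' e, h.six e, h.six' e] at g3 g4 g7 g8
    rcases h.list_B e h1 hv hl with H | H | H | H
    · exact H
    · rw [H]; exact g7 n2 g4 g3
    · rw [H]; exact g8 (Set.pair_comm j k ▸ n2) g3 g4
    · exact absurd H hne

end B3

theorem Rk3.exists_mfP (h : Rk3 M i j k) {r : B} (hr : r ∈ ({i, j, k} : Set B)) :
    ∃ u ∈ coxPar cs {i, j, k}, MfP cs {i, j, k} (u⁻¹ * cs.simple r * u) := by
  have hi : cs.simple i ∈ coxPar cs {i, j, k} := simple_mem_coxPar cs (by simp)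
  have hj : cs.simple j ∈ coxPar cs {i, j, k} := simple_mem_coxPar cs (by simp)
  have hk : cs.simple k ∈ coxPar cs {i, j, k} := simple_mem_coxPar cs (by simp)
  obtain hr | hr | hr : r = i ∨ r = j ∨ r = k := hr
  all_goals rw [hr]; rcases h.jk with e | e
  · refine ⟨_, mul_mem hj hk, ?_⟩
    simpa only [mul_assoc, inv_simple, mul_inv_rev, h.ki, h.ki', h.jij, h.jij', mf_kjk e, mf_kjk' e,
      h.kjik e, h.kjik' e] using h.mfP_A (cs := cs) e
  · refine ⟨_, mul_mem hj (mul_mem hk hj), ?_⟩
    simpa only [mul_assoc, inv_simple, mul_inv_rev, h.ki, h.ki', h.jij, h.jij', mf_kjkj e,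
      mf_kjkj' e, h.six e, h.six' e] using h.mfP_B2 (cs := cs) e
  · refine ⟨_, mul_mem hk hi, ?_⟩
    simpa only [mul_assoc, inv_simple, mul_inv_rev, h.ki, h.ki', h.jij, h.jij', mf_kjk e, mf_kjk' e,
      h.kjik e, h.kjik' e] using h.mfP_A (cs := cs) e
  · refine ⟨_, mul_mem hi (mul_mem hk hj), ?_⟩
    simpa only [mul_assoc, inv_simple, mul_inv_rev, h.ki, h.ki'] using h.mfP_B2 (cs := cs) e
  · refine ⟨_, mul_mem hj hi, ?_⟩
    simpa only [mul_assoc, inv_simple, mul_inv_rev] using h.mfP_A (cs := cs) e
  · refine ⟨_, mul_mem hj hi, ?_⟩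
    simpa only [mul_assoc, inv_simple, mul_inv_rev] using h.mfP_B1 (cs := cs) e

end Cfsg.Agent.Bld
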