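import Mathlib
import Cfsg.Agent.Bld.Ext
import Cfsg.Agent.Bld.Root
import Cfsg.Agent.Bld.CoxRep
import Cfsg.Agent.Bld.Mouf3X

/-! Buildings of type `A₃` and `B₃` are Moufang. -/

set_option autoImplicit false

namespace Cfsg.Agent.Bld.Bd

open Cfsg.Agent.Chev CoxeterSystem

variable {B W : Type*} [Group W] {M : CoxeterMatrix B} {cs : CoxeterSystem M W} [Sph cs] [Finite W]
  {K K' J L : Set B} {C C' : Type*} {X : Bd cs K C} {i j k : B} {a b : W → C} {a' : W → C'}

omit [Sph cs] [Finite W] in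
/-- A coset of `W_J` which does not meet the wall lies on one side of it. -/
theorem mf_side {r : B} {y : W} (hy : ¬ cs.IsLeftDescent y r)
    (h : y⁻¹ * cs.simple r * y ∉ coxPar cs J) {w : W} (hw : w ∈ coxPar cs J) :
    ¬ cs.IsLeftDescent (y * w) r := by
  refine coxPar_induction_right cs (p := fun w => ¬ cs.IsLeftDescent (y * w) r) (by simpa using hy)
    (fun w hw l hl _ ih h1 => h ?_) hw
  have h2 := simple_mul_eq_mul_simple cs ih (mul_assoc y w _ ▸ h1)
  have h3 : y⁻¹ * cs.simple r * y = w * cs.simple l * w⁻¹ := by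
    rw [eq_mul_inv_iff_mul_eq, mul_assoc, mul_assoc, h2]; group
  rw [h3]
  exact mul_mem (mul_mem hw (simple_mem_coxPar cs hl)) (inv_mem hw)

omit [Sph cs] in
theorem mf_opp_side {r : B} (hr : r ∈ K) {y : W} (hy : y ∈ coxPar cs K)
    (h : cs.IsLeftDescent y r) : ¬ cs.IsLeftDescent (y * wl cs K) r := by
  have h1 := len_mul_wl cs hy
  have h2 := len_mul_wl cs (mul_mem (simple_mem_coxPar cs hr) hy)
  rw [IsLeftDescent] at h ⊢
  rw [← mul_assoc]
  omega

/-- `F` fixes pointwise a panel of the apartment `a` on the wall of the reflection `t`. -/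
def MfGood (X : Bd cs K C) (a : W → C) (F : C → C) (t : W) : Prop :=
  ∃ y ∈ coxPar cs K, ∃ l ∈ K, y * cs.simple l * y⁻¹ = t ∧ X.FixP F l (a y)

omit [Finite W] in
theorem MfGood.fixP {F : C → C} (hF : ∀ x y, X.δ (F x) (F y) = X.δ x y) (ha : X.IsApt K a) {y : W}
    (hy : y ∈ coxPar cs K) {l : B} (h : X.MfGood a F (y * cs.simple l * y⁻¹))
    (h1 : F (a y) = a y) : X.FixP F l (a y) := by
  obtain ⟨z, hz, m, -, h2, h3⟩ := h
  refine par_eq (X := X) (X' := X) (S := Set.univ) (f := F) (g := id) (j := m) (c := a z)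
    (fun x _ y _ => hF x y) (fun _ _ _ _ => rfl) (Set.subset_univ _) (Set.subset_univ _) ?_ h3 h1
  rw [ha z hz y hy]
  calc cs.simple m * (z⁻¹ * y) = z⁻¹ * (z * cs.simple m * z⁻¹) * y := by group
    _ = z⁻¹ * y * cs.simple l := by rw [h2]; group

theorem mf_vert0 {F : C → C} (hF : ∀ x y, X.δ (F x) (F y) = X.δ x y) (ha : X.IsApt K a) {r : B}
    (h0 : ∀ v ∈ coxPar cs K, ¬ cs.IsLeftDescent v r → F (a v) = a v) (hJ : J ⊆ K) {y : W}
    (hy : y ∈ coxPar cs K) (hd : ¬ cs.IsLeftDescent y r)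
    (h : y⁻¹ * cs.simple r * y ∉ coxPar cs J)
    (h1 : ∀ l ∈ J, X.MfGood a F (y * cs.simple l * y⁻¹)) {w : W} (hw : w ∈ coxPar cs J) {l : B}
    (hl : l ∈ J) : X.MfGood a F (y * w * cs.simple l * (y * w)⁻¹) := by
  have h2 : ∀ w ∈ coxPar cs J, X.δ (a y) (a (y * w)) = w := fun w hw => by
    rw [ha y hy _ (mul_mem hy (coxPar_mono cs hJ hw))]; group
  have h3 := rigid (X := X) (X' := X) (f := F) (g := id) hJ (fun x _ y _ => hF x y)
    (fun _ _ _ _ => rfl) (fun p hp => (h1 p hp).fixP hF ha hy (h0 y hy hd)) (h0 y hy hd)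
    (h2 _ (wl_mem cs J))
    (h0 _ (mul_mem hy (coxPar_mono cs hJ (wl_mem cs J))) (mf_side hd h (wl_mem cs J)))
  refine ⟨y * w, mul_mem hy (coxPar_mono cs hJ hw), l, hJ hl, rfl, fun x hx => h3 ?_⟩
  exact X.res_trans (show X.δ (a y) (a (y * w)) ∈ _ by rwa [h2 w hw])
    (res_mono (by simpa using hl) _ hx)

theorem mf_vert {F : C → C} (hF : ∀ x y, X.δ (F x) (F y) = X.δ x y) (ha : X.IsApt K a) {r : B}
    (hr : r ∈ K) (h0 : ∀ v ∈ coxPar cs K, ¬ cs.IsLeftDescent v r → F (a v) = a v) (hJ : J ⊆ K)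
    {y : W} (hy : y ∈ coxPar cs K) (h : y⁻¹ * cs.simple r * y ∉ coxPar cs J)
    (h1 : ∀ l ∈ J, X.MfGood a F (y * cs.simple l * y⁻¹)) {w : W} (hw : w ∈ coxPar cs J) {l : B}
    (hl : l ∈ J) : X.MfGood a F (y * w * cs.simple l * (y * w)⁻¹) := by
  by_cases hd : cs.IsLeftDescent y r
  · have h2 := mf_vert0 hF ha h0 (opp_image_subset cs hJ) (mul_mem hy (wl_mem cs K))
      (mf_opp_side hr hy hd) (fun h2 => h ?_) ?_ (conj_mem_par cs hJ hw)
      (Set.mem_image_of_mem _ hl)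
    · simpa [simple_opp cs (hJ hl), mul_assoc] using h2
    · have h3 := conj_mem_par cs (opp_image_subset cs hJ) h2
      rw [opp_image_image] at h3
      simpa [mul_assoc] using h3
    · rintro _ ⟨p, hp, rfl⟩
      simpa [simple_opp cs (hJ hp), mul_assoc] using h1 p hp
  · exact mf_vert0 hF ha h0 hJ hy hd h h1 hw hl

/-- An apartment through a given chamber of the panel which contains the root. -/
theorem mf_apt (ha : X.IsApt K a) {r : B} (hr : r ∈ K) {x : C} (hx : X.δ (a 1) x = cs.simple r) :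
    ∃ b, X.IsApt K b ∧ b (cs.simple r) = x ∧
      ∀ v ∈ coxPar cs K, ¬ cs.IsLeftDescent v r → b v = a v := by
  have hs := simple_mem_coxPar cs hr
  have h1 : ∀ v ∈ coxPar cs K, ¬ cs.IsLeftDescent v r → X.δ x (a v) = cs.simple r * v :=
    fun v hv hd => by
      have h2 : X.δ (a 1) (a v) = v := by simpa using ha 1 (one_mem _) v hv
      rcases step_left (a v) (adj_symm hx) with h3 | h3
      · rw [h3, h2]
      · exact absurd (h2 ▸ h3.2) hd
  have hw := mul_mem hs (wl_mem cs K)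
  have h2 : X.δ x (a (cs.simple r * wl cs K)) = wl cs K := by
    rw [h1 _ hw (mf_opp_side hr hs (by simp [isLeftDescent_iff])), simple_mul_simple_cancel_left]
  obtain ⟨b, hb, h3, h4⟩ := exists_apt subset_rfl h2
  refine ⟨sh b (cs.simple r), hb.sh hs, by simpa using h3, fun v hv hd => ?_⟩
  have hv' := mul_mem hs hv
  refine mid_unique (c := x) (e := a (cs.simple r * wl cs K)) ?_ ?_ (h1 v hv hd) ?_ (len_mid hv')
  · rw [← h3, sh_apply, hb 1 (one_mem _) _ hv']; simp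
  · rw [← h4, sh_apply, hb _ hv' _ (wl_mem cs K)]
  · rw [ha v hv _ hw]; simp [mul_assoc]

theorem mouf_of_mfP (hM : NoTri M K)
    (H : ∀ r ∈ K, ∃ u ∈ coxPar cs K, MfP cs K (u⁻¹ * cs.simple r * u)) (X : Bd cs K C) :
    X.Mouf := by
  intro a ha r hr x hx
  obtain ⟨u, hu, hd, hP⟩ : ∃ u ∈ coxPar cs K, ¬ cs.IsLeftDescent u r ∧
      MfP cs K (u⁻¹ * cs.simple r * u) := by
    obtain ⟨u, hu, hP⟩ := H r hr
    by_cases hd : cs.IsLeftDescent u r
    · exact ⟨_, mul_mem (simple_mem_coxPar cs hr) hu,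
        cs.isLeftDescent_iff_not_isLeftDescent_mul.1 hd, by simpa [mul_assoc] using hP⟩
    · exact ⟨u, hu, hd, hP⟩
  obtain ⟨b, hb, h1, h2⟩ := mf_apt ha hr hx
  have hs : ∀ p ∈ K, ∀ q ∈ K, ({p, q} : Set B) ⊆ K := fun p hp q hq => Set.pair_subset hp hq
  have h3 : sh a u 1 = sh b u 1 := by simpa using (h2 u hu hd).symm
  obtain ⟨F, hF, h4, h5⟩ := extension (X := X) (X' := X) (φ := id) hM (ha.sh hu) (hb.sh hu) h3
    fun p hp q hq => ⟨⟨h3, fun _ _ _ _ => rfl, fun y hy => ⟨y, h3 ▸ hy, rfl⟩⟩, fun w hw =>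
      (h2 _ (mul_mem hu (coxPar_mono cs (hs p hp q hq) hw)) (mf_side hd (hP.nm p hp q hq) hw)).symm⟩
  have h6 : ∀ v ∈ coxPar cs K, F (a v) = b v := fun v hv => by
    simpa using h5 _ (mul_mem (inv_mem hu) hv)
  have h0 : ∀ v ∈ coxPar cs K, ¬ cs.IsLeftDescent v r → F (a v) = a v := fun v hv hd =>
    (h6 v hv).trans (h2 v hv hd)
  have h7 := hP.cl (fun t => X.MfGood a F (u * t * u⁻¹)) (fun p hp q hq w hw => ?_)
    (fun v hv p hp q hq h7 h8 h9 w hw => ?_)
  · refine ⟨F, ⟨hF, fun v hv hd' => ⟨h0 v hv hd', fun t ht h8 => ?_⟩⟩,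
      (h6 _ (simple_mem_coxPar cs hr)).trans h1⟩
    refine MfGood.fixP hF ha hv ?_ (h0 v hv hd')
    have h9 := h7 _ (mul_mem (inv_mem hu) hv) t ht fun e => ?_
    · simpa [mul_assoc] using h9
    · have h10 : v * cs.simple t = cs.simple r * v := by
        calc v * cs.simple t = u * (u⁻¹ * v * cs.simple t * (u⁻¹ * v)⁻¹) * u⁻¹ * v := by group
          _ = cs.simple r * v := by rw [e]; group
      rw [h10] at h8
      exact hd' (cs.isLeftDescent_iff_not_isLeftDescent_mul.2 h8)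
  · have hw' := coxPar_mono cs (hs p hp q hq) hw
    refine ⟨u * w, mul_mem hu hw', p, hp, by group, fun y hy => h4 p hp q hq ?_⟩
    exact X.res_trans (((ha.sh hu).mono (hs p hp q hq)).mem_res hw) (res_mono (by simp) _ hy)
  · have h10 := mf_vert hF ha hr h0 (hs p hp q hq) (mul_mem hu hv) (by simpa [mul_assoc] using h7)
      (by rintro l (rfl | rfl)
          · simpa [mul_assoc] using h8
          · simpa [mul_assoc] using h9) hw (l := q) (by simp)
    simpa [mul_assoc] using h10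

set_option linter.unusedVariables false in
/-- Buildings of type `A₃` and `B₃` are Moufang. -/
theorem mouf_three [Finite B] (hF : FH M) (h : Rk3 M i j k) (X : Bd cs {i, j, k} C) : X.Mouf :=
  mouf_of_mfP h.noTri (fun _ hr => h.exists_mfP hr) X

end Cfsg.Agent.Bld.Bd
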