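import Mathlib
import Cfsg.Agent.Bld.Edge
import Cfsg.Agent.Bld.Mouf3

/-! Residues of rank three, and gluing along the tree. -/

set_option autoImplicit false
set_option linter.unusedSectionVars false

namespace Cfsg.Agent.Bld.Bd

open Cfsg.Agent.Chev CoxeterSystem

variable {B W : Type*} [Group W] {M : CoxeterMatrix B} {cs : CoxeterSystem M W} [Sph cs] [Finite W]
  {K K' J L : Set B} {C C' : Type*} {X : Bd cs K C} {i j k : B} {a b : W → C} {a' : W → C'}

namespace Glue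

variable {X' : Bd cs K C'} {c : C} {c' : C'}

theorem mem_res_res (hL : L ⊆ K) {x y : X.Res L c} :
    x ∈ (X.res hL c).Res J y ↔ (x : C) ∈ X.Res J y := Iff.rfl

theorem res_sub (hJ : J ⊆ L) (y : X.Res L c) {x : C} (hx : x ∈ X.Res J y) : x ∈ X.Res L c :=
  X.res_trans y.2 (res_mono hJ _ hx)

theorem par_res (hL : L ⊆ K) (hi : i ∈ L) (y : X.Res L c) : (X.res hL c).par i y = X.par i y := by
  rw [par, par, ← Set.ncard_image_of_injective _ Subtype.val_injective]
  congr 1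
  ext x
  exact ⟨by rintro ⟨x, h, rfl⟩; exact h, fun h => ⟨⟨x, X.mem_res_of_adj y.2 hi h⟩, h, rfl⟩⟩

theorem isoOn_iff (hL : L ⊆ K) (hJ : J ⊆ L) (y : X.Res L c) {φ : C → C'}
    {ψ : X.Res L c → X'.Res L c'} (h : ∀ x : X.Res L c, x.1 ∈ X.Res J y → (ψ x : C') = φ x) :
    (X.res hL c).IsoOn (X'.res hL c') ((X.res hL c).Res J y) ψ ↔ X.IsoOn X' (X.Res J y) φ := by
  refine ⟨fun H x hx z hz => ?_, fun H x hx z hz => ?_⟩
  · have := H ⟨x, res_sub hJ y hx⟩ hx ⟨z, res_sub hJ y hz⟩ hz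
    rwa [res_δ, res_δ, h _ hx, h _ hz] at this
  · rw [res_δ, res_δ, h _ hx, h _ hz]
    exact H _ hx _ hz

theorem isoA_iff (hL : L ⊆ K) (hJ : J ⊆ L) {d : W → X.Res L c} {d' : W → X'.Res L c'}
    (hd : ∀ w ∈ coxPar cs J, (d w : C) = a w) (hd' : ∀ w ∈ coxPar cs J, (d' w : C') = a' w)
    {φ : C → C'} {ψ : X.Res L c → X'.Res L c'}
    (h : ∀ x : X.Res L c, x.1 ∈ X.Res J (a 1) → (ψ x : C') = φ x) (ha : X.IsApt J a) :
    (X.res hL c).IsoA (X'.res hL c') J d d' ψ ↔ X.IsoA X' J a a' φ := by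
  have e := hd 1 (one_mem _)
  have e' := hd' 1 (one_mem _)
  have h1 : ∀ w ∈ coxPar cs J, (ψ (d w) = d' w ↔ φ (a w) = a' w) := fun w hw => by
    rw [← Subtype.val_inj, h _ (by rw [hd w hw]; exact ha.mem_res hw), hd w hw, hd' w hw]
  have h2 := isoOn_iff hL hJ (d 1) (φ := φ) (ψ := ψ) (by rwa [e])
  rw [e] at h2
  refine ⟨fun H => ⟨⟨(h1 1 (one_mem _)).1 H.1.base, h2.1 H.1.iso, fun x' hx' => ?_⟩,
    fun w hw => (h1 w hw).1 (H.2 w hw)⟩, fun H => ⟨⟨(h1 1 (one_mem _)).2 H.1.base, h2.2 H.1.iso,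
    fun x' hx' => ?_⟩, fun w hw => (h1 w hw).2 (H.2 w hw)⟩⟩
  · rw [← e'] at hx'
    obtain ⟨x, hx, e1⟩ := H.1.surj ⟨x', res_sub hJ _ hx'⟩ hx'
    rw [mem_res_res, e] at hx
    exact ⟨x, hx, (h x hx).symm.trans (congrArg Subtype.val e1)⟩
  · rw [mem_res_res, e'] at hx'
    obtain ⟨x, hx, e1⟩ := H.1.surj x' hx'
    have hx1 : x ∈ X.Res J (d 1) := by rwa [e]
    exact ⟨⟨x, res_sub hJ _ hx1⟩, hx1, Subtype.ext ((h _ hx).trans e1)⟩

theorem elt_iff (hL : L ⊆ K) (hJ : J ⊆ L) {d : W → X.Res L c}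
    (hd : ∀ w ∈ coxPar cs J, (d w : C) = a w) {g : C → C} {g' : X.Res L c → X.Res L c}
    (h : ∀ x : X.Res L c, x.1 ∈ X.Res J (a 1) → (g' x : C) = g x) (ha : X.IsApt J a) :
    (X.res hL c).Elt J d i g' ↔ X.Elt J a i g := by
  have e := hd 1 (one_mem _)
  have h2 := isoOn_iff hL hJ (d 1) (φ := g) (ψ := g') (by rwa [e])
  rw [e] at h2
  refine and_congr h2 (forall₃_congr fun v hv _ => and_congr ?_ (forall₃_congr fun t ht _ => ?_))
  · rw [← Subtype.val_inj, h _ (by rw [hd v hv]; exact ha.mem_res hv), hd v hv]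
  · have hs : ∀ x ∈ X.Res {t} (a v), x ∈ X.Res J (a 1) := fun x hx =>
      X.res_trans (ha.mem_res hv) (res_mono (Set.singleton_subset_iff.2 ht) _ hx)
    refine ⟨fun H x hx => ?_, fun H x hx => ?_⟩
    · have hx1 : x ∈ X.Res {t} (d v) := by rwa [hd v hv]
      have := H ⟨x, res_sub (Set.singleton_subset_iff.2 (hJ ht)) _ hx1⟩ hx1
      exact (h _ (hs x hx)).symm.trans (congrArg Subtype.val this)
    · rw [mem_res_res, hd v hv] at hx
      exact Subtype.ext ((h _ (hs x hx)).trans (H x hx))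

theorem elt_mem {g : C → C} (hg : X.Elt J a i g) {x : C} (hx : x ∈ X.Res J (a 1)) :
    g x ∈ X.Res J (a 1) := by
  have := hg.1.mem_res (X.self_mem_res J _) hx hx
  rwa [(hg.2 1 (one_mem _) (cs.not_isLeftDescent_one i)).1] at this

theorem toRes_coe (x : X.Res L c) : X.toRes L c x = x := Subtype.ext (X.coe_toRes x.2)

theorem kind_iff (hL : L ⊆ K) (hJ : {j, k} ⊆ L) {d : W → X.Res L c}
    (hd : ∀ w ∈ coxPar cs {j, k}, (d w : C) = a w) (ha : X.IsApt {j, k} a) :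
    (X.res hL c).Kind j k d ↔ X.Kind j k a := by
  have hw : cs.simple j * cs.simple k ∈ coxPar cs {j, k} :=
    mul_mem (simple_mem_coxPar cs (by simp)) (simple_mem_coxPar cs (by simp))
  have hd2 : ∀ w ∈ coxPar cs {j, k}, ((sh d (cs.simple j * cs.simple k) w :) : C) =
      sh a (cs.simple j * cs.simple k) w := fun w h => hd _ (mul_mem hw h)
  have e := hd 1 (one_mem _)
  have er : X.Res {j, k} (sh a (cs.simple j * cs.simple k) 1) = X.Res {j, k} (a 1) := by
    rw [sh_apply, mul_one]; exact res_eq (ha.mem_res hw)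
  have hs : ∀ x ∈ X.Res {j, k} (a 1), x ∈ X.Res L c := fun x hx => res_sub hJ (d 1) (by rwa [e])
  refine ⟨fun H g h hg hh x hx => ?_, fun H g h hg hh x hx => ?_⟩
  · have m1 : ∀ x ∈ X.Res {j, k} (a 1), g x ∈ X.Res {j, k} (a 1) := fun x => elt_mem hg
    have m2 : ∀ x ∈ X.Res {j, k} (a 1), h x ∈ X.Res {j, k} (a 1) := fun x hx =>
      er ▸ elt_mem hh (er ▸ hx)
    have := congrArg Subtype.val (H (fun x => X.toRes L c (g x)) (fun x => X.toRes L c (h x))
      ((elt_iff hL hJ hd (fun x hx => X.coe_toRes (hs _ (m1 _ hx))) ha).2 hg)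
      ((elt_iff hL hJ hd2 (fun x hx => X.coe_toRes (hs _ (m2 _ (er ▸ hx)))) (ha.sh hw)).2 hh)
      ⟨x, hs x hx⟩ (by rwa [mem_res_res, e]))
    rwa [X.coe_toRes (hs _ (m2 _ hx)), X.coe_toRes (hs _ (m1 _ hx)),
      X.coe_toRes (hs _ (m1 _ (m2 _ hx))), X.coe_toRes (hs _ (m2 _ (m1 _ hx)))] at this
  · have := H (fun x => g (X.toRes L c x)) (fun x => h (X.toRes L c x))
      ((elt_iff hL hJ hd (fun x _ => by rw [toRes_coe]) ha).1 hg)
      ((elt_iff hL hJ hd2 (fun x _ => by rw [toRes_coe]) (ha.sh hw)).1 hh)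
      x (by rwa [mem_res_res, e] at hx)
    simp only [toRes_coe] at this
    exact Subtype.ext this

/-- The apartment of the residue. -/
noncomputable def ra (X : Bd cs K C) (L : Set B) (a : W → C) : W → X.Res L (a 1) :=
  fun w => X.toRes L (a 1) (a w)

theorem ra_apt (hL : L ⊆ K) (ha : X.IsApt K a) : (X.res hL (a 1)).IsApt L (ra X L a) :=
  (ha.mono hL).res hL

theorem ra_coe (hL : L ⊆ K) (hJ : J ⊆ L) (ha : X.IsApt K a) :
    ∀ w ∈ coxPar cs J, (ra X L a w : C) = a w := fun _ hw =>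
  X.coe_toRes (res_mono hJ _ ((ha.mono (hJ.trans hL)).mem_res hw))

theorem ra_one : (ra X L a 1 : C) = a 1 := X.coe_toRes (X.self_mem_res _ _)

theorem par_ra (hL : L ⊆ K) (hi : i ∈ L) :
    (X.res hL (a 1)).par i (ra X L a 1) = X.par i (a 1) := by rw [par_res hL hi, ra_one]

theorem kind_ra (hL : L ⊆ K) (hJ : {j, k} ⊆ L) (ha : X.IsApt K a) :
    (X.res hL (a 1)).Kind j k (ra X L a) ↔ X.Kind j k a :=
  kind_iff hL hJ (ra_coe hL hJ ha) (ha.mono (hJ.trans hL))

theorem isoA_down (hL : L ⊆ K) (hJ : J ⊆ L) (ha : X.IsApt K a) (ha' : X'.IsApt K a')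
    {ψ : X.Res L (a 1) → X'.Res L (a' 1)}
    (h : (X.res hL (a 1)).IsoA (X'.res hL (a' 1)) J (ra X L a) (ra X' L a') ψ) :
    X.IsoA X' J a a' fun x => ψ (X.toRes L (a 1) x) :=
  (isoA_iff hL hJ (ra_coe hL hJ ha) (ra_coe hL hJ ha') (fun x _ => by rw [toRes_coe])
    (ha.mono (hJ.trans hL))).1 h

theorem isoA_up (hL : L ⊆ K) (hJ : J ⊆ L) (ha : X.IsApt K a) (ha' : X'.IsApt K a')
    {φ : C → C'} (h : X.IsoA X' J a a' φ) :
    (X.res hL (a 1)).IsoA (X'.res hL (a' 1)) J (ra X L a) (ra X' L a')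
      fun x => X'.toRes L (a' 1) (φ x) :=
  (isoA_iff hL hJ (ra_coe hL hJ ha) (ra_coe hL hJ ha')
    (fun _ hx => X'.coe_toRes (res_mono hJ _ (h.1.mem hx))) (ha.mono (hJ.trans hL))).2 h

theorem noIso (h : Rk3 M i j k) : NoIso M {i, j, k} := by
  rintro t (rfl | rfl | rfl)
  · exact ⟨j, by simp, h.ij.ge⟩
  · exact ⟨i, by simp, by rw [M.symmetric, h.ij]⟩
  · exact ⟨j, by simp, by rw [M.symmetric]; rcases h.jk with e | e <;> omega⟩

theorem isoA_mono {φ : C → C'} (h : X.IsoA X' L a a' φ) (hJ : J ⊆ L) : X.IsoA X' J a a' φ :=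
  ⟨h.1.mono hJ, fun w hw => h.2 w (coxPar_mono cs hJ hw)⟩

theorem isoA_congr {φ ψ : C → C'} (h : X.IsoA X' J a a' φ) (ha : X.IsApt J a)
    (e : Set.EqOn ψ φ (X.Res J (a 1))) : X.IsoA X' J a a' ψ :=
  ⟨⟨(e (X.self_mem_res _ _)).trans h.1.base, fun x hx y hy => by
    rw [e hx, e hy]; exact h.1.iso x hx y hy, fun x' hx' => by
      obtain ⟨x, hx, e1⟩ := h.1.surj x' hx'
      exact ⟨x, hx, (e hx).trans e1⟩⟩, fun w hw => (e (ha.mem_res hw)).trans (h.2 w hw)⟩

section Grow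

variable {ρ : B → ℕ}

theorem grow_ne (h : Grow M j k ρ) {t : B} (ht : 2 ≤ ρ t) : t ≠ j ∧ t ≠ k :=
  ⟨fun e => by rw [e, h.zero] at ht; omega, fun e => by rw [e, h.one] at ht; omega⟩

theorem grow_lt (h : Grow M j k ρ) {t u : B} (hu : ρ u < ρ t) : M t u = 2 ∨ M t u = 3 ∨ M t u = 4 := by
  by_cases ht : 2 ≤ ρ t
  · obtain ⟨j', g, -, -, h1, -, h2⟩ := h.step t (grow_ne h ht).1 (grow_ne h ht).2
    by_cases e : u = j'
    · exact .inr (.inl (e ▸ h1))
    · exact .inl (h2 u hu e)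
  · rw [h.inj (show ρ t = ρ k by rw [h.one]; omega), h.inj (show ρ u = ρ j by rw [h.zero]; omega),
      M.symmetric]
    exact .inr h.edge

theorem grow_le (h : Grow M j k ρ) {t u : B} (hu : t ≠ u) : M t u = 2 ∨ M t u = 3 ∨ M t u = 4 := by
  rcases lt_or_gt_of_ne (h.inj.ne hu) with e | e
  · rw [M.symmetric]; exact grow_lt h e
  · exact grow_lt h e

theorem grow_tri (h : Grow M j k ρ) {t u v : B} (hu : ρ u < ρ t) (hv : ρ v < ρ t) (e : u ≠ v) :
    M t u = 2 ∨ M t v = 2 := by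
  have := h.inj.ne e
  have ht : 2 ≤ ρ t := by omega
  obtain ⟨j', g, -, -, -, -, h2⟩ := h.step t (grow_ne h ht).1 (grow_ne h ht).2
  by_cases e' : u = j'
  · exact .inr (h2 v hv fun e'' => e (e'.trans e''.symm))
  · exact .inl (h2 u hu e')

theorem grow_fh (h : Grow M j k ρ) : FH M := fun _ _ e => by
  rcases grow_le h e with e | e | e <;> simp [e]

theorem grow_noTri (h : Grow M j k ρ) : NoTri M Set.univ where
  le _ _ _ _ e := grow_le h e
  tri t _ u _ v _ e1 e2 e3 := by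
    have n1 := h.inj.ne e1
    have n2 := h.inj.ne e2
    have n3 := h.inj.ne e3
    by_cases c1 : ρ u < ρ t ∧ ρ v < ρ t
    · have := grow_tri h c1.1 c1.2 e2
      tauto
    by_cases c2 : ρ t < ρ u ∧ ρ v < ρ u
    · have := grow_tri h c2.1 c2.2 e3
      rw [M.symmetric u t] at this
      tauto
    · have := grow_tri h (t := v) (u := t) (v := u) (by omega) (by omega) e1
      rw [M.symmetric v t, M.symmetric v u] at this
      tauto

end Grow

end Glue

open Glue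

variable [Finite B] [Finite C] [Finite C'] {X' : Bd cs K C'}

theorem tri_par (hF : FH M) (h : Rk3 M i j k) (hs : {i, j, k} ⊆ K) (ha : X.IsApt K a) :
    IsPrimePow (X.par i (a 1)) := by
  rw [← par_ra hs (by simp)]
  exact (mouf_three hF h _).tri_par (noIso h) (ra_apt hs ha) (by simp) (by simp) h.ij

theorem tri_iso (hF : FH M) (h : Rk3 M i j k) (hs : {i, j, k} ⊆ K) (ha : X.IsApt K a)
    (ha' : X'.IsApt K a') (hp : X.par i (a 1) = X'.par i (a' 1)) :
    ∃ φ, X.IsoA X' {i, j} a a' φ := by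
  obtain ⟨φ, hφ⟩ := (mouf_three hF h _).tri_iso (mouf_three hF h _) (noIso h) (ra_apt hs ha)
    (ra_apt hs ha') (i := i) (j := j) (by simp) (by simp) h.ij
    (by rw [par_ra hs (by simp), par_ra hs (by simp), hp])
  exact ⟨_, isoA_down hs (by simp [Set.insert_subset_iff]) ha ha' hφ⟩

theorem quad_par (hF : FH M) (h : Rk3 M i j k) (h4 : M j k = 4) (hs : {i, j, k} ⊆ K)
    (ha : X.IsApt K a) :
    QPar (X.par j (a 1)) (X.par k (a 1)) (X.Kind j k a) (X.Kind k j a) := by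
  rw [← par_ra hs (i := j) (by simp), ← par_ra hs (i := k) (by simp),
    ← kind_ra hs (j := j) (by simp) ha,
    ← kind_ra hs (j := k) (by simp [Set.insert_subset_iff]) ha]
  exact (mouf_three hF h _).quad_par (noIso h) (ra_apt hs ha) (i := i) (by simp) (by simp) (by simp)
    h.ij h4 h.ik

theorem quad_iso (hF : FH M) (h : Rk3 M i j k) (h4 : M j k = 4) (hs : {i, j, k} ⊆ K)
    (ha : X.IsApt K a) (ha' : X'.IsApt K a') (hp : X.par j (a 1) = X'.par j (a' 1))
    (hq : X.par k (a 1) = X'.par k (a' 1)) (hh : X.Kind j k a ↔ X'.Kind j k a') :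
    ∃ φ, X.IsoA X' {j, k} a a' φ := by
  have hJ : ({j, k} : Set B) ⊆ {i, j, k} := Set.subset_insert _ _
  obtain ⟨φ, hφ⟩ := (mouf_three hF h _).quad_iso (mouf_three hF h _) (noIso h) (ra_apt hs ha)
    (ra_apt hs ha') (i := i) (j := j) (k := k) (by simp) (by simp) (by simp) h.ij h4 h.ik
    (by rw [par_ra hs (by simp), par_ra hs (by simp), hp])
    (by rw [par_ra hs (by simp), par_ra hs (by simp), hq])
    (by rw [kind_ra hs hJ ha, kind_ra hs hJ ha', hh])
  exact ⟨_, isoA_down hs hJ ha ha' hφ⟩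

namespace Glue

theorem tri_ext (hF : FH M) (h : Rk3 M i j k) (hs : {i, j, k} ⊆ K) (ha : X.IsApt K a)
    (ha' : X'.IsApt K a') {φ : C → C'} (hφ : X.IsoA X' {k, j} a a' φ) :
    ∃ ψ, X.IsoA X' {j, i} a a' ψ ∧ Set.EqOn ψ φ (X.Res {j} (a 1)) := by
  obtain ⟨ψ, h1, h2⟩ := (mouf_three hF h _).tri_ext (mouf_three hF h _) (noIso h) (ra_apt hs ha)
    (ra_apt hs ha') (i := k) (j := j) (k := i) (by simp) (by simp) (by simp)
    (by rcases h.jk with e | e <;> omega) (by rw [M.symmetric, h.ij])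
    (isoA_up hs (by simp [Set.insert_subset_iff]) ha ha' hφ)
  refine ⟨_, isoA_down hs (by simp [Set.insert_subset_iff]) ha ha' h1, fun x hx => ?_⟩
  have hx1 : x ∈ X.Res {i, j, k} (a 1) := res_mono (by simp) _ hx
  have := congrArg Subtype.val (h2 (x := X.toRes _ (a 1) x)
    (by rw [mem_res_res, X.coe_toRes hx1, ra_one]; exact hx))
  beta_reduce at this
  rw [X.coe_toRes hx1, X'.coe_toRes (res_mono (by simp [Set.insert_subset_iff]) _
    (hφ.1.mem (res_mono (by simp) _ hx)))] at this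
  exact this

/-- The panel maps `β` extend to the residue of type `J`. -/
def Ex (X : Bd cs K C) (X' : Bd cs K C') (a : W → C) (a' : W → C') (β : B → C → C') (J : Set B) :
    Prop := ∃ χ, X.IsoA X' J a a' χ ∧ ∀ t ∈ J, Set.EqOn χ (β t) (X.Res {t} (a 1))

theorem grow_ex {X : Bd cs Set.univ C} {X' : Bd cs Set.univ C'} {ρ : B → ℕ}
    (h : Grow M j k ρ) (ha : X.IsApt Set.univ a) (ha' : X'.IsApt Set.univ a') {φ : C → C'}
    (hφ : X.IsoA X' {j, k} a a' φ) (n : ℕ) :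
    ∃ β, ∀ t u, ρ t < n + 2 → ρ u < n + 2 → Ex X X' a a' β {t, u} := by
  classical
  induction n with
  | zero =>
    have H : ∀ t, ρ t < 0 + 2 → t ∈ ({j, k} : Set B) := fun t ht => by
      by_cases e : ρ t = 0
      · exact .inl (h.inj (e.trans h.zero.symm))
      · exact .inr (h.inj (show ρ t = ρ k by rw [h.one]; omega))
    exact ⟨fun _ => φ, fun t u ht hu => ⟨φ, isoA_mono hφ
      (Set.insert_subset (H t ht) (Set.singleton_subset_iff.2 (H u hu))), fun _ _ _ _ => rfl⟩⟩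
  | succ n ih =>
    obtain ⟨β, hβ⟩ := ih
    by_cases ht : ∃ t, ρ t = n + 2
    swap
    · simp only [not_exists] at ht
      exact ⟨β, fun t u h1 h2 => hβ t u (by have := ht t; omega) (by have := ht u; omega)⟩
    obtain ⟨t, ht⟩ := ht
    have hn := grow_ne h (t := t) (by omega)
    obtain ⟨l, g, h1, h2, h3, h4, h5⟩ := h.step t hn.1 hn.2
    rw [ht] at h1 h2 h5
    have hg : g ≠ l := fun e => by rw [e, M.diagonal] at h4; omega
    obtain ⟨χ, c1, c2⟩ := hβ g l h2 h1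
    obtain ⟨ψ, p1, p2⟩ := tri_ext (grow_fh h) (i := t) (j := l) (k := g)
      ⟨h3, by rwa [M.symmetric], h5 g h2 hg⟩ (Set.subset_univ _) ha ha' c1
    have hold : ∀ u, ρ u < n + 2 → Function.update β t ψ u = β u := fun u hu =>
      Function.update_of_ne (fun e => by rw [e] at hu; omega) _ _
    have hnew : ∀ u, ρ u < n + 2 → Ex X X' a a' (Function.update β t ψ) {t, u} := fun u hu => by
      by_cases e : u = l
      · refine ⟨ψ, by rw [e, Set.pair_comm]; exact p1, ?_⟩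
        rintro v (rfl | rfl)
        · rw [Function.update_self]; exact fun _ _ => rfl
        · rw [hold v hu, e]; exact p2.trans (c2 l (by simp))
      · obtain ⟨χ', d1, d2⟩ := hβ u u hu hu
        obtain ⟨ξ, x1, x2, x3⟩ := isoA_two (Set.mem_univ t) (Set.mem_univ u) (Set.mem_univ t)
          (Set.mem_univ u) (h5 u hu e) (ha.mono (Set.subset_univ _)) (ha'.mono (Set.subset_univ _))
          (isoA_mono p1 (by simp)) (isoA_mono d1 (by simp))
        refine ⟨ξ, x1, ?_⟩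
        rintro v (rfl | rfl)
        · rwa [Function.update_self]
        · rw [hold v hu]; exact x3.trans (d2 v (by simp))
    refine ⟨Function.update β t ψ, fun u v hu hv => ?_⟩
    by_cases e1 : u = t
    · by_cases e2 : v = t
      · refine ⟨ψ, isoA_mono p1 (by simp [e1, e2]), ?_⟩
        intro w hw
        rw [show w = t by simpa [e1, e2] using hw, Function.update_self]
        exact fun _ _ => rfl
      · rw [e1]
        exact hnew v (by have := h.inj.ne e2; omega)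
    have hu' : ρ u < n + 2 := by have := h.inj.ne e1; omega
    by_cases e2 : v = t
    · rw [e2, Set.pair_comm]
      exact hnew u hu'
    have hv' : ρ v < n + 2 := by have := h.inj.ne e2; omega
    obtain ⟨χ', d1, d2⟩ := hβ u v hu' hv'
    refine ⟨χ', d1, fun w hw => ?_⟩
    rw [hold w (by rcases hw with rfl | rfl <;> assumption)]
    exact d2 w hw

end Glue

/-- An isomorphism of the residues at the first edge extends to an isomorphism of buildings. -/
theorem exists_iso {X : Bd cs Set.univ C} {X' : Bd cs Set.univ C'} {ρ : B → ℕ}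
    (h : Grow M j k ρ) (ha : X.IsApt Set.univ a) (ha' : X'.IsApt Set.univ a') {φ : C → C'}
    (hφ : X.IsoA X' {j, k} a a' φ) : ∃ F : C ≃ C', ∀ x y, X'.δ (F x) (F y) = X.δ x y := by
  classical
  obtain ⟨n, hn⟩ := (Set.finite_range ρ).bddAbove
  obtain ⟨β, hβ⟩ := grow_ex h ha ha' hφ n
  have hb : ∀ t, ρ t < n + 2 := fun t => by have := hn ⟨t, rfl⟩; omega
  choose χ c1 c2 using fun p : B × B => hβ p.1 p.2 (hb _) (hb _)
  have key : ∀ p q : B × B, ∀ x ∈ X.Res {p.1, p.2} (a 1), x ∈ X.Res {q.1, q.2} (a 1) →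
      χ p x = χ q x := fun p q x hx hx' => by
    have d1 := isoA_mono (c1 p) (Set.inter_subset_left (t := {q.1, q.2}))
    have d2 := isoA_mono (c1 q) (Set.inter_subset_right (s := {p.1, p.2}))
    refine rigid (Set.subset_univ _) d1.1.iso d2.1.iso
      (fun t ht => (c2 p t ht.1).trans (c2 q t ht.2).symm) (d1.1.base.trans d2.1.base.symm)
      (d := a (wl cs _)) (by rw [ha 1 (one_mem _) _ (coxPar_mono cs (Set.subset_univ _) (wl_mem cs _)),
        inv_one, one_mul])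
      ((d1.2 _ (wl_mem cs _)).trans (d2.2 _ (wl_mem cs _)).symm) ?_
    rw [← res_inter]
    exact ⟨hx, hx'⟩
  let Φ : C → C' := fun x =>
    if e : ∃ p : B × B, x ∈ X.Res {p.1, p.2} (a 1) then χ e.choose x else a' 1
  have hΦ : ∀ p : B × B, Set.EqOn Φ (χ p) (X.Res {p.1, p.2} (a 1)) := fun p x hx => by
    have e : ∃ p : B × B, x ∈ X.Res {p.1, p.2} (a 1) := ⟨p, hx⟩
    simp only [Φ, dif_pos e]
    exact key _ _ x e.choose_spec hx
  have hI : ∀ t u, X.IsoA X' {t, u} a a' Φ := fun t u =>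
    isoA_congr (c1 (t, u)) (ha.mono (Set.subset_univ _)) (hΦ (t, u))
  obtain ⟨F, hF, -⟩ := extension (grow_noTri h) ha ha' (hI j k).1.base fun t _ u _ => hI t u
  exact ⟨F, hF⟩

end Cfsg.Agent.Bld.Bd
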