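import Mathlib
import Cfsg.Agent.Bld.KD
import Cfsg.Agent.Chev.ChevLie
import Cfsg.Agent.Chev.TwLie
import Cfsg.Agent.Chev.WeylCox
import Cfsg.Agent.S1054
import Cfsg.Agent.S1070

/-! The root data of the exceptional groups of rank at least three (for S1143). -/

set_option autoImplicit false

namespace Cfsg.Agent.Bld

open Cfsg.Agent.Chev Cfsg.Lie Cfsg.Lie.ChevalleyDatum

namespace KnownEx

theorem exists_field {q : ℕ} (hq : IsPrimePow q) {n : ℕ} (hn : n ≠ 0) :
    ∃ (F : Type) (_ : Field F) (_ : Fintype F) (p : ℕ) (_ : Fact p.Prime) (_ : CharP F p),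
      Fintype.card F = q ^ n := by
  obtain ⟨p, k, hp, hk, rfl⟩ := (isPrimePow_nat_iff q).1 hq
  haveI : Fact p.Prime := ⟨hp⟩
  letI : Fintype (GaloisField p (k * n)) := Fintype.ofFinite _
  exact ⟨GaloisField p (k * n), inferInstance, inferInstance, p, inferInstance, inferInstance, by
    rw [← Nat.card_eq_fintype_card, GaloisField.card p _ (Nat.mul_ne_zero hk.ne' hn), pow_mul]⟩

theorem kd_of {Γ : Type} [Group Γ] {Φ B : Type} [Finite Φ] (R : RootBN Γ Φ B) [Finite R.G] {p : ℕ}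
    [hp : Fact p.Prime] (hL : R.Lie p) {M : CoxeterMatrix B} {q : B → ℕ}
    (h1 : ∀ i j, orderOf (R.w (R.s i) * R.w (R.s j)) = M i j)
    (h2 : ∀ i, Nat.card (R.X (R.simple i)) = q i) : KD M q R.G := by
  have hπ : (MonoidHom.id R.G).ker ≤ Subgroup.center R.G := by
    rw [MonoidHom.ker_id]; exact bot_le
  exact ⟨Φ, inferInstance, RootBN.map hπ, p, hp.out, MonoidHom.range_eq_top.2 Function.surjective_id,
    hL.map hπ, fun i j => by rw [RootBN.map_w_s, RootBN.map_w_s, h1],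
    fun i => by rw [RootBN.card_map_X, RootBN.map_simple, h2]⟩

theorem kn_chev {q : ℕ} (hq : IsPrimePow q) (D : ChevalleyDatum) [D.Good]
    (hD : D ∈ [chevD4, chevF4, chevE6, chevE7, chevE8]) (M : CoxeterMatrix D.Nd)
    (hM : ∀ i j : D.Nd, i ≠ j → D.bonds i j ≤ 3 ∧ M i j = bondOrder (D.bonds i j))
    (hE : ∀ (X : Type) [Group X], D.IsGroupOver X → IsExceptionalLieType X) :
    ∃ (X : Type) (_ : Group X), Kn M (fun _ => q) X := by
  obtain ⟨F, _, _, p, _, _, hF⟩ := exists_field hq one_ne_zero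
  refine ⟨D.group F, inferInstance, inferInstance, (S1054.result D hD).1,
    .inr (.inr (.inr (.inr (.inr (.inr (hE _ ⟨F, inferInstance, inferInstance, ⟨.refl _⟩⟩)))))),
    kd_of (D.rootBN F) (D.rootBN_lie F p) (fun i j => ?_) fun i => ?_⟩
  · rw [rootBN_w, rootBN_w, rootBN_s, rootBN_s, D.wOf_nE F _ one_ne_zero, D.wOf_nE F _ one_ne_zero,
      refl_sr, refl_sr]
    by_cases h : i = j
    · subst h
      rw [sref_mul_self, M.diagonal, orderOf_one]
    · rw [D.orderOf_sref_mul h (hM i j h).1, (hM i j h).2]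
  · rw [rootBN_X, card_rootSubgroup, Nat.card_eq_fintype_card, hF, pow_one]

theorem relW_pow {Γ : Type*} [Group Γ] {Φ I J : Type*} {R : RootBN Γ Φ I} (T : R.Sub J) {n : Γ}
    (hn : n ∈ R.N ⊓ T.K) (k : ℕ) : T.relW (n ^ k) = T.relW n ^ k ∧ R.w (n ^ k) = R.w n ^ k := by
  induction k with
  | zero =>
    rw [pow_zero, pow_zero, pow_zero, R.w_one]
    exact ⟨mul_eq_left.1 ((RootBN.Sub.relW_mul (one_mem _) (one_mem _)).symm.trans (by rw [mul_one])),
      rfl⟩
  | succ k ih =>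
    rw [pow_succ, pow_succ, pow_succ, RootBN.Sub.relW_mul (pow_mem hn k) hn,
      R.w_mul (pow_mem hn k).1 hn.1, ih.1, ih.2]
    exact ⟨rfl, rfl⟩

theorem orderOf_relW {Γ : Type*} [Group Γ] {Φ I J : Type*} [Finite Φ] {R : RootBN Γ Φ I}
    (T : R.Sub J) (hc : ∀ i, ∃ j, i ∈ T.S j) {n : Γ} (hn : n ∈ R.N ⊓ T.K) :
    orderOf (T.relW n) = orderOf (R.w n) := by
  refine orderOf_eq_orderOf_iff.2 fun k => ?_
  have h0 := relW_pow T hn 0
  simp only [pow_zero] at h0
  rw [← (relW_pow T hn k).1, ← (relW_pow T hn k).2, ← h0.1, ← h0.2]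
  exact ⟨T.w_eq_of_relW hc (pow_mem hn k) (one_mem _),
    RootBN.Sub.relW_congr (pow_mem hn k) (one_mem _)⟩

end KnownEx

open KnownEx

variable {q : ℕ}

set_option backward.isDefEq.respectTransparency false in
theorem kn_E6 (hq : IsPrimePow q) :
    ∃ (X : Type) (_ : Group X), Kn CoxeterMatrix.E₆ (fun _ => q) X :=
  kn_chev hq chevE6 (by simp) CoxeterMatrix.E₆ (show ∀ i j : Fin 6, i ≠ j → chevE6.bonds i j ≤ 3 ∧
    CoxeterMatrix.E₆ i j = bondOrder (chevE6.bonds i j) by decide +kernel)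
    fun _ _ h => .inr (.inr (.inl h))

set_option backward.isDefEq.respectTransparency false in
theorem kn_E7 (hq : IsPrimePow q) :
    ∃ (X : Type) (_ : Group X), Kn CoxeterMatrix.E₇ (fun _ => q) X :=
  kn_chev hq chevE7 (by simp) CoxeterMatrix.E₇ (show ∀ i j : Fin 7, i ≠ j → chevE7.bonds i j ≤ 3 ∧
    CoxeterMatrix.E₇ i j = bondOrder (chevE7.bonds i j) by decide +kernel)
    fun _ _ h => .inr (.inr (.inr (.inl h)))

set_option backward.isDefEq.respectTransparency false in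
theorem kn_E8 (hq : IsPrimePow q) :
    ∃ (X : Type) (_ : Group X), Kn CoxeterMatrix.E₈ (fun _ => q) X :=
  kn_chev hq chevE8 (by simp) CoxeterMatrix.E₈ (show ∀ i j : Fin 8, i ≠ j → chevE8.bonds i j ≤ 3 ∧
    CoxeterMatrix.E₈ i j = bondOrder (chevE8.bonds i j) by decide +kernel)
    fun _ _ h => .inr (.inr (.inr (.inr (.inl h))))

set_option backward.isDefEq.respectTransparency false in
theorem kn_F4 (hq : IsPrimePow q) :
    ∃ (X : Type) (_ : Group X), Kn CoxeterMatrix.F₄ (fun _ => q) X :=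
  kn_chev hq chevF4 (by simp) CoxeterMatrix.F₄ (show ∀ i j : Fin 4, i ≠ j → chevF4.bonds i j ≤ 3 ∧
    CoxeterMatrix.F₄ i j = bondOrder (chevF4.bonds i j) by decide +kernel)
    fun _ _ h => .inr (.inl h)

theorem kn_2E6 (hq : IsPrimePow q) :
    ∃ (X : Type) (_ : Group X), Kn CoxeterMatrix.F₄ ![q, q, q ^ 2, q ^ 2] X := by
  obtain ⟨K, _, _, p, _, _, hK⟩ := exists_field hq two_ne_zero
  obtain ⟨f, hf⟩ := tw_exists_frob hq two_ne_zero hK
  have hG : ((twE6 f).sub.rel (twE6 f).cover_S).G = twistedE6 K q := twE6_G1 hK hf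
  refine ⟨((twE6 f).sub.rel (twE6 f).cover_S).G, inferInstance, inferInstance,
    hG ▸ (S1070.result hq hK).1,
    .inr (.inr (.inr (.inr (.inr (.inr (.inr (.inr (.inr (.inr (.inr (.inl
      ⟨K, inferInstance, inferInstance, q, hq, hK, ⟨MulEquiv.subgroupCongr hG⟩⟩))))))))))),
    kd_of _ (Twist.lie p (twE6 f) (twE6_irreducible f)) (fun i j => ?_) fun i => ?_⟩
  · have hi := RootBN.Sub.t_mem_NK (T := (twE6 f).sub) i
    have hj := RootBN.Sub.t_mem_NK (T := (twE6 f).sub) j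
    exact (congrArg orderOf (RootBN.Sub.relW_mul hi hj)).symm.trans
      ((orderOf_relW _ (twE6 f).cover_S (mul_mem hi hj)).trans
        ((congrArg orderOf (RootBN.w_mul _ hi.1 hj.1)).trans (twE6_order f i j)))
  · refine (congrArg (fun X : Subgroup _ => Nat.card X)
      (RootBN.Sub.rel_X_simple (twE6 f).sub (twE6 f).cover_S i)).trans
      (((twE6 f).card_US_G1 i).trans ((twE6_card_fixed hq hK hf i).trans ?_))
    rw [twE6_d]
    fin_cases i <;> simp

end Cfsg.Agent.Bld
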