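import Mathlib
import Cfsg.Agent.Bld.Glue
import Cfsg.Agent.Bld.End
import Cfsg.Agent.Bld.KnownCl
import Cfsg.Agent.Bld.KnownEx
import Cfsg.Agent.Bld.CoxCl

/-! Simple Weyl transitive groups on finite irreducible buildings of rank at least three. -/

set_option autoImplicit false

namespace Cfsg.Agent.Bld

open Cfsg.Agent.Chev CoxeterSystem Bd

theorem QPar.iff {q t : ℕ} {A A' : Prop} (h : QPar q t A A') (hq : ¬ (t = q ∧ Odd q)) :
    A ↔ t = q ∨ t = q ^ 2 := by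
  rcases h.2 with h | h | ⟨h0, r, hr, rfl, h1⟩
  · exact iff_of_true h.1 h.2
  · exact absurd ⟨h.2.1, h.2.2.1⟩ hq
  · have h2 := Nat.pow_right_injective hr.two_le
    refine iff_of_false h0 ?_
    rw [← pow_mul]
    rcases h1 with rfl | rfl <;> rintro (e | e)
    · exact absurd (h2 ((pow_one _).trans e)) (by decide)
    · exact absurd (h2 ((pow_one _).trans e)) (by decide)
    · exact absurd (h2 e) (by decide)
    · exact absurd (h2 e) (by decide)

theorem QPar.or {q t : ℕ} {A A' : Prop} (h : QPar q t A A') (h' : QPar t q A' A) : A ∨ A' := by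
  rcases h.2 with h | h | ⟨-, r, hr, rfl, h1⟩
  · exact Or.inl h.1
  · exact Or.inr h.2.2.2
  rcases h'.2 with h | h | ⟨-, s, hs, rfl, h2⟩
  · exact Or.inr h.1
  · exact Or.inl h.2.2.2
  have h3 := Nat.pow_right_injective hr.two_le
  have h4 := Nat.pow_right_injective hs.two_le
  exfalso
  rcases h1 with rfl | h1 <;> rcases h2 with h2 | h2
  · exact absurd (h4 ((pow_mul s 2 2).trans (h2.trans (pow_one s).symm))) (by decide)
  · exact absurd (h4 ((pow_mul s 2 2).trans h2)) (by decide)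
  · subst h2; exact absurd (h3 ((pow_mul r 2 2).trans h1)) (by decide)
  · exact absurd (h4 (show s ^ 4 = s ^ 9 by
      rw [show s ^ 4 = (s ^ 2) ^ 2 by ring, h1, show (r ^ 3) ^ 2 = (r ^ 2) ^ 3 by ring, h2]; ring))
      (by decide)

section

variable {B : Type} {W : Type*} [Group W] {M : CoxeterMatrix B} {cs : CoxeterSystem M W} [Sph cs]
  [Finite W] [Finite B] {C : Type*} [Finite C] {X : Bd cs Set.univ C} {a : W → C} {i j k : B}
  {r : B → ℕ} {G : Type*} [Group G] [IsSimpleGroup G] {ρ : G →* Equiv.Perm C}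

omit [Finite B] in
theorem Grow.noIso (h : Grow M j k r) : NoIso M Set.univ := fun t _ => by
  by_cases h1 : t = j
  · exact ⟨k, trivial, by rcases h.edge with e | e <;> simp [h1, e]⟩
  by_cases h2 : t = k
  · exact ⟨j, trivial, by rcases h.edge with e | e <;> simp [h2, M.symmetric k j, e]⟩
  obtain ⟨u, -, -, -, e, -⟩ := h.step t h1 h2
  exact ⟨u, trivial, e.ge⟩

theorem iso_of_isoA (hg : Grow M j k r) (hρ : Function.Injective ρ) (hw : X.WT ρ.range)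
    (ha : X.IsApt Set.univ a) {C' : Type} [Finite C'] {Y : Bd cs Set.univ C'} {b : W → C'}
    (hb : Y.IsApt Set.univ b) {H : Type} [Group H]
    (hH : ∀ G : Subgroup (Equiv.Perm C'), IsSimpleGroup G → Y.WT G → Nonempty (G ≃* H))
    {φ : C → C'} (hφ : X.IsoA Y {j, k} a b φ) : Nonempty (G ≃* H) := by
  obtain ⟨F, hF⟩ := exists_iso hg ha hb hφ
  have e := MonoidHom.ofInjective (f := F.permCongrHom.toMonoidHom.comp ρ)
    (F.permCongrHom.injective.comp hρ)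
  refine (hH _ e.symm.isSimpleGroup ⟨?_, fun c d c' d' h => ?_⟩).map e.trans
  · rintro _ ⟨g, rfl⟩ x y
    obtain ⟨x, rfl⟩ := F.surjective x
    obtain ⟨y, rfl⟩ := F.surjective y
    simpa [hF] using hw.1 ⟨g, rfl⟩ x y
  · obtain ⟨_, ⟨g, rfl⟩, h1, h2⟩ := hw.2 (F.symm c) (F.symm d) (F.symm c') (F.symm d') (by
      simpa [← hF] using h)
    exact ⟨_, ⟨g, rfl⟩, by simp [h1], by simp [h2]⟩

theorem lieP_simply (hF : FH M) (hg : Grow M i j r) (h : Rk3 M i j k) (hρ : Function.Injective ρ)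
    (hw : X.WT ρ.range) (ha : X.IsApt Set.univ a)
    (hk : ∀ q, IsPrimePow q → ∃ (H : Type) (_ : Group H), Kn M (fun _ => q) H) : LieP G := by
  have : Nonempty B := ⟨i⟩
  obtain ⟨H, _, hH⟩ := hk _ (tri_par hF h (Set.subset_univ _) ha)
  obtain ⟨C', _, Y, b, -, hb, h1, -, -, h2⟩ := hH.model cs hg.noIso
  obtain ⟨φ, hφ⟩ := tri_iso hF h (Set.subset_univ _) ha hb (h1 i).symm
  obtain ⟨e⟩ := iso_of_isoA hg hρ hw ha hb h2 hφ
  exact hH.2.2.1.of_mulEquiv e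

theorem lieP_forced (hF : FH M) (hg : Grow M j k r) (h : Rk3 M i j k) (h4 : M j k = 4)
    (hρ : Function.Injective ρ) (hw : X.WT ρ.range) (ha : X.IsApt Set.univ a) {q : B → ℕ}
    (hj : X.par j (a 1) = q j) (hk : X.par k (a 1) = q k) (hq : ¬ (q k = q j ∧ Odd (q j)))
    (hH : ∃ (H : Type) (_ : Group H), Kn M q H) : LieP G := by
  have : Nonempty B := ⟨i⟩
  obtain ⟨H, _, hH⟩ := hH
  obtain ⟨C', _, Y, b, -, hb, h1, -, -, h2⟩ := hH.model cs hg.noIso
  have h5 := quad_par hF h h4 (Set.subset_univ _) ha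
  have h6 := quad_par hF h h4 (Set.subset_univ _) hb
  rw [hj, hk] at h5
  rw [h1, h1] at h6
  obtain ⟨φ, hφ⟩ := quad_iso hF h h4 (Set.subset_univ _) ha hb (hj.trans (h1 j).symm)
    (hk.trans (h1 k).symm) ((h5.iff hq).trans (h6.iff hq).symm)
  obtain ⟨e⟩ := iso_of_isoA hg hρ hw ha hb h2 hφ
  exact hH.2.2.1.of_mulEquiv e

theorem lieP_two (hF : FH M) (hg : Grow M j k r) (h : Rk3 M i j k) (h4 : M j k = 4)
    (hρ : Function.Injective ρ) (hw : X.WT ρ.range) (ha : X.IsApt Set.univ a) {q : B → ℕ}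
    (hj : X.par j (a 1) = q j) (hk : X.par k (a 1) = q k) (hH : ∃ (H : Type) (_ : Group H)
      (H' : Type) (_ : Group H'), Kn M q H ∧ Kn M q H' ∧ IsEmpty (H ≃* H')) : LieP G := by
  have : Nonempty B := ⟨i⟩
  obtain ⟨H, _, H', _, hH, hH', he⟩ := hH
  obtain ⟨C₁, _, Y, b, σ, hb, h1, h2, h3, h5⟩ := hH.model cs hg.noIso
  obtain ⟨C₂, _, Y', b', -, hb', h1', -, -, h5'⟩ := hH'.model cs hg.noIso
  by_cases h6 : X.Kind j k a ↔ Y.Kind j k b
  · obtain ⟨φ, hφ⟩ := quad_iso hF h h4 (Set.subset_univ _) ha hb (hj.trans (h1 j).symm)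
      (hk.trans (h1 k).symm) h6
    obtain ⟨e⟩ := iso_of_isoA hg hρ hw ha hb h5 hφ
    exact hH.2.2.1.of_mulEquiv e
  by_cases h7 : X.Kind j k a ↔ Y'.Kind j k b'
  · obtain ⟨φ, hφ⟩ := quad_iso hF h h4 (Set.subset_univ _) ha hb' (hj.trans (h1' j).symm)
      (hk.trans (h1' k).symm) h7
    obtain ⟨e⟩ := iso_of_isoA hg hρ hw ha hb' h5' hφ
    exact hH'.2.2.1.of_mulEquiv e
  obtain ⟨φ, hφ⟩ := quad_iso hF h h4 (Set.subset_univ _) hb hb' ((h1 j).trans (h1' j).symm)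
    ((h1 k).trans (h1' k).symm) (by tauto)
  have := hH.2.1
  obtain ⟨e⟩ := iso_of_isoA hg h2 h3 hb hb' h5' hφ
  exact he.elim e

end

theorem A_apply {n : ℕ} (i j : Fin n) : CoxeterMatrix.A n i j =
    if (i : ℕ) = j then 1 else if (j : ℕ) + 1 = i ∨ (i : ℕ) + 1 = j then 3 else 2 := by
  simp [CoxeterMatrix.A, Fin.ext_iff]

theorem B_apply {n : ℕ} (i j : Fin n) : CoxeterMatrix.B n i j =
    if (i : ℕ) = j then 1 else if (i : ℕ) = n - 1 ∧ (j : ℕ) = n - 2 ∨ (j : ℕ) = n - 1 ∧ (i : ℕ) = n - 2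
      then 4 else if (j : ℕ) + 1 = i ∨ (i : ℕ) + 1 = j then 3 else 2 := by
  simp [CoxeterMatrix.B, Fin.ext_iff]

theorem D_apply {n : ℕ} (i j : Fin n) : MD n i j = if (i : ℕ) = j then 1 else
    if ((i : ℕ) + 1 = j ∧ (j : ℕ) + 1 ≠ n) ∨ ((j : ℕ) + 1 = i ∧ (i : ℕ) + 1 ≠ n) ∨
      ((i : ℕ) + 2 = j ∧ (j : ℕ) + 1 = n) ∨ ((j : ℕ) + 2 = i ∧ (i : ℕ) + 1 = n) then 3 else 2 := by
  simp [MD, Fin.ext_iff]

theorem grow_A {n : ℕ} :
    Grow (CoxeterMatrix.A (n + 3)) ⟨0, by omega⟩ ⟨1, by omega⟩ Fin.val := by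
  refine ⟨Fin.val_injective, rfl, rfl, Or.inl (by simp [A_apply]), fun t h0 h1 => ?_⟩
  simp only [Ne, Fin.ext_iff, A_apply] at *
  exact ⟨⟨t - 1, by omega⟩, ⟨t - 2, by omega⟩, by grind⟩

theorem grow_D {n : ℕ} : Grow (MD (n + 4)) ⟨0, by omega⟩ ⟨1, by omega⟩ Fin.val := by
  refine ⟨Fin.val_injective, rfl, rfl, Or.inl (by simp [D_apply]), fun t h0 h1 => ?_⟩
  simp only [Ne, Fin.ext_iff, D_apply] at *
  have h3 := t.2
  by_cases h4 : (t : ℕ) = n + 3
  · exact ⟨⟨n + 1, by omega⟩, ⟨n, by omega⟩, by grind⟩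
  · exact ⟨⟨t - 1, by omega⟩, ⟨t - 2, by omega⟩, by grind⟩

theorem grow_B {n : ℕ} : Grow (CoxeterMatrix.B (n + 3)) ⟨n + 1, by omega⟩ ⟨n + 2, by omega⟩
    fun t => if (t : ℕ) = n + 2 then 1 else if (t : ℕ) = n + 1 then 0 else n + 2 - t := by
  refine ⟨fun s t h => Fin.ext (by have := s.2; have := t.2; grind), by simp, by simp,
    Or.inr (by simp [B_apply]), fun t h0 h1 => ?_⟩
  simp only [Ne, Fin.ext_iff, B_apply] at *
  have h3 := t.2
  exact ⟨⟨t + 1, by omega⟩, ⟨t + 2, by omega⟩, by grind⟩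

theorem grow_fin {n : ℕ} (M : CoxeterMatrix (Fin n)) (j k : Fin n) (r : Fin n → ℕ)
    (p g : Fin n → Fin n) (h : (∀ s t, r s = r t → s = t) ∧ r j = 0 ∧ r k = 1 ∧
      (M j k = 3 ∨ M j k = 4) ∧ (∀ t, t = j ∨ t = k ∨ (r (p t) < r t ∧ r (g t) < r t ∧
        M t (p t) = 3 ∧ (M (g t) (p t) = 3 ∨ M (g t) (p t) = 4))) ∧
          ∀ t u, t = j ∨ t = k ∨ r t ≤ r u ∨ u = p t ∨ M t u = 2) : Grow M j k r :=
  ⟨h.1, h.2.1, h.2.2.1, h.2.2.2.1, fun t h1 h2 => by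
    obtain ⟨h3, h4, h5, h6⟩ := ((h.2.2.2.2.1 t).resolve_left h1).resolve_left h2
    exact ⟨p t, g t, h3, h4, h5, h6, fun u h7 h8 => ((((h.2.2.2.2.2 t u).resolve_left h1).resolve_left
      h2).resolve_left h7.not_ge).resolve_left h8⟩⟩

set_option backward.isDefEq.respectTransparency false in
theorem grow_F : Grow CoxeterMatrix.F₄ 1 2 ![2, 0, 1, 3] :=
  grow_fin _ _ _ _ ![1, 0, 0, 2] ![2, 0, 0, 1] (by decide +kernel)

set_option backward.isDefEq.respectTransparency false in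
theorem grow_E6 : Grow CoxeterMatrix.E₆ 0 2 ![0, 3, 1, 2, 4, 5] :=
  grow_fin _ _ _ _ ![0, 3, 0, 2, 3, 4] ![0, 2, 0, 0, 2, 3] (by decide +kernel)

set_option backward.isDefEq.respectTransparency false in
theorem grow_E7 : Grow CoxeterMatrix.E₇ 0 2 ![0, 3, 1, 2, 4, 5, 6] :=
  grow_fin _ _ _ _ ![0, 3, 0, 2, 3, 4, 5] ![0, 2, 0, 0, 2, 3, 4] (by decide +kernel)

set_option backward.isDefEq.respectTransparency false in
theorem grow_E8 : Grow CoxeterMatrix.E₈ 0 2 ![0, 3, 1, 2, 4, 5, 6, 7] :=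
  grow_fin _ _ _ _ ![0, 3, 0, 2, 3, 4, 5, 6] ![0, 2, 0, 0, 2, 3, 4, 5] (by decide +kernel)

set_option backward.isDefEq.respectTransparency false in
theorem F_rev (i j : Fin 4) : CoxeterMatrix.F₄ i.rev j.rev = CoxeterMatrix.F₄ i j := by
  revert i j; decide +kernel

section

variable {W : Type*} [Group W] [Finite W] {C : Type*} [Finite C] {a : W → C}
  {G : Type*} [Group G] [IsSimpleGroup G] {ρ : G →* Equiv.Perm C}

theorem lieP_B {n : ℕ} {cs : CoxeterSystem (CoxeterMatrix.B (n + 3)) W} [Sph cs]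
    {X : Bd cs Set.univ C} (hF : FH (CoxeterMatrix.B (n + 3))) (hρ : Function.Injective ρ)
    (hw : X.WT ρ.range) (ha : X.IsApt Set.univ a) : LieP G := by
  have h4 : CoxeterMatrix.B (n + 3) ⟨n + 1, by omega⟩ ⟨n + 2, by omega⟩ = 4 := by
    simp [B_apply]
  have h : Rk3 (CoxeterMatrix.B (n + 3)) ⟨n, by omega⟩ ⟨n + 1, by omega⟩ ⟨n + 2, by omega⟩ :=
    ⟨by simp [B_apply], Or.inr h4, by rw [B_apply]; grind⟩
  have h5 := quad_par hF h h4 (Set.subset_univ _) ha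
  have hn : 3 ≤ n + 3 := by omega
  have hq := h5.1
  have key : ∀ {q t : ℕ}, X.par ⟨n + 1, by omega⟩ (a 1) = q → X.par ⟨n + 2, by omega⟩ (a 1) = t →
      ¬ (t = q ∧ Odd q) → (∃ (H : Type) (_ : Group H), Kn (CoxeterMatrix.B (n + 3))
        (qB (n + 3) q t) H) → LieP G := fun h1 h2 h3 =>
    lieP_forced hF grow_B h h4 hρ hw ha (by simpa [qB] using h1) (by simpa [qB] using h2)
      (by simpa [qB] using h3)
  have same : X.par ⟨n + 2, by omega⟩ (a 1) = X.par ⟨n + 1, by omega⟩ (a 1) → LieP G := fun e => by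
    by_cases ho : Odd (X.par ⟨n + 1, by omega⟩ (a 1))
    · exact lieP_two hF grow_B h h4 hρ hw ha (by simp [qB]) (by simpa [qB] using e) (kn_odd hn hq ho)
    · exact key rfl e (fun h => ho h.2) (kn_Sp hn hq)
  rcases h5.2 with ⟨-, e | e⟩ | ⟨-, e, -⟩ | ⟨-, r, hr, e, e' | e'⟩
  · exact same e
  · exact key rfl e (fun h => absurd (Nat.pow_right_injective hq.two_le
      (h.1.trans (pow_one _).symm)) (by decide)) (kn_Om hn hq)
  · exact same e
  · exact key e e' (fun h => absurd (Nat.pow_right_injective hr.two_le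
      ((pow_one _).trans h.1)) (by decide)) (kn_U0 hn hr)
  · exact key e e' (fun h => absurd (Nat.pow_right_injective hr.two_le h.1) (by decide))
      (kn_U1 hn hr)

variable {cs : CoxeterSystem CoxeterMatrix.F₄ W} [Sph cs]

theorem exists_kind (hF : FH CoxeterMatrix.F₄) (X : Bd cs Set.univ C) (ha : X.IsApt Set.univ a) :
    ∃ (X' : Bd cs Set.univ C) (a' : W → C) (e : Fin 4 ≃ Fin 4), X'.IsApt Set.univ a' ∧
      X'.Kind 1 2 a' ∧ (∀ G, X'.WT G ↔ X.WT G) ∧ ∀ i, X'.par (e i) (a' 1) = X.par i (a 1) := by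
  rcases (quad_par (i := 0) (j := 1) (k := 2) hF ⟨rfl, Or.inr rfl, rfl⟩ rfl (Set.subset_univ _)
    ha).or (quad_par (i := 3) hF ⟨rfl, Or.inr rfl, rfl⟩ rfl (Set.subset_univ _) ha) with h | h
  · exact ⟨X, a, Equiv.refl _, ha, h, fun _ => Iff.rfl, fun _ => rfl⟩
  · obtain ⟨f, hf⟩ := exists_isCI cs cs Fin.revPerm F_rev
    exact ⟨X.map hf, _, Fin.revPerm, X.map_isApt hf ha, (X.map_kind hf 2 1 a).2 h,
      fun _ => X.map_wt hf, fun i => by rw [map_one, X.map_par hf]⟩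

theorem lieP_F {X : Bd cs Set.univ C} (hF : FH CoxeterMatrix.F₄) (hρ : Function.Injective ρ)
    (hw : X.WT ρ.range) (ha : X.IsApt Set.univ a) : LieP G := by
  obtain ⟨X, a, -, ha, hK, h0, -⟩ := exists_kind hF X ha
  rw [← h0] at hw
  have h : Rk3 CoxeterMatrix.F₄ 0 1 2 := ⟨rfl, Or.inr rfl, rfl⟩
  have h5 := quad_par hF h rfl (Set.subset_univ _) ha
  have hq := h5.1
  rcases (h5.2.resolve_right (by tauto)).2 with e | e
  · obtain ⟨H, _, hH⟩ := kn_F4 hq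
    obtain ⟨C', _, Y, b, -, hb, h1, -, -, h2⟩ := hH.model cs grow_F.noIso
    obtain ⟨Y, b, e', hb, hK', h3, h4⟩ := exists_kind hF Y hb
    have h6 : ∀ i, Y.par i (b 1) = X.par 1 (a 1) := fun i => by
      rw [← e'.apply_symm_apply i, h4, h1]
    obtain ⟨φ, hφ⟩ := quad_iso hF h rfl (Set.subset_univ _) ha hb (h6 1).symm (e.trans (h6 2).symm)
      (iff_of_true hK hK')
    obtain ⟨e⟩ := iso_of_isoA grow_F hρ hw ha hb (fun G h h' => h2 G h ((h3 G).1 h')) hφ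
    exact hH.2.2.1.of_mulEquiv e
  · exact lieP_forced hF grow_F h rfl hρ hw ha (q := ![_, _, _, _]) rfl e (fun h => absurd
      (Nat.pow_right_injective hq.two_le (h.1.trans (pow_one _).symm)) (by decide)) (kn_2E6 hq)

end

variable {G : Type*} [Group G] [Finite G] [IsSimpleGroup G] (P : Cfsg.BNPair G)

theorem lieP_of_ty [Nonempty P.S] {n : ℕ} {M : CoxeterMatrix (Fin n)} (h : IsTy P.coxM M)
    (H : ∀ [Finite M.Group] [Sph M.toCoxeterSystem] (X : Bd M.toCoxeterSystem Set.univ (G ⧸ P.B))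
      (a : M.Group → G ⧸ P.B) (ρ : G →* Equiv.Perm (G ⧸ P.B)), FH M → Function.Injective ρ →
        X.WT ρ.range → X.IsApt Set.univ a → LieP G) : LieP G := by
  obtain ⟨e, he⟩ := h
  have he' : ∀ i j, M (e.symm i) (e.symm j) = P.coxM i j := fun i j => by simp [← he]
  obtain ⟨f, hf⟩ := exists_isCI P.cs M.toCoxeterSystem e.symm he'
  have := sph_cs P
  have := hf.sph he'
  have : Finite M.Group := Finite.of_equiv _ f.toEquiv
  obtain ⟨d, hd⟩ := exists_δ (X := (ofBN P).map hf) ((1 : G) : G ⧸ P.B) (wl_mem _ _)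
  obtain ⟨a, ha, -⟩ := exists_apt subset_rfl hd
  exact H _ a _ (fun i j hij => he i j ▸ fh_coxM P _ _ (e.injective.ne hij)) (ofBN_inj P)
    (((ofBN P).map_wt hf).2 (ofBN_wt P)) ha

/-- Tits' theorem on (B,N)-pairs of rank at least three. -/
theorem lieP_of_bn (h3 : 3 ≤ P.rank) (hirr : P.Irreducible) : LieP G := by
  classical
  have := Fintype.ofFinite P.S
  have h4 : 3 ≤ Fintype.card P.S := by rwa [← Nat.card_eq_fintype_card]
  have : Nonempty P.S := Fintype.card_pos_iff.1 (by omega)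
  have hF := fh_coxM P
  have hc := conn_coxM P hirr
  rcases cox_class hF hc (posDef_gram P.cs hF hc) h4 with ⟨n, hn, h⟩ | ⟨n, hn, h⟩ | ⟨n, hn, h⟩ |
    h | h | h | h
  · obtain ⟨n, rfl⟩ := Nat.exists_eq_add_of_le' hn
    exact lieP_of_ty P h fun X a ρ hF h1 h2 h3 => lieP_simply (k := ⟨2, by omega⟩) hF grow_A
      ⟨by simp [A_apply], Or.inl (by simp [A_apply]), by simp [A_apply]⟩ h1 h2 h3 fun q => kn_A hn
  · obtain ⟨n, rfl⟩ := Nat.exists_eq_add_of_le' hn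
    exact lieP_of_ty P h fun X a ρ => lieP_B
  · obtain ⟨n, rfl⟩ := Nat.exists_eq_add_of_le' hn
    exact lieP_of_ty P h fun X a ρ hF h1 h2 h3 => lieP_simply (k := ⟨2, by omega⟩) hF grow_D
      ⟨by simp [D_apply], Or.inl (by simp [D_apply]), by simp [D_apply]⟩ h1 h2 h3 fun q => kn_D hn
  · exact lieP_of_ty P h fun X a ρ hF h1 h2 h3 => lieP_simply (k := 3) hF grow_E6
      ⟨rfl, Or.inl rfl, rfl⟩ h1 h2 h3 fun q => kn_E6
  · exact lieP_of_ty P h fun X a ρ hF h1 h2 h3 => lieP_simply (k := 3) hF grow_E7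
      ⟨rfl, Or.inl rfl, rfl⟩ h1 h2 h3 fun q => kn_E7
  · exact lieP_of_ty P h fun X a ρ hF h1 h2 h3 => lieP_simply (k := 3) hF grow_E8
      ⟨rfl, Or.inl rfl, rfl⟩ h1 h2 h3 fun q => kn_E8
  · exact lieP_of_ty P h fun X a ρ => lieP_F

end Cfsg.Agent.Bld
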